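import Cfsg.Agent.H786.Core
set_option linter.all false

-- part: H786/SE
section
/-!
# Strongly embedded subgroups with a given Sylow subgroup (helper786)
-/

set_option autoImplicit false

namespace Cfsg.Agent.H786

open Subgroup

universe u v

/-- `R` is a Sylow `p`-subgroup of `Γ` contained in `H`, and `R ∩ gHg⁻¹ = 1` for `g ∉ H`. -/
structure SE {Γ : Type v} [Group Γ] (p : ℕ) (H R : Subgroup Γ) : Prop where
  le : R ≤ H
  pgroup : IsPGroup p R
  index : ¬ p ∣ R.index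
  emb : ∀ g, g ∉ H → ∀ u ∈ R, g⁻¹ * u * g ∈ H → u = 1
  ne : H ≠ ⊤

namespace SE

variable {Γ : Type v} [Group Γ] [Finite Γ] {p : ℕ} [hp : Fact p.Prime] {H R : Subgroup Γ}

/-- every `p`-subgroup is conjugate into `R` -/
theorem exists_conj (h : SE p H R) {S : Subgroup Γ} (hS : IsPGroup p S) :
    ∃ g : Γ, ∀ s ∈ S, g⁻¹ * s * g ∈ R := by
  obtain ⟨Q, hQ⟩ := hS.exists_le_sylow
  let RS : Sylow p Γ := h.pgroup.toSylow h.index
  obtain ⟨g, hg⟩ := MulAction.exists_smul_eq Γ RS Q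
  refine ⟨g, fun s hs => ?_⟩
  have h1 : s ∈ ((g • RS : Sylow p Γ) : Subgroup Γ) := by rw [hg]; exact hQ hs
  rw [Sylow.coe_subgroup_smul, Subgroup.mem_pointwise_smul_iff_inv_smul_mem] at h1
  have h2 : g⁻¹ * s * g ∈ (RS : Subgroup Γ) := by
    simpa [MulAut.smul_def, MulAut.conj_apply] using h1
  exact h2

theorem emb_all (h : SE p H R) {u : Γ} (hu : u ∈ H) (hup : IsPGroup p (zpowers u)) (hu1 : u ≠ 1)
    {g : Γ} (hg : g⁻¹ * u * g ∈ H) : g ∈ H := by
  obtain ⟨y, hy⟩ := h.exists_conj hup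
  have h1 : y⁻¹ * u * y ∈ R := hy u (mem_zpowers u)
  -- `y ∈ H`
  have hyH : y ∈ H := by
    by_contra hyH
    have h2 : y⁻¹ * u * y = 1 := by
      apply h.emb y⁻¹ (fun h3 => hyH (by simpa using H.inv_mem h3)) _ h1
      rw [inv_inv]
      have : y * (y⁻¹ * u * y) * y⁻¹ = u := by group
      rw [this]
      exact hu
    apply hu1
    have h3 : u = y * (y⁻¹ * u * y) * y⁻¹ := by group
    rw [h3, h2]
    group
  by_contra hgH
  have h2 : y⁻¹ * u * y = 1 := by
    apply h.emb (y⁻¹ * g) (fun h3 => hgH ?_) _ h1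
    · have : (y⁻¹ * g)⁻¹ * (y⁻¹ * u * y) * (y⁻¹ * g) = g⁻¹ * u * g := by group
      rw [this]
      exact hg
    · have := H.mul_mem hyH h3
      simpa using this
  apply hu1
  have h3 : u = y * (y⁻¹ * u * y) * y⁻¹ := by group
  rw [h3, h2]
  group

theorem centralizer_le (h : SE p H R) {u : Γ} (hu : u ∈ H) (hup : IsPGroup p (zpowers u))
    (hu1 : u ≠ 1) {g : Γ} (hg : Commute g u) : g ∈ H := by
  apply h.emb_all hu hup hu1 (g := g)
  have : g⁻¹ * u * g = u := by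
    rw [mul_assoc, ← hg.eq, inv_mul_cancel_left]
  rw [this]
  exact hu

theorem pgroup_le (h : SE p H R) {S : Subgroup Γ} (hS : IsPGroup p S) {u : Γ} (hu : u ∈ H)
    (huS : u ∈ S) (hu1 : u ≠ 1) : S ≤ H := by
  have hz : ∀ y ∈ S, IsPGroup p (zpowers y) := fun y hy => hS.to_le (zpowers_le.mpr hy)
  have hSn : Nontrivial S := ⟨⟨u, huS⟩, 1, fun h => hu1 (congrArg Subtype.val h)⟩
  have hfin : Finite S := inferInstance
  have hc : Nontrivial (center S) := hS.center_nontrivial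
  obtain ⟨⟨⟨z, hzS⟩, hzc⟩, hz1⟩ := exists_ne (1 : center S)
  have hz1' : z ≠ 1 := fun e => hz1 (Subtype.ext (Subtype.ext e))
  have hcomm : ∀ y ∈ S, Commute y z := by
    intro y hy
    have := mem_center_iff.mp hzc ⟨y, hy⟩
    exact congrArg Subtype.val this
  have hzH : z ∈ H := h.centralizer_le hu (hz u huS) hu1 (hcomm u huS).symm
  intro y hy
  exact h.centralizer_le hzH (hz z hzS) hz1' (hcomm y hy)

theorem normalizer_le (h : SE p H R) {S : Subgroup Γ} (hS : IsPGroup p S) {u : Γ} (hu : u ∈ H)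
    (huS : u ∈ S) (hu1 : u ≠ 1) {g : Γ} (hg : ∀ y ∈ S, g⁻¹ * y * g ∈ S) : g ∈ H := by
  have h1 := h.pgroup_le hS hu huS hu1
  exact h.emb_all hu (hS.to_le (zpowers_le.mpr huS)) hu1 (h1 (hg u huS))

/-- Frattini argument for a normal subgroup meeting `R` nontrivially -/
theorem frattini (h : SE p H R) {N : Subgroup Γ} [hN : N.Normal] {u : Γ} (hu : u ∈ N)
    (huR : u ∈ R) (hu1 : u ≠ 1) (g : Γ) : ∃ y ∈ N, ∃ k ∈ H, g = y * k := by
  have hup : IsPGroup p (zpowers u) := h.pgroup.to_le (zpowers_le.mpr huR)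
  have hup' : IsPGroup p ((zpowers u).subgroupOf N) := hup.comap_subtype
  obtain ⟨Q, hQ⟩ := hup'.exists_le_sylow
  have h1 := Sylow.normalizer_sup_eq_top Q
  have huQ : u ∈ (Q : Subgroup N).map N.subtype :=
    ⟨⟨u, hu⟩, hQ (mem_subgroupOf.mpr (mem_zpowers u)), rfl⟩
  have hQp : IsPGroup p ((Q : Subgroup N).map N.subtype) := Q.isPGroup'.map _
  have hle : normalizer ((Q : Subgroup N).map N.subtype : Set Γ) ≤ H := by
    intro y hy
    refine h.normalizer_le hQp (h.le huR) huQ hu1 ?_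
    intro z hz
    have := (mem_normalizer_iff.mp (Subgroup.inv_mem _ hy) z).mp hz
    simpa using this
  have hg : g ∈ ((⊤ : Subgroup Γ) : Set Γ) := mem_top g
  rw [← h1, sup_comm, Subgroup.normal_mul] at hg
  obtain ⟨y, hy, k, hk, rfl⟩ := hg
  exact ⟨y, hy, k, hle hk, rfl⟩

end SE

end Cfsg.Agent.H786
end

-- part: H786/CfgBasic
section
/-!
# First consequences of the core configuration (helper786)
-/

set_option autoImplicit false

namespace Cfsg.Agent.H786

open Subgroup Cfsg.Agent.H467.MaxClass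
open scoped commutatorElement

universe u v

namespace Cfg

variable {P : Type u} [Group P] [Finite P] {p n : ℕ} [hp : Fact p.Prime] {W : ℕ → Subgroup P}
  [hW1 : (W 1).Normal] {A : Subgroup (MulAut (W 1))} {E V : Subgroup P} {Γ : Type v} [Group Γ]
  [Finite Γ] {ρ : Γ →* MulAut V} {H : Subgroup Γ} {τ : (normalizer (E : Set P)) →* Γ}

theorem pgroup (c : Cfg p n W A E V ρ H τ) : IsPGroup p P := by
  have := c.mc.card_group
  exact IsPGroup.of_card this

theorem V_le_E (c : Cfg p n W A E V ρ H τ) : V ≤ E := fun v hv => ((c.mem_V v).mp hv).1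

theorem V_le (c : Cfg p n W A E V ρ H τ) : V ≤ W 1 := c.V_le_E.trans c.E_le

theorem V_pow (c : Cfg p n W A E V ρ H τ) {v : P} (hv : v ∈ V) : v ^ p = 1 :=
  ((c.mem_V v).mp hv).2.1

theorem V_comm (c : Cfg p n W A E V ρ H τ) {v e : P} (hv : v ∈ V) (he : e ∈ E) : Commute e v :=
  ((c.mem_V v).mp hv).2.2 e he

theorem se (c : Cfg p n W A E V ρ H τ) : SE p H τ.range where
  le := by
    rintro _ ⟨s, rfl⟩
    exact c.τ_mem s
  pgroup := (c.pgroup.to_subgroup _).of_surjective τ.rangeRestrict τ.rangeRestrict_surjective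
  index := c.sylowΓ
  emb := by
    rintro g hg _ ⟨s, rfl⟩ hs
    exact c.emb g hg s hs
  ne := c.H_ne

/-- the elements of `Γ` acting trivially on the part of `U` in `V` -/
def kerOn (ρ : Γ →* MulAut V) (U : Subgroup P) : Subgroup Γ where
  carrier := {g | ∀ u : V, (u : P) ∈ U → ρ g u = u}
  one_mem' := fun u _ => by simp
  mul_mem' := by
    intro g g' hg hg' u hu
    rw [map_mul, MulAut.mul_apply, hg' u hu, hg u hu]
  inv_mem' := by
    intro g hg u hu
    rw [map_inv]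
    have := hg u hu
    conv_lhs => rw [← this]
    simp

omit [Finite P] [Finite Γ] in
theorem mem_kerOn {U : Subgroup P} {g : Γ} : g ∈ kerOn ρ U ↔ ∀ u : V, (u : P) ∈ U → ρ g u = u :=
  Iff.rfl

omit [Finite P] [Finite Γ] in
theorem kerOn_normal {U : Subgroup P} (hU : GInv ρ U) : (kerOn ρ U).Normal := by
  refine ⟨fun k hk g u hu => ?_⟩
  have h1 := hU g⁻¹ u hu
  rw [map_mul, map_mul, MulAut.mul_apply, MulAut.mul_apply, hk _ h1]
  simp

/-- **Lemma F.** If some element of `N_P(E) - E` centralizes a `Γ`-invariant subgroup `U` of `V`,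
then every `A`-invariant subgroup of `U` is `Γ`-invariant. -/
theorem lemmaF (c : Cfg p n W A E V ρ H τ) {U B : Subgroup P} (hU : GInv ρ U)
    (hBU : B ≤ U) (hB : AInv A B) {s : normalizer (E : Set P)} (hsE : (s : P) ∉ E)
    (hcent : ∀ u ∈ U, Commute (s : P) u) : GInv ρ B := by
  have hN := kerOn_normal hU
  have hs : τ s ∈ kerOn ρ U := by
    intro u hu
    apply Subtype.ext
    rw [c.ρτ, (hcent u hu).eq, mul_inv_cancel_right]
  have hs1 : τ s ≠ 1 := fun h => hsE ((c.ker s).mp h)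
  intro g e he
  obtain ⟨y, hy, k, hk, rfl⟩ := c.se.frattini hs ⟨s, rfl⟩ hs1 g
  obtain ⟨a, haA, -, ha⟩ := c.ext k hk
  have heM : (e : P) ∈ W 1 := c.V_le e.2
  have h1 := ha e ⟨e, heM⟩ rfl
  have h2 : ((ρ k e : V) : P) ∈ B := by
    rw [← h1]
    exact hB a haA _ he
  have h3 := hy (ρ k e) (hBU h2)
  rw [map_mul, MulAut.mul_apply, h3]
  exact h2

end Cfg

end Cfsg.Agent.H786
end

-- part: H786/Coord
section
/-!
# Coordinates on the layers of a p-group of maximal class (helper786)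
-/

set_option autoImplicit false

namespace Cfsg.Agent.H786

open Subgroup Cfsg.Agent.H467.MaxClass
open scoped commutatorElement

universe u v

variable {P : Type u} [Group P] {p n : ℕ} {W : ℕ → Subgroup P}

/-- `φ i` is a coordinate on `W i / W (i + 1)`. -/
structure Coord (p n : ℕ) (W : ℕ → Subgroup P) (φ : ℕ → P → ZMod p) : Prop where
  mul : ∀ i, i < n → ∀ w ∈ W i, ∀ w' ∈ W i, φ i (w * w') = φ i w + φ i w'
  zero : ∀ i, i < n → ∀ w ∈ W i, (φ i w = 0 ↔ w ∈ W (i + 1))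

theorem exists_coord (h : MC P p n W) [hp : Fact p.Prime] :
    ∃ φ : ℕ → P → ZMod p, Coord p n W φ := by
  classical
  have key : ∀ i, ∃ f : P → ZMod p, i < n → (∀ w ∈ W i, ∀ w' ∈ W i, f (w * w') = f w + f w') ∧
      ∀ w ∈ W i, (f w = 0 ↔ w ∈ W (i + 1)) := by
    intro i
    by_cases hi : i < n
    · have hn := h.normal (i + 1)
      have h1 : ((W (i + 1)).subgroupOf (W i)).index = p := h.relIndex i hi
      have hcard : Nat.card (W i ⧸ (W (i + 1)).subgroupOf (W i)) = p := h1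
      let e : (W i ⧸ (W (i + 1)).subgroupOf (W i)) ≃* Multiplicative (ZMod p) :=
        mulEquivOfPrimeCardEq (p := p) hcard (by simp)
      let g : W i →* Multiplicative (ZMod p) := e.toMonoidHom.comp (QuotientGroup.mk' _)
      have hg : ∀ x : W i, g x = 1 ↔ (x : P) ∈ W (i + 1) := by
        intro x
        show e (QuotientGroup.mk' _ x) = 1 ↔ _
        rw [MulEquiv.map_eq_one_iff, QuotientGroup.mk'_apply, QuotientGroup.eq_one_iff,
          mem_subgroupOf]
      refine ⟨fun w => if hw : w ∈ W i then (g ⟨w, hw⟩).toAdd else 0, fun _ => ⟨?_, ?_⟩⟩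
      · intro w hw w' hw'
        simp only [hw, hw', (W i).mul_mem hw hw', dite_true]
        have : g ⟨w * w', (W i).mul_mem hw hw'⟩ = g ⟨w, hw⟩ * g ⟨w', hw'⟩ := by
          rw [← map_mul]
          rfl
        rw [this, toAdd_mul]
      · intro w hw
        simp only [hw, dite_true]
        rw [← hg ⟨w, hw⟩, toAdd_eq_zero]
    · exact ⟨fun _ => 0, fun h => absurd h hi⟩
  choose f hf using key
  exact ⟨f, fun i hi => (hf i hi).1, fun i hi => (hf i hi).2⟩

namespace Coord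

variable {φ : ℕ → P → ZMod p}

theorem one (h : Coord p n W φ) {i : ℕ} (hi : i < n) : φ i 1 = 0 :=
  (h.zero i hi 1 (one_mem _)).mpr (one_mem _)

theorem inv (h : Coord p n W φ) {i : ℕ} (hi : i < n) {w : P} (hw : w ∈ W i) : φ i w⁻¹ = - φ i w := by
  have := h.mul i hi w hw w⁻¹ (inv_mem hw)
  rw [mul_inv_cancel, h.one hi] at this
  exact (neg_eq_of_add_eq_zero_right this.symm).symm

theorem pow (h : Coord p n W φ) {i : ℕ} (hi : i < n) {w : P} (hw : w ∈ W i) (k : ℕ) :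
    φ i (w ^ k) = k * φ i w := by
  induction k with
  | zero => simp [h.one hi]
  | succ k ih => rw [pow_succ, h.mul i hi _ (pow_mem hw k) w hw, ih]; push_cast; ring

theorem zpow (h : Coord p n W φ) {i : ℕ} (hi : i < n) {w : P} (hw : w ∈ W i) (k : ℤ) :
    φ i (w ^ k) = k * φ i w := by
  cases k with
  | ofNat k => rw [Int.ofNat_eq_natCast, zpow_natCast, h.pow hi hw]; simp
  | negSucc k => rw [zpow_negSucc, h.inv hi (pow_mem hw _), h.pow hi hw]; push_cast; ring

theorem mul_right (h : Coord p n W φ) {i : ℕ} (hi : i < n) {w w' : P} (hw : w ∈ W i)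
    (hw' : w' ∈ W (i + 1)) (hle : W (i + 1) ≤ W i) : φ i (w * w') = φ i w := by
  rw [h.mul i hi w hw w' (hle hw'), (h.zero i hi w' (hle hw')).mpr hw', add_zero]

theorem mul_left (h : Coord p n W φ) {i : ℕ} (hi : i < n) {w w' : P} (hw : w ∈ W i)
    (hw' : w' ∈ W (i + 1)) (hle : W (i + 1) ≤ W i) : φ i (w' * w) = φ i w := by
  rw [h.mul i hi w' (hle hw') w hw, (h.zero i hi w' (hle hw')).mpr hw', zero_add]

/-- a generator with coordinate one -/
theorem exists_eq_one (h : Coord p n W φ) (mc : MC P p n W) [hp : Fact p.Prime] {i : ℕ}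
    (hi : i < n) : ∃ w ∈ W i, φ i w = 1 := by
  obtain ⟨w, hw, hw'⟩ := mc.ne_succ hi
  have h1 : φ i w ≠ 0 := fun e => hw' ((h.zero i hi w hw).mp e)
  refine ⟨w ^ ((φ i w)⁻¹).val, pow_mem hw _, ?_⟩
  rw [h.pow hi hw, ZMod.natCast_val, ZMod.cast_id', id_eq, inv_mul_cancel₀ h1]

/-- additive functions on a layer are multiples of the coordinate -/
theorem eq_smul (h : Coord p n W φ) (mc : MC P p n W) [hp : Fact p.Prime] {i : ℕ} (hi : i < n)
    (f : P → ZMod p) (hf : ∀ w ∈ W i, ∀ w' ∈ W i, f (w * w') = f w + f w')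
    (hf0 : ∀ w ∈ W (i + 1), f w = 0) : ∃ c, ∀ w ∈ W i, f w = c * φ i w := by
  obtain ⟨w0, hw0, h1⟩ := h.exists_eq_one mc hi
  have hf1 : f 1 = 0 := hf0 1 (one_mem _)
  have hpow : ∀ w ∈ W i, ∀ k : ℕ, f (w ^ k) = k * f w := by
    intro w hw k
    induction k with
    | zero => simp [hf1]
    | succ k ih => rw [pow_succ, hf _ (pow_mem hw k) w hw, ih]; push_cast; ring
  refine ⟨f w0, fun w hw => ?_⟩
  set k := (φ i w).val with hk
  have hkk : (k : ZMod p) = φ i w := by rw [hk, ZMod.natCast_val, ZMod.cast_id', id_eq]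
  have h2 : (w0 ^ k)⁻¹ * w ∈ W (i + 1) := by
    rw [← h.zero i hi _ (mul_mem (inv_mem (pow_mem hw0 k)) hw),
      h.mul i hi _ (inv_mem (pow_mem hw0 k)) w hw, h.inv hi (pow_mem hw0 k), h.pow hi hw0, h1, hkk]
    ring
  have h3 : w = w0 ^ k * ((w0 ^ k)⁻¹ * w) := by group
  have h4 : f w = f (w0 ^ k) + f ((w0 ^ k)⁻¹ * w) := by
    conv_lhs => rw [h3]
    exact hf _ (pow_mem hw0 k) _ (mc.le_succ i h2)
  rw [h4, hf0 _ h2, hpow w0 hw0, hkk]
  ring

/-- the commutator pairing of two layers -/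
theorem pairing (h : Coord p n W φ) (mc : MC P p n W) [hp : Fact p.Prime] {i j m : ℕ} (hi : i < n)
    (hj : j < n) (hm : m < n) (h1 : ⁅W i, W j⁆ ≤ W m) (h2 : ⁅W (i + 1), W j⁆ ≤ W (m + 1))
    (h3 : ⁅W i, W (j + 1)⁆ ≤ W (m + 1)) :
    ∃ β, ∀ w ∈ W i, ∀ y ∈ W j, φ m ⁅w, y⁆ = β * φ i w * φ j y := by
  have hc : ∀ w ∈ W i, ∀ y ∈ W j, ⁅w, y⁆ ∈ W m := fun w hw y hy =>
    h1 (commutator_mem_commutator hw hy)
  have hconj : ∀ g x : P, x ∈ W m → φ m (g * x * g⁻¹) = φ m x := by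
    intro g x hx
    have e : g * x * g⁻¹ = ⁅g, x⁆ * x := by simp only [commutatorElement_def]; group
    rw [e, h.mul_left hm hx (mc.comm_mem' hx) (mc.le_succ m)]
  have hL : ∀ w ∈ W i, ∀ w' ∈ W i, ∀ y ∈ W j, φ m ⁅w * w', y⁆ = φ m ⁅w, y⁆ + φ m ⁅w', y⁆ := by
    intro w hw w' hw' y hy
    have e : ⁅w * w', y⁆ = (w * ⁅w', y⁆ * w⁻¹) * ⁅w, y⁆ := by
      simp only [commutatorElement_def]; group
    rw [e, h.mul m hm _ (mc.conj_mem (hc w' hw' y hy) w) _ (hc w hw y hy),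
      hconj w _ (hc w' hw' y hy), add_comm]
  have hR : ∀ w ∈ W i, ∀ y ∈ W j, ∀ y' ∈ W j, φ m ⁅w, y * y'⁆ = φ m ⁅w, y⁆ + φ m ⁅w, y'⁆ := by
    intro w hw y hy y' hy'
    have e : ⁅w, y * y'⁆ = ⁅w, y⁆ * (y * ⁅w, y'⁆ * y⁻¹) := by
      simp only [commutatorElement_def]; group
    rw [e, h.mul m hm _ (hc w hw y hy) _ (mc.conj_mem (hc w hw y' hy') y),
      hconj y _ (hc w hw y' hy')]
  have hL0 : ∀ y ∈ W j, ∀ w ∈ W (i + 1), φ m ⁅w, y⁆ = 0 := fun y hy w hw =>
    (h.zero m hm _ (h1 (commutator_mem_commutator (mc.le_succ i hw) hy))).mpr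
      (h2 (commutator_mem_commutator hw hy))
  have hR0 : ∀ w ∈ W i, ∀ y ∈ W (j + 1), φ m ⁅w, y⁆ = 0 := fun w hw y hy =>
    (h.zero m hm _ (h1 (commutator_mem_commutator hw (mc.le_succ j hy)))).mpr
      (h3 (commutator_mem_commutator hw hy))
  obtain ⟨w0, hw0, hw01⟩ := h.exists_eq_one mc hi
  obtain ⟨β, hβ⟩ := h.eq_smul mc hj (fun y => φ m ⁅w0, y⁆) (hR w0 hw0) (hR0 w0 hw0)
  refine ⟨β, fun w hw y hy => ?_⟩
  obtain ⟨c, hcc⟩ := h.eq_smul mc hi (fun w => φ m ⁅w, y⁆) (fun w hw w' hw' => hL w hw w' hw' y hy)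
    (hL0 y hy)
  have e1 := hcc w0 hw0
  have e2 := hcc w hw
  have e3 := hβ y hy
  rw [hw01, mul_one] at e1
  rw [e2, ← e1, e3]
  ring

end Coord

end Cfsg.Agent.H786
end

-- part: H786/Weight
section
/-!
# Weights of the automorphisms normalizing the Sylow subgroup (helper786)
-/

set_option autoImplicit false

namespace Cfsg.Agent.H786

open Subgroup Cfsg.Agent.H467.MaxClass
open scoped commutatorElement

universe u v

variable {P : Type u} [Group P] {p n : ℕ} {W : ℕ → Subgroup P}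

open Classical in
/-- the automorphism `a` of `M` as a function on `P` -/
noncomputable def ap {M : Subgroup P} (a : MulAut M) (x : P) : P :=
  if h : x ∈ M then ((a ⟨x, h⟩ : M) : P) else 1

section ap

variable {M : Subgroup P}

theorem ap_of_mem (a : MulAut M) {x : P} (h : x ∈ M) : ap a x = ((a ⟨x, h⟩ : M) : P) := by
  rw [ap, dif_pos h]

theorem ap_coe (a : MulAut M) (x : M) : ap a (x : P) = ((a x : M) : P) := by
  rw [ap_of_mem a x.2]

theorem ap_mem (a : MulAut M) (x : P) : ap a x ∈ M := by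
  rw [ap]
  split_ifs
  · exact SetLike.coe_mem _
  · exact one_mem _

theorem ap_mul (a : MulAut M) {x y : P} (hx : x ∈ M) (hy : y ∈ M) : ap a (x * y) = ap a x * ap a y := by
  rw [ap_of_mem a hx, ap_of_mem a hy, ap_of_mem a (mul_mem hx hy), ← Subgroup.coe_mul, ← map_mul]
  rfl

theorem ap_one (a : MulAut M) : ap a (1 : P) = 1 := by
  rw [ap_of_mem a (one_mem M)]
  have : (⟨1, one_mem M⟩ : M) = 1 := rfl
  rw [this, map_one]
  rfl

theorem ap_inv (a : MulAut M) {x : P} (hx : x ∈ M) : ap a x⁻¹ = (ap a x)⁻¹ := by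
  rw [ap_of_mem a hx, ap_of_mem a (inv_mem hx), ← Subgroup.coe_inv, ← map_inv]
  rfl

theorem ap_comm (a : MulAut M) {x y : P} (hx : x ∈ M) (hy : y ∈ M) :
    ap a ⁅x, y⁆ = ⁅ap a x, ap a y⁆ := by
  rw [commutatorElement_def, commutatorElement_def,
    ap_mul a (mul_mem (mul_mem hx hy) (inv_mem hx)) (inv_mem hy),
    ap_mul a (mul_mem hx hy) (inv_mem hx), ap_mul a hx hy, ap_inv a hx, ap_inv a hy]

theorem ap_mul_aut (a b : MulAut M) (x : P) (hx : x ∈ M) : ap (a * b) x = ap a (ap b x) := by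
  rw [ap_of_mem _ hx, ap_of_mem b hx, ap_coe]
  rfl

theorem aInv_iff {A : Subgroup (MulAut M)} {B : Subgroup P} :
    AInv A B ↔ ∀ a ∈ A, ∀ x ∈ M, x ∈ B → ap a x ∈ B := by
  constructor
  · intro h a ha x hx hxB
    rw [ap_of_mem a hx]
    exact h a ha ⟨x, hx⟩ hxB
  · intro h a ha e he
    rw [← ap_coe]
    exact h a ha e e.2 he

end ap

/-- `A` normalizes the group induced by `P` -/
def PClosed {P : Type u} [Group P] {M : Subgroup P} [M.Normal] (A : Subgroup (MulAut M)) : Prop :=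
  ∀ a ∈ A, ∀ c ∈ conjGrp M, a * c * a⁻¹ ∈ conjGrp M

variable [hW1 : (W 1).Normal] {A : Subgroup (MulAut (W 1))}

theorem PClosed.exists_conj (h : PClosed A) {a : MulAut (W 1)} (ha : a ∈ A) (y : P) :
    ∃ y' : P, ∀ w ∈ W 1, ap a (y * w * y⁻¹) = y' * ap a w * y'⁻¹ := by
  obtain ⟨y', hy'⟩ := h a ha (MulAut.conjNormal y) ⟨y, rfl⟩
  refine ⟨y', fun w hw => ?_⟩
  have h1 : a * MulAut.conjNormal y = MulAut.conjNormal y' * a := by
    rw [hy', inv_mul_cancel_right]
  have h2 := congrArg (fun f : MulAut (W 1) => ((f ⟨w, hw⟩ : W 1) : P)) h1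
  simp only [MulAut.mul_apply] at h2
  rw [MulAut.conjNormal_apply, ← ap_of_mem a hw, ← ap_coe, MulAut.conjNormal_apply] at h2
  exact h2

theorem PClosed.exists_comm (h : PClosed A) {a : MulAut (W 1)} (ha : a ∈ A) (y : P) :
    ∃ y' : P, ∀ w ∈ W 1, ap a ⁅w, y⁆ = ⁅ap a w, y'⁆ := by
  obtain ⟨y', hy'⟩ := h.exists_conj ha y
  refine ⟨y', fun w hw => ?_⟩
  have e : ⁅w, y⁆ = w * (y * w⁻¹ * y⁻¹) := by simp only [commutatorElement_def]; group
  rw [e, ap_mul a hw (hW1.conj_mem _ (inv_mem hw) y), hy' _ (inv_mem hw), ap_inv a hw]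
  simp only [commutatorElement_def]; group

theorem PClosed.aInv (h : PClosed A) (mc : MC P p n W) [hp : Fact p.Prime] :
    ∀ i, 1 ≤ i → AInv A (W i) := by
  intro i hi
  induction i, hi using Nat.le_induction with
  | base =>
    intro a _ e _
    exact SetLike.coe_mem _
  | succ i hi ih =>
    rw [aInv_iff] at ih ⊢
    intro a ha x hx hxB
    obtain ⟨y', hy'⟩ : ∃ f : P → P, ∀ y, ∀ w ∈ W 1, ap a ⁅w, y⁆ = ⁅ap a w, f y⁆ := by
      choose f hf using fun y => h.exists_comm ha y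
      exact ⟨f, hf⟩
    rw [← mc.comm_eq hi] at hxB
    have hle : W i ≤ W 1 := mc.antitone hi
    have key : ∀ x ∈ ⁅W i, (⊤ : Subgroup P)⁆, ap a x ∈ W (i + 1) := by
      intro x hx
      rw [Subgroup.commutator_def] at hx
      induction hx using Subgroup.closure_induction with
      | mem x hx =>
        obtain ⟨w, hw, y, -, rfl⟩ := hx
        rw [hy' y w (hle hw)]
        exact mc.comm_mem (ih a ha w (hle hw) hw)
      | one => rw [ap_one]; exact one_mem _
      | mul x y hx hy hx' hy' =>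
        have hx1 : x ∈ W 1 := by
          have : x ∈ ⁅W i, (⊤ : Subgroup P)⁆ := by rw [Subgroup.commutator_def]; exact hx
          exact mc.antitone (by omega) (mc.comm_le i this)
        have hy1 : y ∈ W 1 := by
          have : y ∈ ⁅W i, (⊤ : Subgroup P)⁆ := by rw [Subgroup.commutator_def]; exact hy
          exact mc.antitone (by omega) (mc.comm_le i this)
        rw [ap_mul a hx1 hy1]
        exact mul_mem hx' hy'
      | inv x hx hx' =>
        have hx1 : x ∈ W 1 := by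
          have : x ∈ ⁅W i, (⊤ : Subgroup P)⁆ := by rw [Subgroup.commutator_def]; exact hx
          exact mc.antitone (by omega) (mc.comm_le i this)
        rw [ap_inv a hx1]
        exact inv_mem hx'
    exact key x hxB

variable {φ : ℕ → P → ZMod p}

omit hW1 in
/-- the weight of an automorphism on an invariant layer -/
theorem exists_scalar (hφ : Coord p n W φ) (mc : MC P p n W) [hp : Fact p.Prime] {a : MulAut (W 1)}
    (ha : a ∈ A) {i : ℕ} (hi1 : 1 ≤ i) (hi : i < n) (h1 : AInv A (W i)) (h2 : AInv A (W (i + 1))) :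
    ∃ c : ZMod p, c ≠ 0 ∧ ∀ w ∈ W i, φ i (ap a w) = c * φ i w := by
  rw [aInv_iff] at h1 h2
  have hle : W i ≤ W 1 := mc.antitone hi1
  have key : ∀ a ∈ A, ∃ c : ZMod p, ∀ w ∈ W i, φ i (ap a w) = c * φ i w := by
    intro a ha
    apply hφ.eq_smul mc hi (fun w => φ i (ap a w))
    · intro w hw w' hw'
      rw [ap_mul a (hle hw) (hle hw')]
      exact hφ.mul i hi _ (h1 a ha w (hle hw) hw) _ (h1 a ha w' (hle hw') hw')
    · intro w hw
      have hw1 := mc.le_succ i hw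
      exact (hφ.zero i hi _ (h1 a ha w (hle hw1) hw1)).mpr (h2 a ha w (hle hw1) hw)
  obtain ⟨c, hc⟩ := key a ha
  obtain ⟨c', hc'⟩ := key a⁻¹ (inv_mem ha)
  refine ⟨c, ?_, hc⟩
  rintro rfl
  obtain ⟨w, hw, hw1⟩ := hφ.exists_eq_one mc hi
  have e1 := hc (ap a⁻¹ w) (h1 a⁻¹ (inv_mem ha) w (hle hw) hw)
  rw [zero_mul, ← ap_mul_aut a a⁻¹ w (hle hw), mul_inv_cancel, ap_of_mem _ (hle hw)] at e1
  change φ i w = 0 at e1
  rw [hw1] at e1
  exact one_ne_zero e1

/-- **Weights.** -/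
theorem PClosed.weights (h : PClosed A) (hφ : Coord p n W φ) (mc : MC P p n W) [hp : Fact p.Prime]
    (deg : ∀ i j, 1 ≤ i → 1 ≤ j → ⁅W i, W j⁆ ≤ W (i + j + 1)) {a : MulAut (W 1)} (ha : a ∈ A) :
    ∃ b a0 : ZMod p, b ≠ 0 ∧ a0 ≠ 0 ∧
      ∀ i, i + 1 < n → ∀ w ∈ W (i + 1), φ (i + 1) (ap a w) = b * a0 ^ i * φ (i + 1) w := by
  have h4 := mc.four_le
  choose! c hc0 hc using fun (i : ℕ) (hi : 1 ≤ i ∧ i < n) =>
    exists_scalar hφ mc ha hi.1 hi.2 (h.aInv mc i hi.1) (h.aInv mc (i + 1) (by omega))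
  obtain ⟨x, hx, hx1⟩ := hφ.exists_eq_one mc (i := 0) (by omega)
  obtain ⟨x', hx'⟩ := h.exists_comm ha x
  have hx0 : x' ∈ W 0 := by rw [mc.zero]; trivial
  have step : ∀ i, 1 ≤ i → i + 1 < n → c (i + 1) = c i * φ 0 x' := by
    intro i hi hin
    obtain ⟨β, hβ⟩ := hφ.pairing mc (i := i) (j := 0) (m := i + 1) (by omega) (by omega) hin
      (by rw [mc.zero]; exact mc.comm_le i) (by rw [mc.zero]; exact mc.comm_le (i + 1))
      (deg i 1 hi le_rfl)
    have hβ0 : β ≠ 0 := by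
      rintro rfl
      have h1 : ⁅W i, (⊤ : Subgroup P)⁆ ≤ W (i + 1 + 1) := by
        rw [Subgroup.commutator_le]
        intro w hw y _
        have hy : y ∈ W 0 := by rw [mc.zero]; trivial
        have := hβ w hw y hy
        rw [zero_mul, zero_mul] at this
        exact (hφ.zero (i + 1) hin _ (mc.comm_mem hw)).mp this
      rw [mc.comm_eq hi] at h1
      obtain ⟨w, hw, hw'⟩ := mc.ne_succ hin
      exact hw' (h1 hw)
    obtain ⟨w, hw, hw1⟩ := hφ.exists_eq_one mc (i := i) (by omega)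
    have hle : W i ≤ W 1 := mc.antitone hi
    have e1 : φ (i + 1) (ap a ⁅w, x⁆) = c (i + 1) * β := by
      rw [hc (i + 1) ⟨by omega, hin⟩ _ (mc.comm_mem hw), hβ w hw x hx, hw1, hx1]
      ring
    have haw : ap a w ∈ W i := aInv_iff.mp (h.aInv mc i hi) a ha w (hle hw) hw
    have e2 : φ (i + 1) (ap a ⁅w, x⁆) = β * c i * φ 0 x' := by
      rw [hx' w (hle hw), hβ _ haw x' hx0, hc i ⟨hi, by omega⟩ w hw, hw1]
      ring
    have e3 : β * c (i + 1) = β * (c i * φ 0 x') := by rw [← mul_assoc, ← e2, e1, mul_comm]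
    exact mul_left_cancel₀ hβ0 e3
  have ha0 : φ 0 x' ≠ 0 := by
    intro e
    have := step 1 le_rfl (by omega)
    rw [e, mul_zero] at this
    exact hc0 2 ⟨by omega, by omega⟩ this
  refine ⟨c 1, φ 0 x', hc0 1 ⟨le_rfl, by omega⟩, ha0, ?_⟩
  have hci : ∀ i, i + 1 < n → c (i + 1) = c 1 * φ 0 x' ^ i := by
    intro i
    induction i with
    | zero => intro _; rw [pow_zero, mul_one]
    | succ i ih =>
      intro hi
      rw [step (i + 1) (by omega) hi, ih (by omega), pow_succ, mul_assoc]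
  intro i hi w hw
  rw [hc (i + 1) ⟨by omega, hi⟩ w hw, hci i hi]

end Cfsg.Agent.H786
end
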