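import Cfsg.Agent.H785.Transv
import Cfsg.Agent.H786.Weight
import Cfsg.Agent.H467.MaxClassPower2
set_option linter.all false

-- part: H786/TwoTr
section
/-!
# Two transvections in a group with a strongly embedded subgroup (helper786)

Adapted from `H785.Transv` (helper785): the hypothesis that the `p`-subgroups are small is replaced by the
two conditions `[A,s] ∩ C_A(s') = 1 = [A,s'] ∩ C_A(s)`.
-/

set_option autoImplicit false
set_option linter.unusedSectionVars false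

namespace Cfsg.Agent.H786

open Cfsg.Agent.H785

/-- Two transvections in general position. -/
structure Tw {A : Type*} [CommGroup A] (p : ℕ) (G : Subgroup (MulAut A)) (s s' : MulAut A) : Prop where
  sG : s ∈ G
  s'G : s' ∈ G
  cs : Nat.card (com s) = p
  cs' : Nat.card (com s') = p
  com_le_fix_self : com s ≤ fix s
  com_le_fix_self' : com s' ≤ fix s'
  inf : ∀ x ∈ com s, x ∈ fix s' → x = 1
  inf' : ∀ x ∈ com s', x ∈ fix s → x = 1

namespace Tw

variable {A : Type*} [CommGroup A] [Finite A] {p : ℕ} [hp : Fact p.Prime] {G : Subgroup (MulAut A)}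
  {s s' : MulAut A}

theorem symm (h : Tw p G s s') : Tw p G s' s :=
  ⟨h.s'G, h.sG, h.cs', h.cs, h.com_le_fix_self', h.com_le_fix_self, h.inf', h.inf⟩

theorem com_inf_fix (h : Tw p G s s') {x : A} (hx : x ∈ com s) (hx' : x ∈ fix s') : x = 1 :=
  h.inf x hx hx'

theorem zpow_eq_of_dvd {x : A} (hx : x ^ p = 1) {m n : ℤ} (h : (p : ℤ) ∣ m - n) :
    x ^ m = x ^ n := by
  obtain ⟨k, hk⟩ := h
  have e : m = n + p * k := by omega
  rw [e, zpow_add, zpow_mul, zpow_natCast, hx, one_zpow, mul_one]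

theorem eq_one_of_mem (h : Tw p G s s') {x : A} (hx : x ∈ com s ⊔ com s') (hx1 : x ∈ fix s)
    (hx2 : x ∈ fix s') : x = 1 := by
  obtain ⟨y, hy, z, hz, rfl⟩ := Subgroup.mem_sup.1 hx
  have hz1 : z ∈ fix s := ((fix s).mul_mem_cancel_left (h.com_le_fix_self hy)).1 hx1
  have hz0 := h.symm.com_inf_fix hz hz1
  subst hz0
  rw [mul_one] at hx2 ⊢
  exact h.com_inf_fix hy hx2

theorem fix_le (h : Tw p G s s') {x : A} (hx : x ∈ fix s) :
    ∃ d ∈ com s, x * d ∈ fix s ⊓ fix s' := by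
  by_cases hx' : x ∈ fix s'
  · exact ⟨1, (com s).one_mem, by rw [mul_one]; exact ⟨hx, hx'⟩⟩
  · -- `del s'` maps `com s` onto `com s'`
    have hnt : Nontrivial (com s) := by
      rw [← Finite.one_lt_card_iff_nontrivial, h.cs]
      exact hp.out.one_lt
    obtain ⟨⟨d, hd⟩, hd1⟩ := exists_ne (1 : com s)
    have hd1' : d ≠ 1 := fun e => hd1 (Subtype.ext e)
    have hd2 : del s' d ≠ 1 := by
      intro e
      exact hd1' (h.com_inf_fix hd e)
    obtain ⟨n, hn⟩ := exists_zpow_eq h.cs' (del_mem_com s' d) hd2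
      ((com s').inv_mem (del_mem_com s' x))
    refine ⟨d ^ n, (com s).zpow_mem hd n, ?_, ?_⟩
    · exact (fix s).mul_mem hx ((fix s).zpow_mem (h.com_le_fix_self hd) n)
    · show del s' (x * d ^ n) = 1
      rw [map_mul, map_zpow, hn, mul_inv_cancel]

theorem mem_sup_all (h : Tw p G s s') (x : A) :
    ∃ v ∈ com s ⊔ com s', x * v ∈ fix s ⊓ fix s' := by
  -- first correct by an element of `com s'` to get into `fix s`
  have hnt : Nontrivial (com s') := by
    rw [← Finite.one_lt_card_iff_nontrivial, h.cs']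
    exact hp.out.one_lt
  obtain ⟨⟨d, hd⟩, hd1⟩ := exists_ne (1 : com s')
  have hd1' : d ≠ 1 := fun e => hd1 (Subtype.ext e)
  have hd2 : del s d ≠ 1 := by
    intro e
    exact hd1' (h.symm.com_inf_fix hd e)
  obtain ⟨n, hn⟩ := exists_zpow_eq h.cs (del_mem_com s d) hd2 ((com s).inv_mem (del_mem_com s x))
  have h1 : x * d ^ n ∈ fix s := by
    show del s (x * d ^ n) = 1
    rw [map_mul, map_zpow, hn, mul_inv_cancel]
  obtain ⟨e, he, h2⟩ := h.fix_le h1
  refine ⟨d ^ n * e, ?_, ?_⟩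
  · exact Subgroup.mul_mem _ ((le_sup_right : com s' ≤ _) ((com s').zpow_mem hd n))
      ((le_sup_left : com s ≤ _) he)
  · rw [← mul_assoc]
    exact h2

theorem sup_eq_top (h : Tw p G s s') : (com s ⊔ com s') ⊔ (fix s ⊓ fix s') = ⊤ := by
  rw [eq_top_iff]
  intro x _
  obtain ⟨v, hv, hx⟩ := h.mem_sup_all x
  have e : x = v⁻¹ * (x * v) := by rw [mul_comm x v, inv_mul_cancel_left]
  rw [e]
  exact Subgroup.mul_mem_sup (Subgroup.inv_mem _ hv) hx

theorem exists_move (h : Tw p G s s') {x : A} (hx : x ∈ com s ⊔ com s') (hx' : x ∉ com s') :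
    ∃ n : ℤ, (s' ^ n) x ∈ com s := by
  obtain ⟨y, hy, z, hz, rfl⟩ := Subgroup.mem_sup.1 hx
  have hy1 : y ≠ 1 := by
    rintro rfl
    rw [one_mul] at hx'
    exact hx' hz
  have hd2 : del s' y ≠ 1 := by
    intro e
    exact hy1 (h.com_inf_fix hy e)
  obtain ⟨n, hn⟩ := exists_zpow_eq h.cs' (del_mem_com s' y) hd2 ((com s').inv_mem hz)
  have hz' : z ∈ fix s' := h.symm.com_le_fix_self hz
  have hw : del s' y ∈ fix s' := h.symm.com_le_fix_self (del_mem_com s' y)
  refine ⟨n, ?_⟩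
  rw [map_mul, zpow_apply hw, hn, zpow_apply_of_mem_fix hz' n, mul_assoc, inv_mul_cancel, mul_one]
  exact hy

theorem apply_mem_V (h : Tw p G s s') {x : A} (hx : x ∈ com s ⊔ com s') (n : ℤ) :
    (s' ^ n) x ∈ com s ⊔ com s' := by
  have h0 : s' ∈ moveIn (com s') := fun x => del_mem_com s' x
  have h1 : s' ^ n ∈ moveIn (com s') := Subgroup.zpow_mem _ h0 n
  have h2 := Subgroup.mul_mem _ hx ((le_sup_right : com s' ≤ com s ⊔ com s') (h1 x))
  rwa [mul_inv_cancel_left] at h2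

theorem pow_eq_one_of_mem_com (h : Tw p G s s') {x : A} (hx : x ∈ com s) : x ^ p = 1 := by
  have h1 : (⟨x, hx⟩ : com s) ^ Nat.card (com s) = 1 := pow_card_eq_one'
  rw [h.cs] at h1
  exact congrArg Subtype.val h1

theorem pow_eq_one_of_mem_V (h : Tw p G s s') {x : A} (hx : x ∈ com s ⊔ com s') : x ^ p = 1 := by
  obtain ⟨y, hy, z, hz, rfl⟩ := Subgroup.mem_sup.1 hx
  rw [mul_pow, h.pow_eq_one_of_mem_com hy, h.symm.pow_eq_one_of_mem_com hz, one_mul]

theorem torus (h : Tw p G s s') {l l' : ℤ} (hl : (p : ℤ) ∣ l * l' - 1) :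
    ∃ t ∈ G, (∀ x ∈ com s, t x = x ^ l) ∧ (∀ x ∈ com s', t x = x ^ l') ∧
      (∀ x ∈ fix s ⊓ fix s', t x = x) ∧ t * s * t⁻¹ = s ^ (l ^ 2) := by
  have hnt : Nontrivial (com s') := by
    rw [← Finite.one_lt_card_iff_nontrivial, h.cs']
    exact hp.out.one_lt
  obtain ⟨⟨v2, hv2⟩, hv2ne⟩ := exists_ne (1 : com s')
  have hv2' : v2 ≠ 1 := fun e => hv2ne (Subtype.ext e)
  set v1 := del s v2 with hv1
  have hv1m : v1 ∈ com s := del_mem_com s v2
  have hv1ne : v1 ≠ 1 := fun e => hv2' (h.symm.com_inf_fix hv2 e)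
  have hv1f : v1 ∈ fix s := h.com_le_fix_self hv1m
  have hv2f : v2 ∈ fix s' := h.symm.com_le_fix_self hv2
  have hwm : del s' v1 ∈ com s' := del_mem_com s' v1
  have hwne : del s' v1 ≠ 1 := fun e => hv1ne (h.com_inf_fix hv1m e)
  have hwf : del s' v1 ∈ fix s' := h.symm.com_le_fix_self hwm
  obtain ⟨m, hm⟩ := exists_zpow_eq h.cs' hwm hwne ((com s').inv_mem hv2)
  have hv1p : v1 ^ p = 1 := h.pow_eq_one_of_mem_com hv1m
  have hv2p : v2 ^ p = 1 := h.symm.pow_eq_one_of_mem_com hv2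
  -- the elementary actions
  have a1 : ∀ n : ℤ, (s ^ n) v1 = v1 := fun n => zpow_apply_of_mem_fix hv1f n
  have a2 : ∀ n : ℤ, (s ^ n) v2 = v2 * v1 ^ n := fun n => zpow_apply hv1f n
  have b2 : ∀ n : ℤ, (s' ^ (m * n)) v2 = v2 := fun n => zpow_apply_of_mem_fix hv2f _
  have b1 : ∀ n : ℤ, (s' ^ (m * n)) v1 = v1 * v2 ^ (-n) := by
    intro n
    rw [zpow_apply hwf, zpow_mul, hm, inv_zpow, zpow_neg]
  have W : ∀ n n' : ℤ, (p : ℤ) ∣ n * n' - 1 → ∃ w ∈ G, w v1 = v2 ^ (-n') ∧ w v2 = v1 ^ n ∧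
      ∀ x ∈ fix s ⊓ fix s', w x = x := by
    intro n n' hnn
    refine ⟨s ^ n * s' ^ (m * n') * s ^ n, G.mul_mem (G.mul_mem (G.zpow_mem h.sG _)
      (G.zpow_mem h.s'G _)) (G.zpow_mem h.sG _), ?_, ?_, ?_⟩
    · rw [MulAut.mul_apply, MulAut.mul_apply, a1, b1, map_mul, map_zpow, a1, a2, mul_zpow,
        ← zpow_mul]
      have e : v1 ^ (n * -n') = v1⁻¹ := by
        have h2 : (p : ℤ) ∣ (n * -n') - (-1) := by
          obtain ⟨k, hk⟩ := hnn
          exact ⟨-k, by linear_combination -hk⟩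
        rw [zpow_eq_of_dvd hv1p h2, zpow_neg, zpow_one]
      rw [e, mul_comm v1, mul_assoc, inv_mul_cancel, mul_one]
    · rw [MulAut.mul_apply, MulAut.mul_apply, a2, map_mul, map_zpow, b1, b2, mul_zpow, ← zpow_mul]
      have e : v2 ^ (-n' * n) = v2⁻¹ := by
        have h2 : (p : ℤ) ∣ (-n' * n) - (-1) := by
          obtain ⟨k, hk⟩ := hnn
          exact ⟨-k, by linear_combination -hk⟩
        rw [zpow_eq_of_dvd hv2p h2, zpow_neg, zpow_one]
      rw [e, mul_comm v2, mul_assoc, inv_mul_cancel, mul_one, map_zpow, a1]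
    · rintro x ⟨hx1, hx2⟩
      rw [MulAut.mul_apply, MulAut.mul_apply, zpow_apply_of_mem_fix hx1, zpow_apply_of_mem_fix hx2,
        zpow_apply_of_mem_fix hx1]
  obtain ⟨w1, hw1G, hw11, hw12, hw1C⟩ := W 1 1 (by simp)
  obtain ⟨w2, hw2G, hw21, hw22, hw2C⟩ := W (-l) (-l') (by rwa [neg_mul_neg])
  have t1 : (w2 * w1) v1 = v1 ^ l := by
    rw [MulAut.mul_apply, hw11, map_zpow, hw22, ← zpow_mul]
    congr 1
    ring
  have t2 : (w2 * w1) v2 = v2 ^ l' := by
    rw [MulAut.mul_apply, hw12, zpow_one, hw21, neg_neg]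
  have tc1 : ∀ x ∈ com s, (w2 * w1) x = x ^ l := by
    intro x hx
    obtain ⟨n, rfl⟩ := exists_zpow_eq h.cs hv1m hv1ne hx
    rw [map_zpow, t1, ← zpow_mul, ← zpow_mul, mul_comm]
  have tc2 : ∀ x ∈ com s', (w2 * w1) x = x ^ l' := by
    intro x hx
    obtain ⟨n, rfl⟩ := exists_zpow_eq h.cs' hv2 hv2' hx
    rw [map_zpow, t2, ← zpow_mul, ← zpow_mul, mul_comm]
  have tC : ∀ x ∈ fix s ⊓ fix s', (w2 * w1) x = x := by
    intro x hx
    rw [MulAut.mul_apply, hw1C x hx, hw2C x hx]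
  refine ⟨w2 * w1, G.mul_mem hw2G hw1G, tc1, tc2, tC, ?_⟩
  rw [mul_inv_eq_iff_eq_mul]
  set t := w2 * w1 with ht
  have key : (⊤ : Subgroup A) ≤
      MonoidHom.eqLocus (t * s).toMonoidHom (s ^ (l ^ 2) * t).toMonoidHom := by
    rw [← h.sup_eq_top]
    refine sup_le (sup_le ?_ ?_) ?_
    · intro x hx
      show t (s x) = (s ^ (l ^ 2)) (t x)
      rw [mem_fix.1 (h.com_le_fix_self hx), tc1 x hx, map_zpow,
        zpow_apply_of_mem_fix (h.com_le_fix_self hx)]
    · intro x hx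
      obtain ⟨n, rfl⟩ := exists_zpow_eq h.cs' hv2 hv2' hx
      show t (s (v2 ^ n)) = (s ^ (l ^ 2)) (t (v2 ^ n))
      have e1 : t (s v2) = (s ^ (l ^ 2)) (t v2) := by
        have e2 : s v2 = v2 * v1 := by rw [hv1, ← apply_eq_mul_del]
        rw [e2, map_mul, t1, t2, map_zpow, a2, mul_zpow, ← zpow_mul]
        congr 1
        apply zpow_eq_of_dvd hv1p
        obtain ⟨k, hk⟩ := hl
        exact ⟨-(l * k), by linear_combination (-l) * hk⟩
      rw [map_zpow, map_zpow, map_zpow, map_zpow, e1]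
    · intro x hx
      show t (s x) = (s ^ (l ^ 2)) (t x)
      rw [mem_fix.1 hx.1, tC x hx, zpow_apply_of_mem_fix hx.1]
  exact MulEquiv.ext fun x => key (Subgroup.mem_top x)

end Tw

/-- If `[A,a] ≤ C_A(b)` then `b a b⁻¹` commutes with `a` (for `[A,a] ≤ C_A(a)`). -/
theorem commute_of_com_le_fix {A : Type*} [CommGroup A] {a b : MulAut A} (ha : com a ≤ fix a)
    (h : com a ≤ fix b) : Commute (b * a * b⁻¹) a := by
  have h1 : ∀ x, (b * a * b⁻¹) x = x * b (del a (b⁻¹ x)) := by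
    intro x
    rw [MulAut.mul_apply, MulAut.mul_apply, apply_eq_mul_del a (b⁻¹ x), map_mul,
      MulAut.apply_inv_self]
  have h2 : ∀ x, (b * a * b⁻¹) x = x * del a (b⁻¹ x) := by
    intro x
    rw [h1, mem_fix.1 (h (del_mem_com a _))]
  have h3 : ∀ y ∈ com a, (b * a * b⁻¹) y = y := by
    intro y hy
    have h5 : b⁻¹ y = y := by
      have := mem_fix.1 (h hy)
      conv_lhs => rw [← this]
      exact MulAut.inv_apply_self _ b y
    rw [MulAut.mul_apply, MulAut.mul_apply, h5, mem_fix.1 (ha hy), mem_fix.1 (h hy)]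
  apply MulEquiv.ext
  intro x
  show (b * a * b⁻¹) (a x) = a ((b * a * b⁻¹) x)
  have h4 : (b * a * b⁻¹) (a x) = x * del a (b⁻¹ x) * del a x := by
    conv_lhs => rw [apply_eq_mul_del a x]
    rw [map_mul, h3 _ (del_mem_com a x), h2 x]
  have h5 : a ((b * a * b⁻¹) x) = x * del a x * del a (b⁻¹ x) := by
    rw [h2 x, map_mul, mem_fix.1 (ha (del_mem_com a _)), ← apply_eq_mul_del a x]
  rw [h4, h5, mul_right_comm]

section SE

universe v

variable {Γ : Type v} [Group Γ] [Finite Γ] {p : ℕ} [hp : Fact p.Prime] {H R : Subgroup Γ}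
  {A : Type*} [CommGroup A] [Finite A] {ρ : Γ →* MulAut A}

/-- Two conjugate transvections of a group with a strongly embedded subgroup. -/
theorem SE.tw (h : SE p H R) (hρ : ρ.ker ≤ H) {z : Γ} (hz : z ∈ H) (hzp : IsPGroup p (Subgroup.zpowers z))
    (hcard : Nat.card (com (ρ z)) = p) (hcf : com (ρ z) ≤ fix (ρ z)) {g : Γ} (hg : g ∉ H) :
    Tw p ρ.range (ρ z) (ρ (g * z * g⁻¹)) := by
  have hz1 : z ≠ 1 := by
    rintro rfl
    have h1 : com (ρ (1 : Γ)) = ⊥ := by
      rw [eq_bot_iff]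
      rintro _ ⟨x, rfl⟩
      simp [del_apply]
    rw [h1, Subgroup.card_bot] at hcard
    exact hp.out.one_lt.ne hcard
  have hzz : g⁻¹ * (g * z * g⁻¹) * g = z := by group
  have hz'p : IsPGroup p (Subgroup.zpowers (g * z * g⁻¹)) := by
    have : Subgroup.zpowers (g * z * g⁻¹) = (Subgroup.zpowers z).map (MulAut.conj g).toMonoidHom := by
      rw [MonoidHom.map_zpowers]
      rfl
    rw [this]
    exact hzp.map _
  have hz'1 : g * z * g⁻¹ ≠ 1 := by
    intro e
    apply hz1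
    rw [← hzz, e]
    group
  have hz'H : g * z * g⁻¹ ∉ H := fun e => hg (h.emb_all e hz'p hz'1 (by rw [hzz]; exact hz))
  have key : ∀ a b : Γ, Commute (ρ a) (ρ b) → b⁻¹ * a * b * a⁻¹ ∈ H := by
    intro a b hab
    apply hρ
    rw [MonoidHom.mem_ker, map_mul, map_mul, map_mul, map_inv, map_inv, mul_assoc (ρ b)⁻¹, hab.eq]
    group
  have card' : Nat.card (com (ρ (g * z * g⁻¹))) = p := by
    rw [map_mul, map_mul, map_inv, card_com_conj, hcard]
  have hcf' : com (ρ (g * z * g⁻¹)) ≤ fix (ρ (g * z * g⁻¹)) := by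
    intro x hx
    rw [map_mul, map_mul, map_inv] at hx ⊢
    rw [mem_com_conj] at hx
    rw [mem_fix_conj]
    exact hcf hx
  refine ⟨⟨z, rfl⟩, ⟨g * z * g⁻¹, rfl⟩, hcard, card', hcf, hcf', ?_, ?_⟩
  · intro x hx hx'
    by_contra hx1
    have h1 : com (ρ z) ≤ fix (ρ (g * z * g⁻¹)) := le_of_card_prime_of_mem hcard hx hx1 hx'
    have h2 := commute_of_com_le_fix hcf h1
    rw [← map_inv, ← map_mul, ← map_mul] at h2
    have h3 := key _ _ h2.symm
    have h4 : (g * z * g⁻¹ * z * (g * z * g⁻¹)⁻¹)⁻¹ * z * (g * z * g⁻¹ * z * (g * z * g⁻¹)⁻¹) ∈ H := by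
      have := H.mul_mem h3 hz
      simpa using this
    have h5 := h.emb_all hz hzp hz1 h4
    have h6 := h.emb_all hz hzp hz1 (g := (g * z * g⁻¹)⁻¹) (by rw [inv_inv]; exact h5)
    exact hz'H (by simpa using H.inv_mem h6)
  · intro x hx hx'
    by_contra hx1
    have h1 : com (ρ (g * z * g⁻¹)) ≤ fix (ρ z) := le_of_card_prime_of_mem card' hx hx1 hx'
    have h2 := commute_of_com_le_fix hcf' h1
    rw [← map_inv, ← map_mul, ← map_mul] at h2
    -- `y = z z' z⁻¹` commutes with `z'` modulo the kernel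
    set z' := g * z * g⁻¹ with hz'
    have h3 : (z * z' * z⁻¹)⁻¹ * z' * (z * z' * z⁻¹) * z'⁻¹ ∈ ρ.ker := by
      rw [MonoidHom.mem_ker, map_mul, map_mul, map_mul, map_inv, map_inv, mul_assoc (ρ (z * z' * z⁻¹))⁻¹,
        h2.symm.eq]
      group
    have h4 : g⁻¹ * ((z * z' * z⁻¹)⁻¹ * z' * (z * z' * z⁻¹) * z'⁻¹) * g ∈ H := by
      apply hρ
      have := (inferInstance : ρ.ker.Normal).conj_mem _ h3 g⁻¹
      simpa using this
    have h5 : (g⁻¹ * z * g * z * (g⁻¹ * z * g)⁻¹)⁻¹ * z * (g⁻¹ * z * g * z * (g⁻¹ * z * g)⁻¹) ∈ H := by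
      have h6 := H.mul_mem h4 hz
      have e : g⁻¹ * ((z * z' * z⁻¹)⁻¹ * z' * (z * z' * z⁻¹) * z'⁻¹) * g * z
          = (g⁻¹ * z * g * z * (g⁻¹ * z * g)⁻¹)⁻¹ * z * (g⁻¹ * z * g * z * (g⁻¹ * z * g)⁻¹) := by
        rw [hz']
        group
      rwa [e] at h6
    have h6 := h.emb_all hz hzp hz1 h5
    have h7 := h.emb_all hz hzp hz1 (g := (g⁻¹ * z * g)⁻¹) (by rw [inv_inv]; exact h6)
    have h8 : g⁻¹ * z * g ∈ H := by simpa using H.inv_mem h7
    exact hg (h.emb_all hz hzp hz1 h8)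

/-- The torus element. -/
theorem SE.torus (h : SE p H R) (hρ : ρ.ker ≤ H) {z : Γ} (hz : z ∈ H)
    (hzp : IsPGroup p (Subgroup.zpowers z)) (hcard : Nat.card (com (ρ z)) = p)
    (hcf : com (ρ z) ≤ fix (ρ z)) {g : Γ} (hg : g ∉ H) {l l' : ℤ} (hl : (p : ℤ) ∣ l * l' - 1) :
    ∃ k ∈ H, (∀ x ∈ com (ρ z), ρ k x = x ^ l) ∧ (∀ x ∈ com (ρ (g * z * g⁻¹)), ρ k x = x ^ l') ∧
      ∀ x ∈ fix (ρ z) ⊓ fix (ρ (g * z * g⁻¹)), ρ k x = x := by
  obtain ⟨_, ⟨k, rfl⟩, h1, h2, h3, h4⟩ := (h.tw hρ hz hzp hcard hcf hg).torus hl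
  refine ⟨k, ?_, h1, h2, h3⟩
  have hz1 : z ≠ 1 := by
    rintro rfl
    have h1 : com (ρ (1 : Γ)) = ⊥ := by
      rw [eq_bot_iff]
      rintro _ ⟨x, rfl⟩
      simp [del_apply]
    rw [h1, Subgroup.card_bot] at hcard
    exact hp.out.one_lt.ne hcard
  have h5 : k * z * k⁻¹ * (z ^ (l ^ 2))⁻¹ ∈ H := by
    apply hρ
    rw [MonoidHom.mem_ker, map_mul, map_mul, map_mul, map_inv, map_inv, h4, map_zpow, mul_inv_cancel]
  have h6 : k * z * k⁻¹ ∈ H := by
    have := H.mul_mem h5 (H.zpow_mem hz (l ^ 2))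
    simpa using this
  have h7 := h.emb_all hz hzp hz1 (g := k⁻¹) (by rw [inv_inv]; exact h6)
  simpa using H.inv_mem h7

end SE

end Cfsg.Agent.H786
end

-- part: H786/Setup
section
/-!
# Set-up for the proof of the core lemma (helper786)
-/

set_option autoImplicit false
set_option linter.unusedSectionVars false

namespace Cfsg.Agent.H786

open Subgroup Cfsg.Agent.H467.MaxClass
open scoped commutatorElement

universe u v

namespace Cfg

variable {P : Type u} [Group P] [Finite P] {p n : ℕ} [hp : Fact p.Prime] {W : ℕ → Subgroup P}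
  [hW1 : (W 1).Normal] {A : Subgroup (MulAut (W 1))} {E V : Subgroup P} {Γ : Type v} [Group Γ]
  [Finite Γ] {ρ : Γ →* MulAut V} {H : Subgroup Γ} {τ : (normalizer (E : Set P)) →* Γ}

theorem ext_ap (c : Cfg p n W A E V ρ H τ) {h : Γ} (hh : h ∈ H) :
    ∃ a ∈ A, (∀ x ∈ W 1, x ∈ E ↔ ap a x ∈ E) ∧ ∀ v : V, ap a (v : P) = (ρ h v : V) := by
  obtain ⟨a, ha, h1, h2⟩ := c.ext h hh
  refine ⟨a, ha, ?_, ?_⟩
  · intro x hx
    rw [ap_of_mem a hx]
    exact h1 ⟨x, hx⟩
  · intro v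
    rw [ap_of_mem a (c.V_le v.2)]
    exact h2 v _ rfl

theorem V_commute (c : Cfg p n W A E V ρ H τ) {v w : P} (hv : v ∈ V) (hw : w ∈ V) : Commute v w :=
  (c.V_comm hw (c.V_le_E hv))

/-- `A`-invariant subgroups are `H`-invariant -/
theorem H_inv (c : Cfg p n W A E V ρ H τ) {B : Subgroup P} (hB : AInv A B) {h : Γ} (hh : h ∈ H)
    {v : V} (hv : (v : P) ∈ B) : ((ρ h v : V) : P) ∈ B := by
  obtain ⟨a, ha, -, h2⟩ := c.ext_ap hh
  rw [← h2]
  exact aInv_iff.mp hB a ha _ (c.V_le v.2) hv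

theorem le_V (c : Cfg p n W A E V ρ H τ) {B : Subgroup P} (h1 : ⁅B, W 1⁆ = ⊥)
    (hp1 : ∀ b ∈ B, b ^ p = 1) : B ≤ V := by
  have hc : ∀ b ∈ B, ∀ e ∈ W 1, Commute b e := by
    intro b hb e he
    have h2 : ⁅b, e⁆ ∈ ⁅B, W 1⁆ := commutator_mem_commutator hb he
    rw [h1, mem_bot] at h2
    exact commutatorElement_eq_one_iff_commute.mp h2
  intro b hb
  rw [c.mem_V]
  exact ⟨c.cent b (fun e he => hc b hb e (c.E_le he)), hp1 b hb,
    fun e he => (hc b hb e (c.E_le he)).symm⟩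

theorem three_le (c : Cfg p n W A E V ρ H τ) : 3 ≤ p := le_trans (by norm_num) c.five

theorem Ksub_last (c : Cfg p n W A E V ρ H τ) : c.mc.Ksub (n - 2) = W 1 := by
  have h4 := c.mc.four_le
  apply c.mc.eq_W1
  · intro y hy w hw
    have h1 := c.deg (n - 2) 1 (by omega) le_rfl (commutator_mem_commutator hw hy)
    rwa [show n - 2 + 1 + 1 = n - 2 + 2 by omega] at h1
  · exact c.mc.Ksub_ne_top' (by omega) (by omega)

theorem W_sub_two_le_V (c : Cfg p n W A E V ρ H τ) : W (n - 2) ≤ V := by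
  have h4 := c.mc.four_le
  apply c.le_V
  · have h1 := c.deg (n - 2) 1 (by omega) le_rfl
    rw [c.mc.bot_of_le (i := n - 2 + 1 + 1) (by omega)] at h1
    exact eq_bot_iff.mpr h1
  · intro b hb
    have h1 := c.mc.pow_mem c.three_le (by omega) hb
    have h3 := c.five
    rw [c.mc.bot_of_le (by omega)] at h1
    exact mem_bot.mp h1

theorem W_sub_one_le_V (c : Cfg p n W A E V ρ H τ) : W (n - 1) ≤ V :=
  (c.mc.antitone (by omega)).trans c.W_sub_two_le_V

/-- the least index `a` of `V` -/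
theorem exists_a (c : Cfg p n W A E V ρ H τ) :
    ∃ a, 1 ≤ a ∧ a + 2 ≤ n ∧ V ≤ W a ∧ ∃ v ∈ V, v ∉ W (a + 1) := by
  classical
  have h4 := c.mc.four_le
  have hex : ∃ j, ¬ V ≤ W (j + 1) := by
    refine ⟨n - 1, fun h => ?_⟩
    rw [c.mc.bot_of_le (by omega)] at h
    obtain ⟨w, hw, hw'⟩ := c.mc.ne_succ (i := n - 1) (by omega)
    apply hw'
    rw [mem_bot.mp (h (c.W_sub_one_le_V hw))]
    exact one_mem _
  set a := Nat.find hex with ha
  have h1 : ¬ V ≤ W (a + 1) := Nat.find_spec hex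
  have ha1 : 1 ≤ a := by
    by_contra h0
    have : a = 0 := by omega
    rw [this] at h1
    exact h1 c.V_le
  have h2 : V ≤ W a := by
    have := Nat.find_min hex (m := a - 1) (by omega)
    rw [not_not, show a - 1 + 1 = a by omega] at this
    exact this
  refine ⟨a, ha1, ?_, h2, ?_⟩
  · by_contra hcon
    have h5 : W (n - 2) ≤ W (n - 1) := (c.W_sub_two_le_V.trans h2).trans (c.mc.antitone (by omega))
    obtain ⟨w, hw, hw'⟩ := c.mc.ne_succ (i := n - 2) (by omega)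
    apply hw'
    rw [show n - 2 + 1 = n - 1 by omega]
    exact h5 hw
  · by_contra hcon
    push Not at hcon
    exact h1 hcon

/-- the range of indices of `V` -/
theorem range_le (c : Cfg p n W A E V ρ H τ) {a : ℕ} (ha : 1 ≤ a) {v : P} (hv : v ∈ V)
    (hva : v ∈ W a) (hva' : v ∉ W (a + 1)) : n - 1 - a ≤ p - 1 ∧ (p + 2 ≤ n → n - 1 - a ≤ p - 2) := by
  have h5 := c.five
  have h1 : p + 2 ≤ n → n - 1 - a ≤ p - 2 := by
    intro hn
    by_contra hcon
    have h2 := c.mc.pow_notMem_one c.three_le hn ha (by omega) hva hva'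
    rw [c.V_pow hv] at h2
    exact h2 (one_mem _)
  refine ⟨?_, h1⟩
  rcases Nat.lt_or_ge n (p + 2) with h2 | h2
  · omega
  · have := h1 h2; omega

/-- the least `t` with `W t ≤ E` -/
theorem exists_t (c : Cfg p n W A E V ρ H τ) :
    ∃ t, 2 ≤ t ∧ t + 1 ≤ n ∧ W t ≤ E ∧ ∃ z ∈ W (t - 1), z ∉ E := by
  classical
  have h4 := c.mc.four_le
  have hex : ∃ j, W j ≤ E := ⟨n - 1, c.W_sub_one_le_V.trans c.V_le_E⟩
  set t := Nat.find hex with ht
  have h1 : W t ≤ E := Nat.find_spec hex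
  have h2 : t ≤ n - 1 := Nat.find_min' hex (c.W_sub_one_le_V.trans c.V_le_E)
  have h3 : 2 ≤ t := by
    by_contra h0
    have h5 : W 1 ≤ E := (c.mc.antitone (by omega)).trans h1
    exact c.E_ne (le_antisymm c.E_le h5)
  refine ⟨t, h3, by omega, h1, ?_⟩
  have := Nat.find_min hex (m := t - 1) (by omega)
  by_contra hcon
  push Not at hcon
  exact this hcon

/-- elements of `W j` normalize `E` if `W (j + 2) ≤ E` -/
theorem mem_T (c : Cfg p n W A E V ρ H τ) {j : ℕ} (hj : 1 ≤ j) (hE : W (j + 2) ≤ E) {s : P}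
    (hs : s ∈ W j) : s ∈ normalizer (E : Set P) := by
  have key : ∀ s ∈ W j, ∀ e ∈ E, s * e * s⁻¹ ∈ E := by
    intro s hs e he
    have h1 : ⁅s, e⁆ ∈ E :=
      hE (by
        have := c.deg j 1 hj le_rfl (commutator_mem_commutator hs (c.E_le he))
        rwa [show j + 1 + 1 = j + 2 by omega] at this)
    have e1 : s * e * s⁻¹ = ⁅s, e⁆ * e := by simp only [commutatorElement_def]; group
    rw [e1]
    exact mul_mem h1 he
  rw [mem_normalizer_iff]
  intro e
  refine ⟨fun he => key s hs e he, fun he => ?_⟩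
  have := key s⁻¹ (inv_mem hs) _ he
  have e2 : s⁻¹ * (s * e * s⁻¹) * s⁻¹⁻¹ = e := by group
  rwa [e2] at this

/-- `E = C_P(V)` if no element of `N_P(E) - E` centralizes `V` -/
theorem mem_E_of_commute (c : Cfg p n W A E V ρ H τ)
    (hf : ∀ s ∈ normalizer (E : Set P), (∀ v ∈ V, Commute s v) → s ∈ E) {s : P}
    (hs : ∀ v ∈ V, Commute s v) : s ∈ E := by
  by_contra hsE
  set C : Subgroup P := Subgroup.centralizer (V : Set P) with hC
  have hmemC : ∀ x, x ∈ C ↔ ∀ v ∈ V, Commute x v := by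
    intro x
    rw [hC, mem_centralizer_iff]
    exact ⟨fun h v hv => (h v hv).symm, fun h v hv => (h v hv).symm⟩
  have hEC : E ≤ C := fun e he => (hmemC e).mpr (fun v hv => c.V_comm hv he)
  have hlt : E.subgroupOf C < ⊤ := by
    rw [lt_top_iff_ne_top]
    intro h
    rw [subgroupOf_eq_top] at h
    exact hsE (h ((hmemC s).mpr hs))
  have hnil : Group.IsNilpotent C := (c.pgroup.to_subgroup C).isNilpotent
  have h1 := Group.normalizerCondition_of_isNilpotent (G := C) _ hlt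
  obtain ⟨⟨y, hyC⟩, hy, hy'⟩ := SetLike.exists_of_lt h1
  apply hy'
  rw [mem_subgroupOf]
  apply hf y _ ((hmemC y).mp hyC)
  rw [mem_normalizer_iff] at hy ⊢
  intro e
  constructor
  · intro he
    have := (hy ⟨e, hEC he⟩).mp (mem_subgroupOf.mpr he)
    simpa [mem_subgroupOf] using this
  · intro he
    have heC : e ∈ C := by
      have := C.mul_mem (C.mul_mem (C.inv_mem hyC) (hEC he)) hyC
      have e2 : y⁻¹ * (y * e * y⁻¹) * y = e := by group
      rwa [e2] at this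
    have := (hy ⟨e, heC⟩).mpr (mem_subgroupOf.mpr (by simpa using he))
    exact mem_subgroupOf.mp this

/-- the largest `Γ`-invariant subgroup of `C_V(z)` -/
def core (ρ : Γ →* MulAut V) (z : P) : Subgroup P where
  carrier := {u | ∃ h : u ∈ V, ∀ g, Commute z (ρ g ⟨u, h⟩ : V)}
  one_mem' := ⟨one_mem _, fun g => by
    have : (⟨1, one_mem V⟩ : V) = 1 := rfl
    rw [this, map_one]
    exact Commute.one_right z⟩
  mul_mem' := by
    rintro a b ⟨ha, ha'⟩ ⟨hb, hb'⟩
    refine ⟨mul_mem ha hb, fun g => ?_⟩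
    have : (⟨a * b, mul_mem ha hb⟩ : V) = ⟨a, ha⟩ * ⟨b, hb⟩ := rfl
    rw [this, map_mul]
    exact (ha' g).mul_right (hb' g)
  inv_mem' := by
    rintro a ⟨ha, ha'⟩
    refine ⟨inv_mem ha, fun g => ?_⟩
    have : (⟨a⁻¹, inv_mem ha⟩ : V) = (⟨a, ha⟩ : V)⁻¹ := rfl
    rw [this, map_inv]
    exact (ha' g).inv_right

omit [Finite P] [Finite Γ] in
theorem core_ginv (z : P) : GInv ρ (core ρ z) := by
  rintro g e ⟨h, h'⟩
  refine ⟨SetLike.coe_mem _, fun g' => ?_⟩
  have h1 := h' (g' * g)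
  rw [map_mul, MulAut.mul_apply] at h1
  exact h1

/-- **Lemma F, second form.** -/
theorem lemmaF' (c : Cfg p n W A E V ρ H τ) {B : Subgroup P} (hBV : B ≤ V) (hB : AInv A B)
    {s : normalizer (E : Set P)} (hsE : (s : P) ∉ E)
    (hcent : ∀ g, ∀ u : V, (u : P) ∈ B → Commute (s : P) (ρ g u : V)) : GInv ρ B := by
  refine c.lemmaF (U := core ρ (s : P)) (core_ginv _) ?_ hB hsE ?_
  · intro b hb
    exact ⟨hBV hb, fun g => hcent g ⟨b, hBV hb⟩ hb⟩
  · rintro u ⟨h, h'⟩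
    have := h' 1
    rw [map_one] at this
    exact this

end Cfg

end Cfsg.Agent.H786
end

-- part: H786/SupKer
section
/-!
# Enlarging the strongly embedded subgroup by the kernel of the action (helper786)
-/

set_option autoImplicit false
set_option linter.unusedSectionVars false

namespace Cfsg.Agent.H786

open Subgroup Cfsg.Agent.H467.MaxClass
open scoped commutatorElement

universe u v

/-- conjugation of `p`-subgroups of `K ≥ R` into the Sylow subgroup `R`, inside `K` -/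
theorem SE.exists_conj_in {Γ : Type v} [Group Γ] [Finite Γ] {p : ℕ} [hp : Fact p.Prime]
    {H R : Subgroup Γ} (h : SE p H R) {K : Subgroup Γ} (hRK : R ≤ K) {S : Subgroup Γ} (hSK : S ≤ K)
    (hS : IsPGroup p S) : ∃ g ∈ K, ∀ s ∈ S, g⁻¹ * s * g ∈ R := by
  have hS' : IsPGroup p (S.subgroupOf K) := hS.comap_subtype
  obtain ⟨Q, hQ⟩ := hS'.exists_le_sylow
  have hidx : ¬ p ∣ (R.subgroupOf K).index := by
    intro hd
    exact h.index (hd.trans (Subgroup.relIndex_dvd_index_of_le hRK))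
  let RS : Sylow p K := (h.pgroup.comap_subtype : IsPGroup p (R.subgroupOf K)).toSylow hidx
  obtain ⟨g, hg⟩ := MulAction.exists_smul_eq K RS Q
  refine ⟨g, g.2, fun s hs => ?_⟩
  have h1 : (⟨s, hSK hs⟩ : K) ∈ ((g • RS : Sylow p K) : Subgroup K) := by
    rw [hg]; exact hQ (mem_subgroupOf.mpr hs)
  rw [Sylow.coe_subgroup_smul, Subgroup.mem_pointwise_smul_iff_inv_smul_mem] at h1
  have h2 : g⁻¹ * ⟨s, hSK hs⟩ * g ∈ (RS : Subgroup K) := by
    simpa [MulAut.smul_def, MulAut.conj_apply] using h1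
  exact mem_subgroupOf.mp h2

/-- `H N` is strongly embedded if `N` is a normal subgroup with `N ∩ R = 1` and `H N < Γ` -/
theorem SE.sup {Γ : Type v} [Group Γ] [Finite Γ] {p : ℕ} [hp : Fact p.Prime]
    {H R : Subgroup Γ} (h : SE p H R) (N : Subgroup Γ) (hne : H ⊔ N ≠ ⊤) : SE p (H ⊔ N) R where
  le := h.le.trans le_sup_left
  pgroup := h.pgroup
  index := h.index
  ne := hne
  emb := by
    intro g hg u hu hgu
    set K := H ⊔ N with hK
    have hup : IsPGroup p (zpowers (g⁻¹ * u * g)) := by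
      have h1 : IsPGroup p (zpowers u) := h.pgroup.to_le (zpowers_le.mpr hu)
      have h2 := h1.map (MulAut.conj g⁻¹).toMonoidHom
      rw [MonoidHom.map_zpowers] at h2
      have h3 : (MulAut.conj g⁻¹).toMonoidHom u = g⁻¹ * u * g := by
        show g⁻¹ * u * g⁻¹⁻¹ = _
        rw [inv_inv]
      rwa [h3] at h2
    obtain ⟨y, hyK, hy⟩ := h.exists_conj_in (h.le.trans le_sup_left : R ≤ K)
      (zpowers_le.mpr hgu) hup
    have h1 := hy _ (mem_zpowers _)
    apply h.emb (g * y) _ u hu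
    · have e : (g * y)⁻¹ * u * (g * y) = y⁻¹ * (g⁻¹ * u * g) * y := by group
      rw [e]
      exact h.le h1
    · intro hgy
      apply hg
      have := K.mul_mem ((le_sup_left : H ≤ K) hgy) (K.inv_mem hyK)
      simpa using this

namespace Cfg

variable {P : Type u} [Group P] [Finite P] {p n : ℕ} [hp : Fact p.Prime] {W : ℕ → Subgroup P}
  [hW1 : (W 1).Normal] {A : Subgroup (MulAut (W 1))} {E V : Subgroup P} {Γ : Type v} [Group Γ]
  [Finite Γ] {ρ : Γ →* MulAut V} {H : Subgroup Γ} {τ : (normalizer (E : Set P)) →* Γ}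

theorem exists_mul_ker {g : Γ} (hg : g ∈ H ⊔ ρ.ker) : ∃ h ∈ H, ρ g = ρ h := by
  have hg' : g ∈ ((H ⊔ ρ.ker : Subgroup Γ) : Set Γ) := hg
  rw [Subgroup.mul_normal] at hg'
  obtain ⟨h, hh, k, hk, rfl⟩ := hg'
  refine ⟨h, hh, ?_⟩
  simp only
  rw [map_mul, MonoidHom.mem_ker.mp hk, mul_one]

theorem supKer (c : Cfg p n W A E V ρ H τ) (hne : H ⊔ ρ.ker ≠ ⊤) :
    Cfg p n W A E V ρ (H ⊔ ρ.ker) τ := by
  have hse := c.se.sup ρ.ker hne
  exact
  { mc := c.mc
    deg := c.deg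
    five := c.five
    conj_le := c.conj_le
    sylow := c.sylow
    E_le := c.E_le
    E_ne := c.E_ne
    mem_V := c.mem_V
    ρτ := c.ρτ
    ker := c.ker
    H_ne := hne
    τ_mem := fun s => (le_sup_left : H ≤ H ⊔ ρ.ker) (c.τ_mem s)
    emb := fun g hg s hs => hse.emb g hg (τ s) ⟨s, rfl⟩ hs
    sylowΓ := c.sylowΓ
    ext := by
      intro h hh
      obtain ⟨h', hh', e⟩ := exists_mul_ker hh
      obtain ⟨a, ha, h1, h2⟩ := c.ext h' hh'
      refine ⟨a, ha, h1, fun v x hv => ?_⟩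
      rw [h2 v x hv, e]
    cent := c.cent }

/-- if `H ker ρ = Γ` then every `A`-invariant subgroup is `Γ`-invariant -/
theorem ginv_of_sup_ker (c : Cfg p n W A E V ρ H τ) (htop : H ⊔ ρ.ker = ⊤) {B : Subgroup P}
    (hB : AInv A B) : GInv ρ B := by
  intro g v hv
  obtain ⟨h, hh, e⟩ := exists_mul_ker (H := H) (ρ := ρ) (g := g) (by rw [htop]; trivial)
  rw [e]
  exact c.H_inv hB hh hv

end Cfg

end Cfsg.Agent.H786
end

-- part: H467/DegUnif
section
/-!
# Degree analysis in `p`-groups of maximal class (helper467; block D1-D4 of the project S5267 of helper786)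

`P` a `p`-group of maximal class with the chain `W`.

* `MC.eq_W_of_normal`, `MC.exists_eq_W` : the normal subgroups inside `W 1` are the `W m`;
* `MC.D1` (`deg_uniform`) : if `W t` centralises `W a` and `W (t - 1)` does not then `[W i, W (t - 1)] = W (i + κ)` for
  all `i ≥ a`, and the commutators of generators have exactly this index;
* `MC.D2` (`transvection`), `MC.D3` (`deg_next_cases`) : the action of `W (t - 2)`;
* `MC.D4` (`pairing`) : the perfect pairing in the exceptional case, `MC.deg_of_add_le` : positive degree below it;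
* `MC.deriv_mk`, `MC.mk_comm_pow_mul`, `MC.pow_mk_eq`, `MC.exists_pow`, `MC.t_mem'`, `MC.t_notMem'` : coordinates.
-/

set_option autoImplicit false

namespace Cfsg.Agent.H467.MaxClass

open Subgroup
open scoped commutatorElement

universe u

variable {P : Type u} [Group P]

namespace MC

variable {p n : ℕ} {W : ℕ → Subgroup P}

/-- `W i ≤ W j` forces `j ≤ i` below the bottom. -/
theorem le_iff (h : MC P p n W) [hp : Fact p.Prime] {i j : ℕ} (hi : i < n) : W i ≤ W j ↔ j ≤ i := by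
  constructor
  · intro hle
    by_contra hlt
    push Not at hlt
    obtain ⟨a, ha, ha'⟩ := h.ne_succ hi
    exact ha' (h.antitone (Nat.succ_le_of_lt hlt) (hle ha))
  · intro hji
    exact h.antitone hji

theorem W_inj (h : MC P p n W) [hp : Fact p.Prime] {i j : ℕ} (hi : i < n) (hj : j ≤ n) (he : W i = W j) : i = j := by
  have h1 : j ≤ i := (h.le_iff hi).1 he.le
  have h2 : i ≤ j := (h.le_iff (by omega)).1 he.ge
  omega

theorem ne_bot (h : MC P p n W) [hp : Fact p.Prime] {i : ℕ} (hi : i < n) : W i ≠ ⊥ := by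
  intro he
  obtain ⟨a, ha, ha'⟩ := h.ne_succ hi
  rw [he, mem_bot] at ha
  exact ha' (ha ▸ one_mem _)

/-- `W i = ⟨x⟩ W (i + 1)` -/
theorem le_of_mem (h : MC P p n W) [hp : Fact p.Prime] {i : ℕ} (hi : i < n) {x : P} (hx : x ∈ W i) (hx' : x ∉ W (i + 1))
    {N : Subgroup P} (hxN : x ∈ N) (hN : W (i + 1) ≤ N) : W i ≤ N := by
  intro b hb
  obtain ⟨k, hk⟩ := h.exists_zpow hi hx hx' hb
  have h1 := mul_mem (zpow_mem hxN k) (hN hk)
  rwa [mul_inv_cancel_left] at h1

/-- `{w | ⁅w, z⁆ ∈ N}` -/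
def comL (N : Subgroup P) [hN : N.Normal] (z : P) : Subgroup P where
  carrier := {w | ⁅w, z⁆ ∈ N}
  one_mem' := by simp
  mul_mem' := by
    intro x y hx hy
    have e : ⁅x * y, z⁆ = x * ⁅y, z⁆ * x⁻¹ * ⁅x, z⁆ := by simp only [commutatorElement_def]; group
    show ⁅x * y, z⁆ ∈ N
    rw [e]
    exact mul_mem (hN.conj_mem _ hy _) hx
  inv_mem' := by
    intro x hx
    have e : ⁅x⁻¹, z⁆ = x⁻¹ * ⁅x, z⁆⁻¹ * x⁻¹⁻¹ := by simp only [commutatorElement_def]; group
    show ⁅x⁻¹, z⁆ ∈ N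
    rw [e]
    exact hN.conj_mem _ (inv_mem hx) _

theorem mem_comL {N : Subgroup P} [N.Normal] {z w : P} : w ∈ comL N z ↔ ⁅w, z⁆ ∈ N := Iff.rfl

/-- A normal subgroup inside `W i` and not inside `W (i + 1)` is `W i`, for `i ≥ 1`. -/
theorem eq_W_of_normal (h : MC P p n W) [hp : Fact p.Prime] {N : Subgroup P} (hN : N.Normal) {i : ℕ} (hi : 1 ≤ i)
    (hle : N ≤ W i) (hnle : ¬ N ≤ W (i + 1)) : N = W i := by
  refine le_antisymm hle ?_
  obtain ⟨x, hxN, hx'⟩ := SetLike.not_le_iff_exists.1 hnle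
  have hx := hle hxN
  have hin : i < n := by
    by_contra hcon
    push Not at hcon
    rw [h.bot_of_le hcon, mem_bot] at hx
    exact hx' (hx ▸ one_mem _)
  -- `W j ≤ N ⊔ W (j + 1)`
  have key : ∀ d, W (i + d) ≤ N ⊔ W (i + d + 1) := by
    intro d
    induction d with
    | zero => exact h.le_of_mem hin hx hx' (mem_sup_left hxN) le_sup_right
    | succ d ih =>
      have h1 : W (i + d + 1) = ⁅W (i + d), (⊤ : Subgroup P)⁆ := (h.comm_eq (by omega)).symm
      have h2 : ⁅W (i + d), (⊤ : Subgroup P)⁆ ≤ ⁅N ⊔ W (i + d + 1), (⊤ : Subgroup P)⁆ := commutator_mono ih le_rfl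
      have hn2 := h.normal (i + d + 1)
      have h3 : ⁅N ⊔ W (i + d + 1), (⊤ : Subgroup P)⁆ ≤ N ⊔ W (i + d + 2) := by
        have hnN : (N ⊔ W (i + d + 2)).Normal := by
          have := h.normal (i + d + 2)
          infer_instance
        rw [commutator_le]
        intro y hy x _
        have h5 : N ⊔ W (i + d + 1) ≤ comL (N ⊔ W (i + d + 2)) x := by
          refine sup_le (fun w hw => ?_) (fun w hw => ?_)
          · have h6 : ⁅w, x⁆ ∈ N := by
              rw [commutatorElement_def, mul_assoc, mul_assoc, ← mul_assoc x]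
              exact mul_mem hw (hN.conj_mem _ (inv_mem hw) _)
            exact mem_sup_left h6
          · exact mem_sup_right (h.comm_mem hw)
        exact h5 hy
      rw [show i + (d + 1) = i + d + 1 by omega, show i + d + 1 + 1 = i + d + 2 by omega]
      exact (h1.le.trans h2).trans h3
  have key2 : ∀ d, W i ≤ N ⊔ W (i + d) := by
    intro d
    induction d with
    | zero => exact le_sup_right
    | succ d ih => exact ih.trans (sup_le le_sup_left (key d))
  have h3 := key2 (n - i)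
  rwa [h.bot_of_le (by omega : n ≤ i + (n - i)), sup_bot_eq] at h3

/-- The normal subgroups inside `W 1` are the `W m`. -/
theorem exists_eq_W (h : MC P p n W) [hp : Fact p.Prime] {N : Subgroup P} (hN : N.Normal) {i : ℕ} (hi : 1 ≤ i)
    (hle : N ≤ W i) (hin : i ≤ n) : ∃ m, i ≤ m ∧ m ≤ n ∧ N = W m := by
  obtain ⟨d, hd⟩ : ∃ d, n = i + d := ⟨n - i, by omega⟩
  induction d generalizing i with
  | zero =>
    refine ⟨i, le_rfl, hin, le_antisymm hle ?_⟩
    rw [h.bot_of_le (by omega)]; exact bot_le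
  | succ d ih =>
    by_cases h1 : N ≤ W (i + 1)
    · obtain ⟨m, hm1, hm2, hm3⟩ := ih (by omega) h1 (by omega) (by omega)
      exact ⟨m, by omega, hm2, hm3⟩
    · exact ⟨i, le_rfl, hin, h.eq_W_of_normal hN hi hle h1⟩

/-- One generator of `W i`, one of `W r`. -/
theorem comm_le_of_gen (h : MC P p n W) [hp : Fact p.Prime] {i r : ℕ} (hi : i < n) (hr : r < n) {v z : P}
    (hv : v ∈ W i) (hv' : v ∉ W (i + 1)) (hz : z ∈ W r) (hz' : z ∉ W (r + 1)) {N : Subgroup P} (hN : N.Normal)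
    (hvz : ⁅v, z⁆ ∈ N) (h1 : ⁅W (i + 1), W r⁆ ≤ N) (h2 : ⁅W i, W (r + 1)⁆ ≤ N) : ⁅W i, W r⁆ ≤ N := by
  have h3 : ∀ w ∈ W i, ⁅w, z⁆ ∈ N := by
    have : W i ≤ comL N z :=
      h.le_of_mem hi hv hv' hvz fun w hw => h1 (commutator_mem_commutator hw hz)
    exact fun w hw => this hw
  rw [commutator_le]
  intro w hw y hy
  have : W r ≤ comL N w := by
    refine h.le_of_mem hr hz hz' ?_ fun y hy => ?_
    · rw [mem_comL, ← commutatorElement_inv]
      exact inv_mem (h3 w hw)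
    · rw [mem_comL, ← commutatorElement_inv]
      exact inv_mem (h2 (commutator_mem_commutator hw hy))
  have h4 := this hy
  rw [mem_comL, ← commutatorElement_inv] at h4
  exact inv_mem_iff.1 h4

/-- **D1.** -/
theorem deg_uniform (h : MC P p n W) [hp : Fact p.Prime] {a r : ℕ} (ha : 1 ≤ a) (hr : 1 ≤ r)
    (hbot : ⁅W a, W (r + 1)⁆ = ⊥) (hne : ⁅W a, W r⁆ ≠ ⊥) :
    ∃ κ, r ≤ κ ∧ a + κ ≤ n - 1 ∧ (∀ i, a ≤ i → ⁅W i, W r⁆ = W (i + κ)) ∧
      (∀ i, a ≤ i → i + κ ≤ n - 1 → ∀ v ∈ W i, v ∉ W (i + 1) → ∀ z ∈ W r, z ∉ W (r + 1) →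
        ⁅v, z⁆ ∉ W (i + κ + 1)) := by
  have h4 := h.four_le
  have hnr := h.normal r
  have hna := h.normal a
  have han : a ≤ n := by
    by_contra hcon
    apply hne
    rw [h.bot_of_le (by omega : n ≤ a), commutator_bot_left]
  obtain ⟨m, hm1, hm2, hm3⟩ := h.exists_eq_W (N := ⁅W a, W r⁆) (commutator_normal _ _) ha (commutator_le_left _ _) han
  have hmn : m < n := by
    rcases Nat.lt_or_ge m n with h1 | h1
    · exact h1
    · rw [hm3, h.bot_of_le h1] at hne
      exact absurd rfl hne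
  obtain ⟨κ, hκ⟩ : ∃ κ, m = a + κ := ⟨m - a, by omega⟩
  -- the degrees
  have hall : ∀ d, ⁅W (a + d), W r⁆ = W (a + d + κ) := by
    intro d
    induction d with
    | zero => rw [add_zero, hm3, hκ]
    | succ d ih =>
      have hn1 := h.normal (a + d)
      have hn2 := h.normal (a + d + 1)
      have e1 : ⁅W (a + d), (⊤ : Subgroup P)⁆ = W (a + d + 1) := h.comm_eq (by omega)
      have e2 : ⁅W (a + d + κ), (⊤ : Subgroup P)⁆ = W (a + d + κ + 1) := h.comm_eq (by omega)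
      have hz : ⁅W (r + 1), W (a + d)⁆ = ⊥ := by
        rw [commutator_comm, eq_bot_iff, ← hbot]
        exact commutator_mono (h.antitone (by omega)) le_rfl
      have hr1 : ⁅(⊤ : Subgroup P), W r⁆ = W (r + 1) := by rw [commutator_comm]; exact h.comm_eq hr
      have hr2 : ⁅W r, (⊤ : Subgroup P)⁆ = W (r + 1) := h.comm_eq hr
      rw [show a + (d + 1) = a + d + 1 by omega, show a + d + 1 + κ = a + d + κ + 1 by omega]
      apply le_antisymm
      · rw [← e1]
        refine three_le (h.normal _) ?_ ?_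
        · rw [hr1, hz]; exact bot_le
        · rw [commutator_comm (W r), ih, e2]
      · rw [← e2, ← ih]
        refine three_le (commutator_normal _ _) ?_ ?_
        · rw [hr2, hz]; exact bot_le
        · rw [commutator_comm (⊤ : Subgroup P), e1]
  have hall' : ∀ i, a ≤ i → ⁅W i, W r⁆ = W (i + κ) := by
    intro i hi
    obtain ⟨d, rfl⟩ := Nat.exists_eq_add_of_le hi
    exact hall d
  refine ⟨κ, ?_, by omega, hall', ?_⟩
  · have h1 : W (a + κ) ≤ W (a + r) := by rw [← hall' a le_rfl]; exact h.comm_comm _ _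
    have := (h.le_iff (by omega)).1 h1
    omega
  · intro i hi hin v hv hv' z hz hz' hmem
    have hin' : i < n := by omega
    have hrn : r < n := by
      by_contra hcon
      apply hne
      rw [h.bot_of_le (by omega : n ≤ r), commutator_bot_right]
    have hnM := h.normal (i + κ + 1)
    -- `W i` commutes with `W r` modulo `M`
    have hle : ⁅W i, W r⁆ ≤ W (i + κ + 1) := by
      refine h.comm_le_of_gen hin' hrn hv hv' hz hz' hnM hmem ?_ ?_
      · rw [show i + κ + 1 = (i + 1) + κ by omega, ← hall' (i + 1) (by omega)]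
      · refine le_trans (commutator_mono (h.antitone hi) le_rfl) ?_
        rw [hbot]; exact bot_le
    rw [hall' i hi] at hle
    have := (h.le_iff (by omega)).1 hle
    omega

/-- Positive degree below the last level, without any hypothesis. -/
theorem deg_of_add_le [Finite P] (h : MC P p n W) [hp : Fact p.Prime] (hp3 : 3 ≤ p) {i j : ℕ} (hi : 1 ≤ i)
    (hj : 1 ≤ j) (hij : i + j ≤ n - 2) : ⁅W i, W j⁆ ≤ W (i + j + 1) := by
  have h4 := h.four_le
  refine h.deg (k := n - 2) (fun l h2 hl => h.blackburn hp3 l h2 (by omega)) j i hi hj hij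

theorem last_comm_ne_bot [Finite P] (h : MC P p n W) [hp : Fact p.Prime] (hK : h.Ksub (n - 2) ≠ W 1) :
    ⁅W (n - 2), W 1⁆ ≠ ⊥ := by
  have h4 := h.four_le
  intro hb
  apply hK
  apply h.eq_W1
  · intro y hy w hw
    have : ⁅w, y⁆ ∈ ⁅W (n - 2), W 1⁆ := commutator_mem_commutator hw hy
    rw [hb, mem_bot] at this
    rw [this]; exact one_mem _
  · exact h.Ksub_ne_top' (by omega) (by omega)

/-- **D4.** The perfect pairing of the exceptional case: subgroups. -/
theorem pairing_ne_bot [Finite P] (h : MC P p n W) [hp : Fact p.Prime] (hp3 : 3 ≤ p) (hK : h.Ksub (n - 2) ≠ W 1)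
    {i j : ℕ} (hi : 1 ≤ i) (hj : 1 ≤ j) (hij : i + j = n - 1) : ⁅W i, W j⁆ ≠ ⊥ := by
  have h4 := h.four_le
  induction j generalizing i with
  | zero => omega
  | succ j ih =>
    rcases Nat.eq_zero_or_pos j with h0 | h0
    · subst h0
      have : i = n - 2 := by omega
      rw [this]
      exact h.last_comm_ne_bot hK
    · intro hb
      refine ih (i := i + 1) (by omega) h0 (by omega) ?_
      rw [eq_bot_iff, ← hb, ← h.comm_eq hi]
      have hn1 := h.normal i
      have hn2 := h.normal (j + 1)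
      refine three_le (commutator_normal _ _) ?_ ?_
      · rw [commutator_comm (⊤ : Subgroup P), h.comm_eq h0, commutator_comm]
      · rw [commutator_comm (W j)]
        refine le_trans (commutator_mono (h.deg_of_add_le hp3 hi h0 (by omega)) le_rfl) ?_
        refine le_trans (h.comm_le _) ?_
        rw [h.bot_of_le (by omega)]
        exact bot_le

/-- **D4.** The perfect pairing of the exceptional case: elements. -/
theorem pairing [Finite P] (h : MC P p n W) [hp : Fact p.Prime] (hp3 : 3 ≤ p) (hK : h.Ksub (n - 2) ≠ W 1)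
    {i j : ℕ} (hi : 1 ≤ i) (hj : 1 ≤ j) (hij : i + j = n - 1) {v s : P} (hv : v ∈ W i) (hv' : v ∉ W (i + 1))
    (hs : s ∈ W j) (hs' : s ∉ W (j + 1)) : ⁅v, s⁆ ≠ 1 := by
  have h4 := h.four_le
  intro h1
  apply h.pairing_ne_bot hp3 hK hi hj hij
  rw [eq_bot_iff]
  refine h.comm_le_of_gen (by omega) (by omega) hv hv' hs hs' (by infer_instance) (by rw [h1]; exact one_mem _) ?_ ?_
  · exact (h.comm_comm _ _).trans (h.bot_of_le (by omega)).le
  · exact (h.comm_comm _ _).trans (h.bot_of_le (by omega)).le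

/-! ### Coefficients -/

/-- generation by natural powers -/
theorem exists_pow (h : MC P p n W) [hp : Fact p.Prime] {i : ℕ} (hi : i < n) {a : P}
    (ha : a ∈ W i) (ha' : a ∉ W (i + 1)) {b : P} (hb : b ∈ W i) :
    ∃ k : ℕ, ∃ w ∈ W (i + 1), b = a ^ k * w := by
  obtain ⟨k, hk⟩ := h.exists_zpow hi ha ha' hb
  have hp0 : (0 : ℤ) < p := by exact_mod_cast hp.out.pos
  obtain ⟨l, hl⟩ : ∃ l : ℕ, (l : ℤ) = k % p := ⟨(k % p).toNat, Int.toNat_of_nonneg (Int.emod_nonneg _ hp0.ne')⟩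
  refine ⟨l, (a ^ l)⁻¹ * b, ?_, by group⟩
  have h1 : (a ^ l)⁻¹ * b = (a ^ p) ^ (k / p) * ((a ^ k)⁻¹ * b) := by
    have h2 : k = l + p * (k / p) := by rw [hl]; exact (Int.emod_add_mul_ediv k p).symm
    have h3 : a ^ k = a ^ l * (a ^ p) ^ (k / p) := by
      conv_lhs => rw [h2]
      rw [zpow_add, zpow_natCast, zpow_mul, zpow_natCast]
    have h4 : (a ^ p) ^ (k / p) * (a ^ l)⁻¹ = (a ^ l)⁻¹ * (a ^ p) ^ (k / p) := by
      have : Commute (a ^ p) (a ^ l) := (Commute.refl a).pow_pow _ _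
      exact ((this.zpow_left _).inv_right).eq
    rw [h3]
    simp only [mul_inv_rev]
    rw [mul_assoc, ← mul_assoc ((a ^ p) ^ (k / ↑p)), mul_inv_cancel, one_mul]
  rw [h1]
  exact mul_mem (zpow_mem (h.pow_p_mem ha) _) hk

/-- the order of a generator modulo the next term -/
theorem pow_mk_eq (h : MC P p n W) [hp : Fact p.Prime] {i : ℕ} {a : P} (ha : a ∈ W i) (ha' : a ∉ W (i + 1)) {k l : ℕ}
    (he : haveI := h.normal (i + 1); QuotientGroup.mk' (W (i + 1)) a ^ k = QuotientGroup.mk' (W (i + 1)) a ^ l) :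
    k ≡ l [MOD p] := by
  have hn := h.normal (i + 1)
  have h1 : orderOf (QuotientGroup.mk' (W (i + 1)) a) = p := by
    apply orderOf_eq_prime
    · rw [← map_pow, QuotientGroup.mk'_apply, QuotientGroup.eq_one_iff]
      exact h.pow_p_mem ha
    · rwa [QuotientGroup.mk'_apply, Ne, QuotientGroup.eq_one_iff]
  rw [← h1]
  exact pow_eq_pow_iff_modEq.1 he

/-- commutators are additive modulo the next term -/
theorem mk_comm_pow_mul (h : MC P p n W) {m : ℕ} {x w z : P} (hx : ⁅x, z⁆ ∈ W m) (hw : ⁅w, z⁆ ∈ W (m + 1)) (g : ℕ) :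
    haveI := h.normal (m + 1)
    QuotientGroup.mk' (W (m + 1)) ⁅x ^ g * w, z⁆ = QuotientGroup.mk' (W (m + 1)) ⁅x, z⁆ ^ g := by
  have hn := h.normal (m + 1)
  set q := QuotientGroup.mk' (W (m + 1)) with hq
  have h0 : ∀ y ∈ W (m + 1), q y = 1 := fun y hy => (QuotientGroup.eq_one_iff y).2 hy
  have hcent : ∀ y : P ⧸ W (m + 1), Commute ⁅q x, q z⁆ y := by
    intro y
    obtain ⟨y, rfl⟩ := QuotientGroup.mk'_surjective _ y
    rw [← hq, ← map_commutatorElement, ← commutatorElement_eq_one_iff_commute, ← map_commutatorElement]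
    exact h0 _ (h.comm_mem hx)
  have hw1 : ⁅q w, q z⁆ = 1 := by rw [← map_commutatorElement]; exact h0 _ hw
  rw [map_commutatorElement, map_commutatorElement, map_mul, map_pow, ← comm_pow_left hcent g]
  have e : ⁅q x ^ g * q w, q z⁆ = q x ^ g * ⁅q w, q z⁆ * (q x ^ g)⁻¹ * ⁅q x ^ g, q z⁆ := by
    simp only [commutatorElement_def]; group
  rw [e, hw1]
  group

/-- the elements `⁅…⁅a, s⁆…, s⁆` -/
theorem t_mem' (h : MC P p n W) {s a : P} {i : ℕ} (ha : a ∈ W i) (j : ℕ) : t s a j ∈ W (i + j) := by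
  induction j with
  | zero => exact ha
  | succ j ih => exact h.comm_mem ih

theorem t_notMem' (h : MC P p n W) [hp : Fact p.Prime] {s a : P} {i : ℕ} (hi : 1 ≤ i) (ha : a ∈ W i)
    (ha' : a ∉ W (i + 1)) (hs : ∀ l, 1 ≤ l → l ≤ n - 2 → s ∉ h.Ksub l) (j : ℕ) (hij : i + j ≤ n - 1) :
    t s a j ∉ W (i + j + 1) := by
  have h4 := h.four_le
  induction j with
  | zero => exact ha'
  | succ j ih =>
    intro hmem
    have h1 := (h.mem_K_iff (i := i + j) (by omega) (h.t_mem' ha j) (ih (by omega)) s).2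
      (by rw [t_succ] at hmem; exact hmem)
    exact hs (i + j) (by omega) (by omega) h1

/-- The derivation rule modulo a term of the chain. -/
theorem deriv_mk (h : MC P p n W) {m : ℕ} {u v s : P} (c1 : ⁅⁅u, s⁆, ⁅v, s⁆⁆ ∈ W (m + 1)) (c2 : ⁅u, ⁅v, s⁆⁆ ∈ W m)
    (c3 : ⁅⁅u, s⁆, v⁆ ∈ W m) (c4 : ⁅⁅u, v⁆, ⁅u, s⁆⁆ ∈ W (m + 1)) (c5 : ⁅⁅u, v⁆, ⁅v, s⁆⁆ ∈ W (m + 1)) :
    haveI := h.normal (m + 1)
    QuotientGroup.mk' (W (m + 1)) ⁅⁅u, v⁆, s⁆ =
      QuotientGroup.mk' (W (m + 1)) ⁅⁅u, s⁆, v⁆ * QuotientGroup.mk' (W (m + 1)) ⁅u, ⁅v, s⁆⁆ := by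
  have hn := h.normal (m + 1)
  set q := QuotientGroup.mk' (W (m + 1)) with hq
  have h0 : ∀ y ∈ W (m + 1), q y = 1 := fun y hy => (QuotientGroup.eq_one_iff y).2 hy
  have hc : ∀ x y : P, ⁅x, y⁆ ∈ W (m + 1) → Commute (q x) (q y) := by
    intro x y hxy
    rw [← commutatorElement_eq_one_iff_commute, ← map_commutatorElement]
    exact h0 _ hxy
  have hz : ∀ x : P, x ∈ W m → ∀ y, Commute (q x) y := by
    intro x hx y
    obtain ⟨y, rfl⟩ := QuotientGroup.mk'_surjective _ y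
    exact hc _ _ (h.comm_mem hx)
  have e := deriv_one (u := q u) (v := q v) (s := q s)
    (by rw [← map_commutatorElement, ← map_commutatorElement]; exact hc _ _ c1)
    (by rw [← map_commutatorElement, ← map_commutatorElement]; exact hz _ c2)
    (by rw [← map_commutatorElement, ← map_commutatorElement]; exact hz _ c3)
    (by rw [← map_commutatorElement, ← map_commutatorElement]; exact hc _ _ c4)
    (by rw [← map_commutatorElement, ← map_commutatorElement]; exact hc _ _ c5)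
  simpa only [← map_commutatorElement] using e

/-- The degree of the next term: it is smaller than `κ - 1` and uniform, or at least `κ - 1`. -/
theorem deg_next (h : MC P p n W) [hp : Fact p.Prime] {a r k : ℕ} (ha : 1 ≤ a) (hr : 1 ≤ r)
    (hκ : ∀ i, a ≤ i → ⁅W i, W (r + 1)⁆ = W (i + k + 1)) (hak : a + k + 1 ≤ n - 1) :
    (∀ i, a ≤ i → ⁅W i, W r⁆ ≤ W (i + k)) ∨
      ∃ d, r ≤ d ∧ d < k ∧ (∀ i, a ≤ i → ⁅W i, W r⁆ = W (i + d)) ∧
        (∀ i, a ≤ i → i + d ≤ n - 1 → ∀ v ∈ W i, v ∉ W (i + 1) → ∀ z ∈ W r, z ∉ W (r + 1) → ⁅v, z⁆ ∉ W (i + d + 1)) := by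
  have h4 := h.four_le
  have hna := h.normal a
  have hnr := h.normal r
  -- the relations between consecutive degrees
  have h1 : ∀ i, a ≤ i → ∀ m, ⁅W i, W r⁆ ≤ W m → ⁅W (i + 1), W r⁆ ≤ W (i + k + 1) ⊔ W (m + 1) := by
    intro i hi m hm
    rw [← h.comm_eq (by omega : 1 ≤ i)]
    have hn1 := h.normal (i + k + 1)
    have hn2 := h.normal (m + 1)
    refine three_le (by infer_instance) ?_ ?_
    · rw [commutator_comm (⊤ : Subgroup P), h.comm_eq hr, commutator_comm, hκ i hi]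
      exact le_sup_left
    · rw [commutator_comm (W r)]
      exact le_sup_of_le_right ((commutator_mono hm le_rfl).trans (h.comm_le _))
  have h2 : ∀ i, a ≤ i → ⁅⁅W i, W r⁆, (⊤ : Subgroup P)⁆ ≤ W (i + k + 1) ⊔ ⁅W (i + 1), W r⁆ := by
    intro i hi
    have hn1 := h.normal (i + k + 1)
    have hn2 := h.normal (i + 1)
    refine three_le (by infer_instance) ?_ ?_
    · rw [h.comm_eq hr, commutator_comm, hκ i hi]
      exact le_sup_left
    · rw [commutator_comm (⊤ : Subgroup P), h.comm_eq (by omega : 1 ≤ i)]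
      exact le_sup_right
  obtain ⟨m, hm1, hm2, hm3⟩ := h.exists_eq_W (N := ⁅W a, W r⁆) (commutator_normal _ _) ha (commutator_le_left _ _)
    (by omega)
  rcases Nat.lt_or_ge m (a + k) with hlt | hge
  · right
    obtain ⟨d, hd⟩ : ∃ d, m = a + d := ⟨m - a, by omega⟩
    have hall : ∀ e, ⁅W (a + e), W r⁆ = W (a + e + d) := by
      intro e
      induction e with
      | zero => rw [add_zero, hm3, hd]
      | succ e ih =>
        have h5 := h1 (a + e) (by omega) _ ih.le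
        have h6 := h2 (a + e) (by omega)
        rw [ih, h.comm_eq (by omega)] at h6
        rw [show a + (e + 1) = a + e + 1 by omega, show a + e + 1 + d = a + e + d + 1 by omega]
        have h7 : ⁅W (a + e + 1), W r⁆ ≤ W (a + e + d + 1) :=
          h5.trans (sup_le (h.antitone (by omega)) le_rfl)
        rcases Nat.lt_or_ge (a + e + d + 1) n with h8 | h8
        · have hn1 := h.normal (a + e + 1)
          refine h.eq_W_of_normal (commutator_normal _ _) (by omega) h7 ?_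
          intro h9
          have h10 := h6.trans (sup_le (h.antitone (by omega : a + e + d + 1 + 1 ≤ a + e + k + 1)) h9)
          have := (h.le_iff h8).1 h10
          omega
        · refine le_antisymm h7 ?_
          rw [h.bot_of_le h8]; exact bot_le
    have hall' : ∀ i, a ≤ i → ⁅W i, W r⁆ = W (i + d) := by
      intro i hi
      obtain ⟨e, rfl⟩ := Nat.exists_eq_add_of_le hi
      exact hall e
    refine ⟨d, ?_, by omega, hall', ?_⟩
    · have h5 : W (a + d) ≤ W (a + r) := by rw [← hall' a le_rfl]; exact h.comm_comm _ _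
      have := (h.le_iff (by omega)).1 h5
      omega
    · intro i hi hin v hv hv' z hz hz' hmem
      have hrn : r < n := by
        by_contra hcon
        have h5 := hall' i hi
        rw [h.bot_of_le (by omega : n ≤ r), commutator_bot_right] at h5
        exact h.ne_bot (by omega) h5.symm
      have h5 : ⁅W i, W r⁆ ≤ W (i + d + 1) := by
        refine h.comm_le_of_gen (by omega) hrn hv hv' hz hz' (h.normal _) hmem ?_ ?_
        · rw [hall' (i + 1) (by omega), show i + 1 + d = i + d + 1 by omega]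
        · rw [hκ i hi]; exact h.antitone (by omega)
      rw [hall' i hi] at h5
      have := (h.le_iff (by omega)).1 h5
      omega
  · left
    have hall : ∀ e, ⁅W (a + e), W r⁆ ≤ W (a + e + k) := by
      intro e
      induction e with
      | zero => rw [add_zero, hm3]; exact h.antitone hge
      | succ e ih =>
        refine (h1 (a + e) (by omega) _ ih).trans (sup_le (h.antitone (by omega)) (h.antitone (by omega)))
    intro i hi
    obtain ⟨e, rfl⟩ := Nat.exists_eq_add_of_le hi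
    exact hall e

/-- The coefficient function in the case of degree at least `κ - 1 = k`. -/
theorem coeff [Finite P] (h : MC P p n W) [hp : Fact p.Prime] (hp3 : 3 ≤ p) {a r k : ℕ} (ha : 1 ≤ a) (hr : 1 ≤ r)
    (hbot : ⁅W a, W (r + 2)⁆ = ⊥) (hκ : ∀ i, a ≤ i → ⁅W i, W (r + 1)⁆ = W (i + k + 1)) (hak : a + k + 1 ≤ n - 1)
    (hrk : r ≤ k) (hB : ∀ i, a ≤ i → ⁅W i, W r⁆ ≤ W (i + k)) {z1 : P} (hz1 : z1 ∈ W r) (hz1' : z1 ∉ W (r + 1))
    (hne : ∀ i, a ≤ i → i + k + 1 ≤ n - 1 → ∀ v ∈ W i, v ∉ W (i + 1) → ∀ z ∈ W (r + 1), z ∉ W (r + 2) →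
        ⁅v, z⁆ ∉ W (i + k + 2)) :
    ∃ (f : ℕ → ℕ) (g : ℕ), ¬ g ≡ 0 [MOD p] ∧ (∀ j, a + j + k + 1 ≤ n - 1 → f j ≡ f (j + 1) + g [MOD p]) ∧
      (a + 2 * k + 1 ≤ n - 1 → f (k + 1) * g ≡ f 0 * g [MOD p]) ∧
      (∀ j, a + j + k ≤ n - 1 → ∀ v ∈ W (a + j), v ∉ W (a + j + 1) → Commute v z1 → f j ≡ 0 [MOD p]) := by
  have h4 := h.four_le
  obtain ⟨s, hs1, hs2, hs⟩ := h.exists_good hp3
  obtain ⟨va, hva, hva'⟩ := h.ne_succ (i := a) (by omega)
  set u : ℕ → P := fun j => t s va j with hu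
  have hum : ∀ j, u j ∈ W (a + j) := fun j => h.t_mem' hva j
  have hun : ∀ j, a + j ≤ n - 1 → u j ∉ W (a + j + 1) := fun j hj => h.t_notMem' ha hva hva' hs j hj
  have hus : ∀ j, ⁅u j, s⁆ = u (j + 1) := fun j => rfl
  have hrn : r ≤ n - 2 := by
    by_contra hcon
    have h5 := hκ a le_rfl
    rw [h.bot_of_le (by omega : n ≤ r + 1), commutator_bot_right] at h5
    exact h.ne_bot (by omega) h5.symm
  set z : P := ⁅z1, s⁆ with hz
  have hzm : z ∈ W (r + 1) := h.comm_mem hz1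
  have hzn : z ∉ W (r + 2) := by
    intro hmem
    exact hs r hr hrn ((h.mem_K_iff (by omega) hz1 hz1' s).2 hmem)
  have hzs : ⁅z, s⁆ ∈ W (r + 2) := h.comm_mem hzm
  -- elements of `W (r + 2)` commute with `W a`
  have hcomm : ∀ i, a ≤ i → ∀ x ∈ W i, ∀ y ∈ W (r + 2), ⁅x, y⁆ = 1 := by
    intro i hi x hx y hy
    have := commutator_mem_commutator (h.antitone hi hx) hy
    rwa [hbot, mem_bot] at this
  have hcz : ∀ i, a ≤ i → ∀ x ∈ W i, ∀ y ∈ W (r + 1), ⁅x, y⁆ ∈ W (i + k + 1) := by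
    intro i hi x hx y hy
    rw [← hκ i hi]; exact commutator_mem_commutator hx hy
  have hcz1 : ∀ i, a ≤ i → ∀ x ∈ W i, ∀ y ∈ W r, ⁅x, y⁆ ∈ W (i + k) := by
    intro i hi x hx y hy
    exact hB i hi (commutator_mem_commutator hx hy)
  -- `f`
  have hf : ∀ j, ∃ c : ℕ, a + j + k ≤ n - 1 → ∃ w ∈ W (a + j + k + 1), ⁅u j, z1⁆ = u (j + k) ^ c * w := by
    intro j
    by_cases hj : a + j + k ≤ n - 1
    · have h5 : ⁅u j, z1⁆ ∈ W (a + (j + k)) := by
        rw [← add_assoc]; exact hcz1 _ (by omega) _ (hum j) _ hz1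
      obtain ⟨c, w, hw, he⟩ := h.exists_pow (i := a + (j + k)) (by omega) (hum (j + k)) (hun (j + k) (by omega)) h5
      exact ⟨c, fun _ => ⟨w, by rwa [← add_assoc] at hw, he⟩⟩
    · exact ⟨0, fun h5 => absurd h5 hj⟩
  choose f hf using hf
  -- `g`
  have hg0 : ⁅u 0, z⁆ ∈ W (a + (k + 1)) := by
    have := hcz _ le_rfl _ (by simpa using hum 0 : u 0 ∈ W a) _ hzm
    rwa [add_assoc] at this
  obtain ⟨g, w0, hw0, hg⟩ := h.exists_pow (i := a + (k + 1)) (by omega) (hum (k + 1)) (hun (k + 1) (by omega)) hg0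
  -- (G)
  have hG : ∀ j, a + j + k + 1 ≤ n - 1 → ∃ w ∈ W (a + j + k + 2), ⁅u j, z⁆ = u (j + k + 1) ^ g * w := by
    intro j
    induction j with
    | zero =>
      intro _
      refine ⟨w0, by rwa [show a + 0 + k + 2 = a + (k + 1) + 1 by omega], ?_⟩
      rw [hg]; congr 3; omega
    | succ j ih =>
      intro hj
      obtain ⟨w, hw, he⟩ := ih (by omega)
      have hn := h.normal (a + j + k + 2 + 1)
      set q := QuotientGroup.mk' (W (a + j + k + 2 + 1)) with hq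
      have h0 : ∀ y ∈ W (a + j + k + 2 + 1), q y = 1 := fun y hy => (QuotientGroup.eq_one_iff y).2 hy
      have e1 := h.deriv_mk (m := a + j + k + 2) (u := u j) (v := z) (s := s)
        (by
          rw [hus, hcomm (a + (j + 1)) (by omega) _ (hum (j + 1)) _ hzs]; exact one_mem _)
        (by rw [hcomm (a + j) (by omega) _ (hum j) _ hzs]; exact one_mem _)
        (by
          rw [hus]
          have := hcz (a + (j + 1)) (by omega) _ (hum (j + 1)) _ hzm
          rwa [show a + (j + 1) + k + 1 = a + j + k + 2 by omega] at this)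
        (by
          rw [hus]
          have := h.comm_comm_mem (hcz (a + j) (by omega) _ (hum j) _ hzm) (hum (j + 1))
          exact h.antitone (by omega) this)
        (by
          rw [hcomm (a + j + k + 1) (by omega) _ (hcz (a + j) (by omega) _ (hum j) _ hzm) _ hzs]
          exact one_mem _)
      rw [hcomm (a + j) (by omega) _ (hum j) _ hzs, map_one, mul_one, hus, he] at e1
      have e2 := h.mk_comm_pow_mul (m := a + j + k + 2) (x := u (j + k + 1)) (w := w) (z := s)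
        (by
          rw [hus]
          have := hum (j + k + 1 + 1)
          rwa [show a + (j + k + 1 + 1) = a + j + k + 2 by omega] at this)
        (h.comm_mem hw) g
      rw [e2, hus] at e1
      refine ⟨(u (j + k + 2) ^ g)⁻¹ * ⁅u (j + 1), z⁆, ?_, by
        rw [show j + 1 + k + 1 = j + k + 2 by omega]; group⟩
      have : (u (j + k + 2) ^ g)⁻¹ * ⁅u (j + 1), z⁆ ∈ W (a + j + k + 2 + 1) := by
        rw [← QuotientGroup.eq_one_iff, ← QuotientGroup.mk'_apply, map_mul, map_inv, map_pow, ← e1]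
        exact inv_mul_cancel _
      rwa [show a + (j + 1) + k + 2 = a + j + k + 2 + 1 by omega]
  have hgne : ¬ g ≡ 0 [MOD p] := by
    intro hg'
    refine hne a le_rfl hak (u 0) (by simpa using hum 0) (by simpa using hun 0 (by omega)) z hzm hzn ?_
    obtain ⟨c, rfl⟩ := (Nat.modEq_zero_iff_dvd).1 hg'
    rw [hg]
    refine mul_mem ?_ (by rwa [show a + k + 2 = a + (k + 1) + 1 by omega])
    rw [pow_mul]
    exact Subgroup.pow_mem _ (h.antitone (by omega : a + k + 2 ≤ a + (k + 1) + 1) (h.pow_p_mem (hum (k + 1)))) _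
  refine ⟨f, g, hgne, ?_, ?_, ?_⟩
  · -- the slope
    intro j hj
    obtain ⟨w, hw, he⟩ := hf j (by omega)
    obtain ⟨w', hw', he'⟩ := hf (j + 1) (by omega)
    obtain ⟨w'', hw'', he''⟩ := hG j hj
    have hn := h.normal (a + j + k + 1 + 1)
    have h0 : ∀ y ∈ W (a + j + k + 1 + 1), QuotientGroup.mk' (W (a + j + k + 1 + 1)) y = 1 :=
      fun y hy => (QuotientGroup.eq_one_iff y).2 hy
    have e1 := h.deriv_mk (m := a + j + k + 1) (u := u j) (v := z1) (s := s)
      (by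
        rw [hus]
        have := hcz (a + (j + 1)) (by omega) _ (hum (j + 1)) _ hzm
        rwa [show a + (j + 1) + k + 1 = a + j + k + 1 + 1 by omega] at this)
      (hcz (a + j) (by omega) _ (hum j) _ hzm)
      (by
        rw [hus]
        have := hcz1 (a + (j + 1)) (by omega) _ (hum (j + 1)) _ hz1
        rwa [show a + (j + 1) + k = a + j + k + 1 by omega] at this)
      (by
        rw [hus]
        have := h.comm_comm_mem (hcz1 (a + j) (by omega) _ (hum j) _ hz1) (hum (j + 1))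
        exact h.antitone (by omega) this)
      (by
        have := h.comm_comm_mem (hcz1 (a + j) (by omega) _ (hum j) _ hz1) hzm
        exact h.antitone (by omega) this)
    have e2 := h.mk_comm_pow_mul (m := a + j + k + 1) (x := u (j + k)) (w := w) (z := s)
      (by
        rw [hus]
        have := hum (j + k + 1)
        rwa [show a + (j + k + 1) = a + j + k + 1 by omega] at this)
      (h.comm_mem hw) (f j)
    rw [he, e2, hus, hus, he', ← hz, he'', map_mul, map_mul, map_pow, map_pow, h0 w'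
      (by rwa [show a + (j + 1) + k + 1 = a + j + k + 1 + 1 by omega] at hw'), h0 w'' hw'', mul_one, mul_one,
      show j + 1 + k = j + k + 1 by omega, ← pow_add] at e1
    have h5 := hum (j + k + 1)
    have h6 := hun (j + k + 1) (by omega)
    rw [show a + (j + k + 1) = a + j + k + 1 by omega] at h5 h6
    exact h.pow_mk_eq h5 h6 e1
  · -- the shift by `κ`
    intro hj
    obtain ⟨w, hw, he⟩ := hf 0 (by omega)
    obtain ⟨w', hw', he'⟩ := hf (k + 1) (by omega)
    obtain ⟨w'', hw'', he''⟩ := hG 0 (by omega)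
    obtain ⟨w3, hw3, he3⟩ := hG k (by omega)
    rw [zero_add] at he he''
    rw [add_zero] at hw hw''
    have hu0 : u 0 ∈ W a := by simpa using hum 0
    have hzz : ⁅z, z1⁆ ∈ W (r + 2) := h.antitone (by omega) (h.comm_comm_mem hzm hz1)
    have hn := h.normal (a + 2 * k + 1 + 1)
    have h0 : ∀ y ∈ W (a + 2 * k + 1 + 1), QuotientGroup.mk' (W (a + 2 * k + 1 + 1)) y = 1 :=
      fun y hy => (QuotientGroup.eq_one_iff y).2 hy
    have e1 := h.deriv_mk (m := a + 2 * k + 1) (u := u 0) (v := z) (s := z1)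
      (by rw [hcomm (a + k) (by omega) _ (hcz1 a le_rfl _ hu0 _ hz1) _ hzz]; exact one_mem _)
      (by rw [hcomm a le_rfl _ hu0 _ hzz]; exact one_mem _)
      (by
        have := hcz (a + k) (by omega) _ (hcz1 a le_rfl _ hu0 _ hz1) _ hzm
        rwa [show a + k + k + 1 = a + 2 * k + 1 by omega] at this)
      (by
        have := h.comm_comm_mem (hcz a le_rfl _ hu0 _ hzm) (hcz1 a le_rfl _ hu0 _ hz1)
        exact h.antitone (by omega) this)
      (by rw [hcomm (a + k + 1) (by omega) _ (hcz a le_rfl _ hu0 _ hzm) _ hzz]; exact one_mem _)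
    rw [hcomm a le_rfl _ hu0 _ hzz, map_one, mul_one, he, he''] at e1
    have e2 := h.mk_comm_pow_mul (m := a + 2 * k + 1) (x := u (k + 1)) (w := w'') (z := z1)
      (by
        have := hcz1 (a + (k + 1)) (by omega) _ (hum (k + 1)) _ hz1
        rwa [show a + (k + 1) + k = a + 2 * k + 1 by omega] at this)
      (by
        have := hcz1 (a + k + 2) (by omega) _ hw'' _ hz1
        rwa [show a + k + 2 + k = a + 2 * k + 1 + 1 by omega] at this) g
    have e3 := h.mk_comm_pow_mul (m := a + 2 * k + 1) (x := u k) (w := w) (z := z)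
      (by
        have := hcz (a + k) (by omega) _ (hum k) _ hzm
        rwa [show a + k + k + 1 = a + 2 * k + 1 by omega] at this)
      (by
        have := hcz (a + k + 1) (by omega) _ hw _ hzm
        rwa [show a + k + 1 + k + 1 = a + 2 * k + 1 + 1 by omega] at this) (f 0)
    rw [e2, e3, he', he3, map_mul, map_mul, map_pow, map_pow,
      h0 w' (by rwa [show a + (k + 1) + k + 1 = a + 2 * k + 1 + 1 by omega] at hw'),
      h0 w3 (by rwa [show a + k + k + 2 = a + 2 * k + 1 + 1 by omega] at hw3), mul_one, mul_one,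
      show k + 1 + k = k + k + 1 by omega, ← pow_mul, ← pow_mul] at e1
    have h5 := hum (k + k + 1)
    have h6 := hun (k + k + 1) (by omega)
    rw [show a + (k + k + 1) = a + 2 * k + 1 by omega] at h5 h6
    have h7 := h.pow_mk_eq h5 h6 e1
    rwa [mul_comm g (f 0)] at h7
  · -- zeros
    intro j hj v hv hv' hc
    obtain ⟨w, hw, he⟩ := hf j hj
    obtain ⟨c, x, hx, hvx⟩ := h.exists_pow (i := a + j) (by omega) (hum j) (hun j (by omega)) hv
    have hc0 : ¬ p ∣ c := by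
      rintro ⟨c', rfl⟩
      apply hv'
      rw [hvx]
      refine mul_mem ?_ hx
      rw [pow_mul]
      exact Subgroup.pow_mem _ (h.pow_p_mem (hum j)) _
    have hn := h.normal (a + j + k + 1)
    have h0 : ∀ y ∈ W (a + j + k + 1), QuotientGroup.mk' (W (a + j + k + 1)) y = 1 :=
      fun y hy => (QuotientGroup.eq_one_iff y).2 hy
    have e1 := h.mk_comm_pow_mul (m := a + j + k) (x := u j) (w := x) (z := z1)
      (hcz1 (a + j) (by omega) _ (hum j) _ hz1)
      (by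
        have := hcz1 (a + j + 1) (by omega) _ hx _ hz1
        rwa [show a + j + 1 + k = a + j + k + 1 by omega] at this) c
    rw [← hvx, (commutatorElement_eq_one_iff_commute).2 hc, map_one, he, map_mul, map_pow, h0 w hw, mul_one,
      ← pow_mul, ← pow_zero (QuotientGroup.mk' (W (a + j + k + 1)) (u (j + k)))] at e1
    have h5 := hum (j + k)
    have h6 := hun (j + k) (by omega)
    rw [show a + (j + k) = a + j + k by omega] at h5 h6
    have h7 := h.pow_mk_eq h5 h6 e1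
    have h8 := (Nat.modEq_zero_iff_dvd).1 h7.symm
    exact (Nat.modEq_zero_iff_dvd).2 ((hp.out.dvd_mul.1 h8).resolve_right hc0)

/-- **D2.** At most one index `i` with `i + κ ≤ n - 1` of elements commuting with `z1`. -/
theorem transvection [Finite P] (h : MC P p n W) [hp : Fact p.Prime] (hp3 : 3 ≤ p) {a r κ : ℕ} (ha : 1 ≤ a)
    (hr : 1 ≤ r) (hrange : n - 1 - a < p) (hbot : ⁅W a, W (r + 2)⁆ = ⊥) (hrκ : r + 1 ≤ κ) (haκ : a + κ ≤ n - 1)
    (hκ : ∀ i, a ≤ i → ⁅W i, W (r + 1)⁆ = W (i + κ))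
    (hne : ∀ i, a ≤ i → i + κ ≤ n - 1 → ∀ v ∈ W i, v ∉ W (i + 1) → ∀ z ∈ W (r + 1), z ∉ W (r + 2) →
        ⁅v, z⁆ ∉ W (i + κ + 1))
    {z1 : P} (hz1 : z1 ∈ W r) (hz1' : z1 ∉ W (r + 1)) {i i' : ℕ} (hi : a ≤ i) (hii : i < i') (hi' : i' + κ ≤ n - 1)
    {v v' : P} (hv : v ∈ W i) (hvn : v ∉ W (i + 1)) (hv' : v' ∈ W i') (hvn' : v' ∉ W (i' + 1))
    (hc : Commute v z1) (hc' : Commute v' z1) : False := by
  obtain ⟨k, rfl⟩ : ∃ k, κ = k + 1 := ⟨κ - 1, by omega⟩
  rcases h.deg_next ha hr hκ haκ with hB | ⟨d, hd1, hd2, hd3, hd4⟩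
  · obtain ⟨f, g, hg, hslope, -, hzero⟩ := h.coeff hp3 ha hr hbot hκ haκ (by omega) hB hz1 hz1' hne
    obtain ⟨j, rfl⟩ := Nat.exists_eq_add_of_le hi
    obtain ⟨e, he⟩ := Nat.exists_eq_add_of_lt hii
    have h1 : ∀ l, l ≤ e + 1 → f j ≡ f (j + l) + l * g [MOD p] := by
      intro l
      induction l with
      | zero => intro _; rw [add_zero, zero_mul, add_zero]
      | succ l ih =>
        intro hl
        have h2 := ih (by omega)
        have h3 := hslope (j + l) (by omega)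
        refine h2.trans ?_
        rw [show (l + 1) * g = g + l * g by ring, ← add_assoc, show j + (l + 1) = j + l + 1 by omega]
        exact h3.add_right _
    have h2 := h1 (e + 1) le_rfl
    have h3 := hzero j (by omega) v hv hvn hc
    have h4 := hzero (j + (e + 1)) (by omega) v' (by rwa [show a + (j + (e + 1)) = i' by omega])
      (by rwa [show a + (j + (e + 1)) + 1 = i' + 1 by omega]) hc'
    have h5 : (e + 1) * g ≡ 0 [MOD p] := by
      have h6 := (h4.add_right ((e + 1) * g)).symm.trans (h2.symm.trans h3)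
      rwa [zero_add] at h6
    rcases hp.out.dvd_mul.1 ((Nat.modEq_zero_iff_dvd).1 h5) with h6 | h6
    · have := Nat.le_of_dvd (by omega) h6
      omega
    · exact hg ((Nat.modEq_zero_iff_dvd).2 h6)
  · refine hd4 i hi (by omega) v hv hvn z1 hz1 hz1' ?_
    rw [(commutatorElement_eq_one_iff_commute).2 hc]
    exact one_mem _

/-- **D3.** -/
theorem deg_next_cases [Finite P] (h : MC P p n W) [hp : Fact p.Prime] (hp3 : 3 ≤ p) {a r κ : ℕ} (ha : 1 ≤ a)
    (hr : 1 ≤ r) (hrange : n - 1 - a < p) (hbot : ⁅W a, W (r + 2)⁆ = ⊥) (hrκ : r + 1 ≤ κ) (haκ : a + κ ≤ n - 1)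
    (hκ : ∀ i, a ≤ i → ⁅W i, W (r + 1)⁆ = W (i + κ))
    (hne : ∀ i, a ≤ i → i + κ ≤ n - 1 → ∀ v ∈ W i, v ∉ W (i + 1) → ∀ z ∈ W (r + 1), z ∉ W (r + 2) →
        ⁅v, z⁆ ∉ W (i + κ + 1)) :
    (n - 1 - a ≤ 2 * κ - 2 ∧ ∀ i, a ≤ i → ⁅W i, W r⁆ ≤ W (i + κ - 1)) ∨
      ∃ d, r ≤ d ∧ d + 1 < κ ∧ (∀ i, a ≤ i → ⁅W i, W r⁆ = W (i + d)) ∧
        (∀ i, a ≤ i → i + d ≤ n - 1 → ∀ v ∈ W i, v ∉ W (i + 1) → ∀ z ∈ W r, z ∉ W (r + 1) → ⁅v, z⁆ ∉ W (i + d + 1)) := by
  obtain ⟨k, rfl⟩ : ∃ k, κ = k + 1 := ⟨κ - 1, by omega⟩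
  rcases h.deg_next ha hr hκ haκ with hB | ⟨d, hd1, hd2, hd3, hd4⟩
  · left
    refine ⟨?_, fun i hi => by rw [show i + (k + 1) - 1 = i + k by omega]; exact hB i hi⟩
    by_contra hcon
    push Not at hcon
    have hrn : r < n := by omega
    obtain ⟨z1, hz1, hz1'⟩ := h.ne_succ hrn
    obtain ⟨f, g, hg, hslope, hshift, -⟩ := h.coeff hp3 ha hr hbot hκ haκ (by omega) hB hz1 hz1' hne
    have h1 : ∀ l, l ≤ k + 1 → f 0 ≡ f l + l * g [MOD p] := by
      intro l
      induction l with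
      | zero => intro _; rw [zero_mul, add_zero]
      | succ l ih =>
        intro hl
        have h2 := ih (by omega)
        have h3 := hslope l (by omega)
        refine h2.trans ?_
        rw [show (l + 1) * g = g + l * g by ring, ← add_assoc]
        exact h3.add_right _
    have h2 := h1 (k + 1) le_rfl
    have h3 := hshift (by omega)
    have hcop : Nat.gcd p g = 1 := by
      rw [← Nat.coprime_iff_gcd_eq_one, Nat.Prime.coprime_iff_not_dvd hp.out]
      exact fun h5 => hg ((Nat.modEq_zero_iff_dvd).2 h5)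
    have h4 : f (k + 1) ≡ f 0 [MOD p] := Nat.ModEq.cancel_right_of_coprime hcop h3
    have h5 : (k + 1) * g ≡ 0 [MOD p] := by
      have h6 : f (k + 1) + (k + 1) * g ≡ f (k + 1) + 0 [MOD p] := by
        rw [add_zero]; exact h2.symm.trans h4.symm
      exact Nat.ModEq.add_left_cancel' _ h6
    rcases hp.out.dvd_mul.1 ((Nat.modEq_zero_iff_dvd).1 h5) with h6 | h6
    · have := Nat.le_of_dvd (by omega) h6
      omega
    · exact hg ((Nat.modEq_zero_iff_dvd).2 h6)
  · right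
    exact ⟨d, hd1, by omega, hd3, hd4⟩

/-! ### The same theorems with `t` (as in the plan of S5267) -/

/-- **D1.** -/
theorem D1 (h : MC P p n W) [hp : Fact p.Prime] {a t : ℕ} (ha : 1 ≤ a) (ht : 2 ≤ t)
    (hbot : ⁅W a, W t⁆ = ⊥) (hne : ⁅W a, W (t - 1)⁆ ≠ ⊥) :
    ∃ κ, t - 1 ≤ κ ∧ a + κ ≤ n - 1 ∧ (∀ i, a ≤ i → ⁅W i, W (t - 1)⁆ = W (i + κ)) ∧
      (∀ i, a ≤ i → i + κ ≤ n - 1 → ∀ v ∈ W i, v ∉ W (i + 1) → ∀ z ∈ W (t - 1), z ∉ W t →
        ⁅v, z⁆ ∉ W (i + κ + 1)) ∧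
      ((∀ i j, 1 ≤ i → 1 ≤ j → ⁅W i, W j⁆ ≤ W (i + j + 1)) → t ≤ κ) := by
  obtain ⟨r, rfl⟩ : ∃ r, t = r + 1 := ⟨t - 1, by omega⟩
  rw [Nat.add_sub_cancel] at hne ⊢
  obtain ⟨κ, h1, h2, h3, h4⟩ := h.deg_uniform ha (by omega) hbot hne
  refine ⟨κ, h1, h2, h3, h4, fun hdeg => ?_⟩
  have h5 := hdeg a r ha (by omega)
  rw [h3 a le_rfl] at h5
  have h6 := h.four_le
  have := (h.le_iff (by omega)).1 h5
  omega

/-- **D2.** -/
theorem D2 [Finite P] (h : MC P p n W) [hp : Fact p.Prime] (hp3 : 3 ≤ p) {a t κ : ℕ} (ha : 1 ≤ a)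
    (ht : 3 ≤ t) (hrange : n - 1 - a < p) (hbot : ⁅W a, W t⁆ = ⊥) (hrκ : t - 1 ≤ κ) (haκ : a + κ ≤ n - 1)
    (hκ : ∀ i, a ≤ i → ⁅W i, W (t - 1)⁆ = W (i + κ))
    (hne : ∀ i, a ≤ i → i + κ ≤ n - 1 → ∀ v ∈ W i, v ∉ W (i + 1) → ∀ z ∈ W (t - 1), z ∉ W t →
        ⁅v, z⁆ ∉ W (i + κ + 1))
    {z1 : P} (hz1 : z1 ∈ W (t - 2)) (hz1' : z1 ∉ W (t - 1)) {i i' : ℕ} (hi : a ≤ i) (hii : i < i')
    (hi' : i' + κ ≤ n - 1) {v v' : P} (hv : v ∈ W i) (hvn : v ∉ W (i + 1)) (hv' : v' ∈ W i') (hvn' : v' ∉ W (i' + 1))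
    (hc : Commute v z1) (hc' : Commute v' z1) : False := by
  obtain ⟨r, rfl⟩ : ∃ r, t = r + 2 := ⟨t - 2, by omega⟩
  exact h.transvection hp3 ha (by omega) hrange hbot hrκ haκ hκ hne hz1 hz1' hi hii hi' hv hvn hv' hvn' hc hc'

/-- **D3.** -/
theorem D3 [Finite P] (h : MC P p n W) [hp : Fact p.Prime] (hp3 : 3 ≤ p) {a t κ : ℕ} (ha : 1 ≤ a)
    (ht : 3 ≤ t) (hrange : n - 1 - a < p) (hbot : ⁅W a, W t⁆ = ⊥) (hrκ : t - 1 ≤ κ) (haκ : a + κ ≤ n - 1)
    (hκ : ∀ i, a ≤ i → ⁅W i, W (t - 1)⁆ = W (i + κ))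
    (hne : ∀ i, a ≤ i → i + κ ≤ n - 1 → ∀ v ∈ W i, v ∉ W (i + 1) → ∀ z ∈ W (t - 1), z ∉ W t →
        ⁅v, z⁆ ∉ W (i + κ + 1)) :
    (n - 1 - a ≤ 2 * κ - 2 ∧ ∀ i, a ≤ i → ⁅W i, W (t - 2)⁆ ≤ W (i + κ - 1)) ∨
      ∃ d, t - 2 ≤ d ∧ d + 1 < κ ∧ (∀ i, a ≤ i → ⁅W i, W (t - 2)⁆ = W (i + d)) ∧
        (∀ i, a ≤ i → i + d ≤ n - 1 → ∀ v ∈ W i, v ∉ W (i + 1) → ∀ z1 ∈ W (t - 2), z1 ∉ W (t - 1) →
          ⁅v, z1⁆ ∉ W (i + d + 1)) := by
  obtain ⟨r, rfl⟩ : ∃ r, t = r + 2 := ⟨t - 2, by omega⟩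
  exact h.deg_next_cases hp3 ha (by omega) hrange hbot hrκ haκ hκ hne

/-- **D4.** -/
theorem D4 [Finite P] (h : MC P p n W) [hp : Fact p.Prime] (hp3 : 3 ≤ p) (hK : h.Ksub (n - 2) ≠ W 1) {i : ℕ}
    (hi : 1 ≤ i) (hi' : i ≤ n - 2) {v s' : P} (hv : v ∈ W i) (hv' : v ∉ W (i + 1)) (hs : s' ∈ W (n - 1 - i))
    (hs' : s' ∉ W (n - i)) : ⁅v, s'⁆ ≠ 1 ∧ ⁅v, s'⁆ ∈ W (n - 1) := by
  refine ⟨h.pairing hp3 hK hi (by omega : 1 ≤ n - 1 - i) (by omega) hv hv' hs (by rwa [show n - 1 - i + 1 = n - i by omega]),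
    ?_⟩
  have := h.comm_comm_mem hv hs
  rwa [show i + (n - 1 - i) = n - 1 by omega] at this

end MC

end Cfsg.Agent.H467.MaxClass
end
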