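import Mathlib
set_option linter.all false

-- part: H786/Trace
section
/-!
# The trace machine (helper786)

`H < G` strongly embedded with respect to `Q ≤ H`. Relative traces of elements fixed by `H`
(`exists_fixed`), norms of `p`-groups on filtered modules (`nrm_mem`), and multilinear forms.
-/

set_option autoImplicit false

namespace Cfsg.Agent.H786

open Module

section Norm

variable {k : Type*} [CommSemiring k] {G : Type*} [Group G] {Y : Type*} [AddCommGroup Y] [Module k Y]

/-- the norm of the subgroup `Q` -/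
noncomputable def nrm (ρ : Representation k G Y) (Q : Subgroup G) (y : Y) : Y :=
  ∑ᶠ u : Q, ρ (u : G) y

theorem nrm_eq_sum (ρ : Representation k G Y) (Q : Subgroup G) [Fintype Q] (y : Y) :
    nrm ρ Q y = ∑ u : Q, ρ (u : G) y := finsum_eq_sum_of_fintype _

theorem nrm_bot (ρ : Representation k G Y) (y : Y) : nrm ρ (⊥ : Subgroup G) y = y := by
  rw [nrm_eq_sum, Fintype.sum_unique]
  have : ((default : (⊥ : Subgroup G)) : G) = 1 := rfl
  rw [this, map_one, Module.End.one_apply]

/-- **Relative traces.** -/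
theorem exists_fixed [Finite G] (ρ : Representation k G Y) {H Q : Subgroup G} (hQH : Q ≤ H)
    (hfree : ∀ g, g ∉ H → ∀ u ∈ Q, g⁻¹ * u * g ∈ H → u = 1) (N : AddSubgroup Y) (y : Y)
    (hy : ∀ h ∈ H, ρ h y = y) (hN : ∀ g, nrm ρ Q (ρ g y) ∈ N) :
    ∃ z, (∀ g : G, ρ g z = z) ∧ z - y ∈ N := by
  classical
  have := Fintype.ofFinite G
  have hfinQ : Fintype Q := Fintype.ofFinite Q
  have hfinH : Fintype (G ⧸ H) := Fintype.ofFinite _
  -- the function on the cosets
  let f : G ⧸ H → Y := Quotient.lift (s := QuotientGroup.leftRel H) (fun g => ρ g y) (by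
    intro a b hab
    have hab' : a⁻¹ * b ∈ H := QuotientGroup.leftRel_apply.mp hab
    show ρ a y = ρ b y
    have e : b = a * (a⁻¹ * b) := by group
    rw [e, map_mul, Module.End.mul_apply, hy _ hab'])
  have hf : ∀ g : G, f (QuotientGroup.mk g) = ρ g y := fun g => rfl
  have hfs : ∀ (g : G) (x : G ⧸ H), f (g • x) = ρ g (f x) := by
    intro g x
    obtain ⟨a, rfl⟩ := QuotientGroup.mk_surjective x
    rw [MulAction.Quotient.smul_mk, hf, hf, smul_eq_mul, map_mul, Module.End.mul_apply]
  refine ⟨∑ x, f x, ?_, ?_⟩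
  · intro g
    rw [map_sum]
    simp_rw [← hfs]
    exact Equiv.sum_comp (MulAction.toPerm g) f
  · -- free orbits
    have key : ∀ (n : ℕ) (S : Finset (G ⧸ H)), S.card = n → (∀ x ∈ S, ∀ u : Q, (u : G) • x ∈ S) →
        ((QuotientGroup.mk 1 : G ⧸ H) ∉ S) → ∑ x ∈ S, f x ∈ N := by
      intro n
      induction n using Nat.strong_induction_on with
      | _ n ih =>
        intro S hSn hS hS1
        rcases S.eq_empty_or_nonempty with rfl | ⟨x, hx⟩
        · simp
        obtain ⟨a, rfl⟩ := QuotientGroup.mk_surjective x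
        have haH : a ∉ H := by
          intro haH
          apply hS1
          have : (QuotientGroup.mk 1 : G ⧸ H) = QuotientGroup.mk a := by
            rw [QuotientGroup.eq]; simpa using haH
          rw [this]; exact hx
        set O : Finset (G ⧸ H) := Finset.univ.image (fun u : Q => (u : G) • (QuotientGroup.mk a : G ⧸ H))
          with hO
        have hinj : Function.Injective (fun u : Q => (u : G) • (QuotientGroup.mk a : G ⧸ H)) := by
          intro u v huv
          simp only [MulAction.Quotient.smul_mk, smul_eq_mul] at huv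
          rw [QuotientGroup.eq] at huv
          have h1 : a⁻¹ * ((u : G)⁻¹ * v) * a ∈ H := by
            have e : a⁻¹ * ((u : G)⁻¹ * v) * a = ((u : G) * a)⁻¹ * (v * a) := by group
            rw [e]; exact huv
          have h2 := hfree a haH _ (Q.mul_mem (Q.inv_mem u.2) v.2) h1
          exact Subtype.ext (inv_mul_eq_one.mp h2)
        have hOS : O ⊆ S := by
          intro y hy
          rw [hO, Finset.mem_image] at hy
          obtain ⟨u, -, rfl⟩ := hy
          exact hS _ hx u
        have hsumO : ∑ x ∈ O, f x ∈ N := by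
          rw [hO, Finset.sum_image (fun u _ v _ h => hinj h)]
          have h1 := hN a
          rw [nrm_eq_sum] at h1
          have h2 : ∀ u : Q, f ((u : G) • (QuotientGroup.mk a : G ⧸ H)) = ρ (u : G) (ρ a y) := by
            intro u
            rw [hfs, hf]
          simp_rw [h2]
          exact h1
        have hxO : (QuotientGroup.mk a : G ⧸ H) ∈ O := by
          rw [hO, Finset.mem_image]
          exact ⟨1, Finset.mem_univ _, by simp⟩
        have hrest : ∑ x ∈ S \ O, f x ∈ N := by
          apply ih (S \ O).card _ _ rfl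
          · intro x hx u
            rw [Finset.mem_sdiff] at hx ⊢
            refine ⟨hS x hx.1 u, fun h => hx.2 ?_⟩
            rw [hO, Finset.mem_image] at h ⊢
            obtain ⟨v, -, hv⟩ := h
            refine ⟨u⁻¹ * v, Finset.mem_univ _, ?_⟩
            have : ((u⁻¹ * v : Q) : G) • (QuotientGroup.mk a : G ⧸ H)
                = (u : G)⁻¹ • ((v : G) • (QuotientGroup.mk a : G ⧸ H)) := by
              rw [Subgroup.coe_mul, mul_smul]; rfl
            rw [this, hv, inv_smul_smul]
          · intro h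
            exact hS1 (Finset.mem_sdiff.mp h).1
          · rw [← hSn]
            apply Finset.card_lt_card
            rw [Finset.ssubset_iff_of_subset Finset.sdiff_subset]
            exact ⟨_, hx, fun h => (Finset.mem_sdiff.mp h).2 hxO⟩
        rw [← Finset.sum_sdiff hOS]
        exact N.add_mem hrest hsumO
    have h1 : ∑ x, f x - y = ∑ x ∈ Finset.univ.erase (QuotientGroup.mk 1 : G ⧸ H), f x := by
      rw [← Finset.add_sum_erase Finset.univ f (Finset.mem_univ (QuotientGroup.mk 1 : G ⧸ H)), hf,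
        map_one, Module.End.one_apply, add_sub_cancel_left]
    rw [h1]
    apply key _ _ rfl
    · intro x hx u
      rw [Finset.mem_erase] at hx ⊢
      refine ⟨fun h => hx.1 ?_, Finset.mem_univ _⟩
      have h2 : x = (u : G)⁻¹ • (QuotientGroup.mk 1 : G ⧸ H) := by rw [← h, inv_smul_smul]
      rw [h2, MulAction.Quotient.smul_mk, smul_eq_mul, mul_one, QuotientGroup.eq]
      simpa using hQH u.2
    · intro h
      exact (Finset.mem_erase.mp h).1 rfl

end Norm

theorem card_mul_relIdx {G : Type*} [Group G] {K L : Subgroup G} (h : K ≤ L) :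
    Nat.card K * K.relIndex L = Nat.card L := by
  have := Subgroup.relIndex_mul_relIndex ⊥ K L bot_le h
  rwa [Subgroup.relIndex_bot_left, Subgroup.relIndex_bot_left] at this

section Step

variable {p : ℕ} [hp : Fact p.Prime] {G : Type*} [Group G] {Y : Type*} [AddCommGroup Y]
  [Module (ZMod p) Y]

/-- `1 + T + ... + T ^ (p - 1) = (T - 1) ^ (p - 1)` in characteristic `p` -/
theorem geom_eq (T : Module.End (ZMod p) Y) :
    ∑ i ∈ Finset.range p, T ^ i = (T - 1) ^ (p - 1) := by
  have h1 : (∑ i ∈ Finset.range p, (Polynomial.X : Polynomial (ZMod p)) ^ i) =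
      (Polynomial.X - 1) ^ (p - 1) := by
    have h2 : (Polynomial.X - 1 : Polynomial (ZMod p)) ≠ 0 := Polynomial.X_sub_C_ne_zero 1
    apply mul_right_cancel₀ h2
    rw [geom_sum_mul, ← pow_succ, Nat.sub_add_cancel hp.out.one_le, sub_pow_char, one_pow]
  have h3 := congrArg (Polynomial.aeval T) h1
  rw [map_sum, map_pow, map_sub, map_one, Polynomial.aeval_X] at h3
  simp_rw [map_pow, Polynomial.aeval_X] at h3
  exact h3

/-- adding an element to a subgroup in the norm -/
theorem nrm_step [Finite G] (ρ : Representation (ZMod p) G Y) {K L : Subgroup G} (hKL : K ≤ L)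
    {x : G} (hx : x ∈ L) (hxK : x ∉ K) (hnorm : ∀ k ∈ K, x * k * x⁻¹ ∈ K)
    (hidx : K.relIndex L = p) (y : Y) : nrm ρ L y = ((ρ x - 1) ^ (p - 1)) (nrm ρ K y) := by
  classical
  have := Fintype.ofFinite G
  have hfK : Fintype K := Fintype.ofFinite K
  have hfL : Fintype L := Fintype.ofFinite L
  have hnorm' : ∀ i : ℕ, ∀ k ∈ K, x ^ i * k * (x ^ i)⁻¹ ∈ K := by
    intro i
    induction i with
    | zero => intro k hk; simpa using hk
    | succ i ih =>
      intro k hk
      have := ih _ (hnorm k hk)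
      have e : x ^ (i + 1) * k * (x ^ (i + 1))⁻¹ = x ^ i * (x * k * x⁻¹) * (x ^ i)⁻¹ := by
        rw [pow_succ]; group
      rw [e]; exact this
  have hnotmem : ∀ m, 0 < m → m < p → x ^ m ∉ K := by
    -- if `x ^ m ∈ K` then `K ⟨x⟩` is too small
    intro m hm0 hmp hm
    -- consider the subgroup `K ⊔ ⟨x⟩`
    set M : Subgroup G := K ⊔ Subgroup.zpowers x with hM
    have hML : M ≤ L := sup_le hKL (Subgroup.zpowers_le.mpr hx)
    have hKM : K ≤ M := le_sup_left
    have hxnorm : ∀ k, k ∈ K ↔ x * k * x⁻¹ ∈ K := by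
      intro k
      refine ⟨hnorm k, fun h => ?_⟩
      have hord := orderOf_pos x
      have h1 := hnorm' (orderOf x - 1) _ h
      have e : x ^ (orderOf x - 1) = x⁻¹ := by
        rw [eq_inv_iff_mul_eq_one, ← pow_succ, Nat.sub_add_cancel hord, pow_orderOf_eq_one]
      rw [e] at h1
      simpa [mul_assoc] using h1
    have hxN : x ∈ Subgroup.normalizer (K : Set G) := Subgroup.mem_normalizer_iff.mpr hxnorm
    have hMN : M ≤ Subgroup.normalizer (K : Set G) :=
      sup_le Subgroup.le_normalizer (Subgroup.zpowers_le.mpr hxN)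
    have hn : (K.subgroupOf M).Normal := Subgroup.normal_subgroupOf_of_le_normalizer hMN
    have h1 : K.relIndex M ∣ p := by
      rw [← hidx]
      exact ⟨M.relIndex L, (Subgroup.relIndex_mul_relIndex K M L hKM hML).symm⟩
    have h2 : K.relIndex M ≠ 1 := by
      rw [Ne, Subgroup.relIndex_eq_one]
      intro h
      exact hxK (h ((le_sup_right : Subgroup.zpowers x ≤ M) (Subgroup.mem_zpowers x)))
    have h3 : K.relIndex M = p := (Nat.dvd_prime hp.out).mp h1 |>.resolve_left h2
    have hxM : x ∈ M := (le_sup_right : Subgroup.zpowers x ≤ M) (Subgroup.mem_zpowers x)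
    have h4 : x ^ p ∈ K := by
      have h5 := Subgroup.pow_index_mem (K.subgroupOf M) (⟨x, hxM⟩ : M)
      have h6 : (K.subgroupOf M).index = p := h3
      rw [h6] at h5
      exact Subgroup.mem_subgroupOf.mp h5
    -- gcd
    have hcop : Nat.Coprime m p := by
      rw [Nat.coprime_comm]
      exact (Nat.Prime.coprime_iff_not_dvd hp.out).mpr (Nat.not_dvd_of_pos_of_lt hm0 hmp)
    apply hxK
    have h7 := Nat.Coprime.isCoprime hcop
    obtain ⟨u, v, huv⟩ := h7
    have h8 : x = (x ^ m) ^ u * (x ^ p) ^ v := by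
      rw [← zpow_natCast x m, ← zpow_natCast x p, ← zpow_mul, ← zpow_mul, ← zpow_add]
      have : (m : ℤ) * u + (p : ℤ) * v = 1 := by rw [← huv]; ring
      rw [this, zpow_one]
    rw [h8]
    exact K.mul_mem (K.zpow_mem hm u) (K.zpow_mem h4 v)
  -- the bijection
  let F : Fin p × K → L := fun q => ⟨x ^ (q.1 : ℕ) * q.2, L.mul_mem (L.pow_mem hx _) (hKL q.2.2)⟩
  have hFinj : Function.Injective F := by
    rintro ⟨i, k⟩ ⟨j, l⟩ hq
    have h1 : x ^ (i : ℕ) * (k : G) = x ^ (j : ℕ) * l := congrArg Subtype.val hq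
    have hij : i = j := by
      by_contra hne
      have hne' : (i : ℕ) ≠ j := fun h => hne (Fin.ext h)
      rcases Nat.lt_or_gt_of_ne hne' with hlt | hlt
      · apply hnotmem (j - i) (by omega) (by have := j.2; omega)
        have e : x ^ ((j : ℕ) - i) = k * (l : G)⁻¹ := by
          have e1 : x ^ (j : ℕ) = x ^ (i : ℕ) * x ^ ((j : ℕ) - i) := by
            rw [← pow_add]; congr 1; omega
          rw [e1, mul_assoc] at h1
          have h2 := mul_left_cancel h1
          rw [h2, mul_inv_cancel_right]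
        rw [e]; exact K.mul_mem k.2 (K.inv_mem l.2)
      · apply hnotmem (i - j) (by omega) (by have := i.2; omega)
        have e : x ^ ((i : ℕ) - j) = l * (k : G)⁻¹ := by
          have e1 : x ^ (i : ℕ) = x ^ (j : ℕ) * x ^ ((i : ℕ) - j) := by
            rw [← pow_add]; congr 1; omega
          rw [e1, mul_assoc] at h1
          have h2 := mul_left_cancel h1
          rw [← h2, mul_inv_cancel_right]
        rw [e]; exact K.mul_mem l.2 (K.inv_mem k.2)
    subst hij
    exact Prod.ext rfl (Subtype.ext (mul_left_cancel h1))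
  have hcard : Fintype.card (Fin p × K) = Fintype.card L := by
    rw [Fintype.card_prod, Fintype.card_fin, ← Nat.card_eq_fintype_card, ← Nat.card_eq_fintype_card,
      ← hidx, mul_comm]
    exact card_mul_relIdx hKL
  have hbij : Function.Bijective F := (Fintype.bijective_iff_injective_and_card F).mpr ⟨hFinj, hcard⟩
  rw [nrm_eq_sum, nrm_eq_sum, ← geom_eq, LinearMap.sum_apply]
  rw [← Equiv.sum_comp (Equiv.ofBijective F hbij) (fun u : L => ρ (u : G) y), Fintype.sum_prod_type]
  rw [Finset.sum_range]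
  apply Finset.sum_congr rfl
  intro i _
  rw [map_sum]
  apply Finset.sum_congr rfl
  intro k _
  show ρ (x ^ (i : ℕ) * (k : G)) y = ((ρ x) ^ (i : ℕ)) (ρ (k : G) y)
  rw [map_mul, map_pow, Module.End.mul_apply]

/-- enlarging the subgroup does not decrease the invariant filtration -/
theorem nrm_mem_of_le {k : Type*} [CommSemiring k] [Module k Y] [Finite G] (ρ : Representation k G Y)
    {K L : Subgroup G} (hKL : K ≤ L) (N : AddSubgroup Y) (hN : ∀ x ∈ L, ∀ y ∈ N, ρ x y ∈ N) {y : Y}
    (hK : nrm ρ K y ∈ N) : nrm ρ L y ∈ N := by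
  classical
  have := Fintype.ofFinite G
  have hfK : Fintype K := Fintype.ofFinite K
  have hfL : Fintype L := Fintype.ofFinite L
  have hfq : Fintype (L ⧸ K.subgroupOf L) := Fintype.ofFinite _
  have e := Subgroup.groupEquivQuotientProdSubgroup (s := K.subgroupOf L)
  have hsum : nrm ρ L y = ∑ q : L ⧸ K.subgroupOf L, ρ ((Quotient.out q : L) : G) (nrm ρ K y) := by
    rw [nrm_eq_sum, nrm_eq_sum]
    -- the map `(q, k) ↦ out q * k`
    let F : (L ⧸ K.subgroupOf L) × K → L := fun q => (Quotient.out q.1) * ⟨q.2, hKL q.2.2⟩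
    have hFinj : Function.Injective F := by
      rintro ⟨q, k⟩ ⟨r, l⟩ h
      have h1 : (Quotient.out q : L) * ⟨k, hKL k.2⟩ = Quotient.out r * ⟨l, hKL l.2⟩ := h
      have h2 : (QuotientGroup.mk (Quotient.out q : L) : L ⧸ K.subgroupOf L) =
          QuotientGroup.mk (Quotient.out r : L) := by
        rw [QuotientGroup.eq]
        have e1 : (Quotient.out q : L)⁻¹ * Quotient.out r = ⟨k, hKL k.2⟩ * (⟨l, hKL l.2⟩ : L)⁻¹ := by
          have : (Quotient.out r : L) = Quotient.out q * ⟨k, hKL k.2⟩ * (⟨l, hKL l.2⟩ : L)⁻¹ := by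
            rw [h1, mul_inv_cancel_right]
          rw [this]; group
        rw [e1, Subgroup.mem_subgroupOf]
        exact K.mul_mem k.2 (K.inv_mem l.2)
      have h3 : q = r := by
        have hq := Quotient.out_eq q
        have hr := Quotient.out_eq r
        rw [← hq, ← hr]; exact h2
      subst h3
      have h4 := mul_left_cancel h1
      have h5 : (k : G) = l := congrArg (fun x : L => (x : G)) h4
      exact Prod.ext rfl (Subtype.ext h5)
    have hcard : Fintype.card ((L ⧸ K.subgroupOf L) × K) = Fintype.card L := by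
      rw [Fintype.card_prod, ← Nat.card_eq_fintype_card, ← Nat.card_eq_fintype_card,
        ← Nat.card_eq_fintype_card, mul_comm]
      exact card_mul_relIdx hKL
    have hbij : Function.Bijective F :=
      (Fintype.bijective_iff_injective_and_card F).mpr ⟨hFinj, hcard⟩
    rw [← Equiv.sum_comp (Equiv.ofBijective F hbij) (fun u : L => ρ (u : G) y),
      Fintype.sum_prod_type]
    apply Finset.sum_congr rfl
    intro q _
    rw [map_sum]
    apply Finset.sum_congr rfl
    intro k _
    show ρ (((Quotient.out q : L) : G) * (k : G)) y = ρ ((Quotient.out q : L) : G) (ρ (k : G) y)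
    rw [map_mul, Module.End.mul_apply]
  rw [hsum]
  exact sum_mem fun q _ => hN _ (SetLike.coe_mem _) _ hK

end Step

/-- Chains of subgroups with jumps. -/
inductive NChain {G : Type*} [Group G] (p : ℕ) (Jmp : G → ℕ → Prop) : Subgroup G → ℕ → Prop
  | bot : NChain p Jmp ⊥ 0
  | step {K L : Subgroup G} {S J : ℕ} {x : G} : NChain p Jmp K S → K ≤ L → x ∈ L → x ∉ K →
      (∀ k ∈ K, x * k * x⁻¹ ∈ K) → K.relIndex L = p → Jmp x J → NChain p Jmp L (S + J)
  | le {K L : Subgroup G} {S : ℕ} : NChain p Jmp K S → K ≤ L → NChain p Jmp L S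

theorem NChain.mono {G : Type*} [Group G] {p : ℕ} {Jmp Jmp' : G → ℕ → Prop}
    (h : ∀ x J, Jmp x J → Jmp' x J) {Q : Subgroup G} {S : ℕ} (hQ : NChain p Jmp Q S) :
    NChain p Jmp' Q S := by
  induction hQ with
  | bot => exact NChain.bot
  | step _ h1 h2 h3 h4 h5 h6 ih => exact NChain.step ih h1 h2 h3 h4 h5 (h _ _ h6)
  | le _ h1 ih => exact NChain.le ih h1

/-- `(T - 1)` raises the filtration by `J`. -/
def Jump {k Y : Type*} [CommSemiring k] [AddCommGroup Y] [Module k Y] (F : ℕ → AddSubgroup Y)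
    (T : Y →ₗ[k] Y) (J : ℕ) : Prop :=
  ∀ c, ∀ y ∈ F c, T y - y ∈ F (c + J)

theorem nrm_mem {p : ℕ} [hp : Fact p.Prime] {G : Type*} [Group G] [Finite G] {Y : Type*}
    [AddCommGroup Y] [Module (ZMod p) Y] (ρ : Representation (ZMod p) G Y)
    (F : ℕ → AddSubgroup Y) {Q : Subgroup G} {S : ℕ} (hQ : NChain p (fun x J => Jump F (ρ x) J) Q S)
    (hinv : ∀ x ∈ Q, Jump F (ρ x) 0) (c : ℕ) (y : Y) (hy : y ∈ F c) :
    nrm ρ Q y ∈ F (c + (p - 1) * S) := by
  induction hQ with
  | bot => rw [nrm_bot, mul_zero, add_zero]; exact hy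
  | @step K L S J x _ hKL hxL hxK hnorm hidx hJ ih =>
    have h1 := ih (fun x hx => hinv x (hKL hx))
    rw [nrm_step ρ hKL hxL hxK hnorm hidx]
    have key : ∀ (i c : ℕ) (w : Y), w ∈ F c → ((ρ x - 1) ^ i) w ∈ F (c + i * J) := by
      intro i
      induction i with
      | zero => intro c w hw; simpa using hw
      | succ i ih =>
        intro c w hw
        rw [pow_succ, Module.End.mul_apply]
        have h2 : (ρ x - 1) w ∈ F (c + J) := hJ c w hw
        have h3 := ih (c + J) _ h2
        rw [show c + (i + 1) * J = c + J + i * J by ring]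
        exact h3
    have h4 := key (p - 1) _ _ h1
    rw [show c + (p - 1) * (S + J) = c + (p - 1) * S + (p - 1) * J by ring]
    exact h4
  | @le K L S _ hKL ih =>
    have h1 := ih (fun x hx => hinv x (hKL hx))
    apply nrm_mem_of_le ρ hKL _ _ h1
    intro x hx w hw
    have h2 := hinv x hx _ w hw
    rw [add_zero] at h2
    have h3 := AddSubgroup.add_mem _ h2 hw
    rwa [sub_add_cancel] at h3

end Cfsg.Agent.H786
end

-- part: H786/MLin
section
/-!
# The trace machine for multilinear forms (helper786)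
-/

set_option autoImplicit false
set_option linter.unusedSectionVars false
set_option linter.deprecated false

namespace Cfsg.Agent.H786

open Module

variable {p : ℕ} [hp : Fact p.Prime] {G : Type*} [Group G] {ι : Type*} [Fintype ι]
  {M : ι → Type*} [∀ i, AddCommGroup (M i)] [∀ i, Module (ZMod p) (M i)]

/-- the representation on multilinear forms -/
noncomputable def mlRep (ρ : ∀ i, Representation (ZMod p) G (M i)) :
    Representation (ZMod p) G (MultilinearMap (ZMod p) M (ZMod p)) where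
  toFun g := MultilinearMap.compLinearMapₗ (fun i => ρ i g⁻¹)
  map_one' := by
    apply LinearMap.ext
    intro f
    apply MultilinearMap.ext
    intro x
    simp
  map_mul' g h := by
    apply LinearMap.ext
    intro f
    apply MultilinearMap.ext
    intro x
    simp

theorem mlRep_apply (ρ : ∀ i, Representation (ZMod p) G (M i)) (g : G)
    (f : MultilinearMap (ZMod p) M (ZMod p)) (x : ∀ i, M i) :
    mlRep ρ g f x = f (fun i => ρ i g⁻¹ (x i)) := rfl

/-- the filtration on multilinear forms -/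
def mlFil (E : ∀ i, ℕ → Submodule (ZMod p) (M i)) (D : ι → ℕ) (c : ℕ) :
    Submodule (ZMod p) (MultilinearMap (ZMod p) M (ZMod p)) where
  carrier := {f | ∀ (k : ι → ℕ) (x : ∀ i, M i), (∀ i, x i ∈ E i (k i)) → ∑ i, D i < c + ∑ i, k i →
    f x = 0}
  zero_mem' := fun k x _ _ => rfl
  add_mem' := by
    intro f g hf hg k x hx hk
    rw [MultilinearMap.add_apply, hf k x hx hk, hg k x hx hk, add_zero]
  smul_mem' := by
    intro r f hf k x hx hk
    rw [MultilinearMap.smul_apply, hf k x hx hk, smul_zero]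

theorem mem_mlFil {E : ∀ i, ℕ → Submodule (ZMod p) (M i)} {D : ι → ℕ} {c : ℕ}
    {f : MultilinearMap (ZMod p) M (ZMod p)} : f ∈ mlFil E D c ↔ ∀ (k : ι → ℕ) (x : ∀ i, M i),
      (∀ i, x i ∈ E i (k i)) → ∑ i, D i < c + ∑ i, k i → f x = 0 := Iff.rfl

/-- filtration data -/
structure FilData (E : ∀ i, ℕ → Submodule (ZMod p) (M i)) (D : ι → ℕ) : Prop where
  anti : ∀ i, Antitone (E i)
  top : ∀ i, E i 0 = ⊤
  bot : ∀ i, E i (D i + 1) = ⊥

theorem FilData.eq_zero {E : ∀ i, ℕ → Submodule (ZMod p) (M i)} {D : ι → ℕ} (h : FilData E D)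
    {i : ι} {k : ℕ} (hk : D i < k) {x : M i} (hx : x ∈ E i k) : x = 0 := by
  have := h.anti i (Nat.succ_le_of_lt hk) hx
  rwa [Nat.succ_eq_add_one, h.bot, Submodule.mem_bot] at this

theorem mlFil_zero {E : ∀ i, ℕ → Submodule (ZMod p) (M i)} {D : ι → ℕ} (h : FilData E D)
    (f : MultilinearMap (ZMod p) M (ZMod p)) : f ∈ mlFil E D 0 := by
  intro k x hx hk
  rw [zero_add] at hk
  obtain ⟨i, -, hi⟩ := Finset.exists_lt_of_sum_lt hk
  exact f.map_coord_zero i (h.eq_zero hi (hx i))

theorem mlFil_eq_zero {E : ∀ i, ℕ → Submodule (ZMod p) (M i)} {D : ι → ℕ} (h : FilData E D) {c : ℕ}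
    (hc : ∑ i, D i < c) {f : MultilinearMap (ZMod p) M (ZMod p)} (hf : f ∈ mlFil E D c) : f = 0 := by
  apply MultilinearMap.ext
  intro x
  apply hf (fun _ => 0) x
  · intro i
    rw [h.top]; trivial
  · simpa using hc

/-- jumps on all the arguments -/
def JumpAll (ρ : ∀ i, Representation (ZMod p) G (M i)) (E : ∀ i, ℕ → Submodule (ZMod p) (M i))
    (x : G) (J : ℕ) : Prop := ∀ i, ∀ k, ∀ y ∈ E i k, ρ i x y - y ∈ E i (k + J)

theorem JumpAll.one {ρ : ∀ i, Representation (ZMod p) G (M i)}
    {E : ∀ i, ℕ → Submodule (ZMod p) (M i)} {J : ℕ} : JumpAll ρ E 1 J := by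
  intro i k y _
  rw [map_one, Module.End.one_apply, sub_self]
  exact zero_mem _

theorem JumpAll.mul {ρ : ∀ i, Representation (ZMod p) G (M i)}
    {E : ∀ i, ℕ → Submodule (ZMod p) (M i)} (hE : ∀ i, Antitone (E i)) {J : ℕ} {x y : G}
    (hx : JumpAll ρ E x J) (hy : JumpAll ρ E y J) : JumpAll ρ E (x * y) J := by
  intro i k w hw
  have h1 := hy i k w hw
  have h2 : ρ i y w ∈ E i k := by
    have := (E i k).add_mem (hE i (Nat.le_add_right k J) h1) hw
    rwa [sub_add_cancel] at this
  have h3 := hx i k _ h2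
  have h4 := (E i (k + J)).add_mem h3 h1
  rw [sub_add_sub_cancel] at h4
  rw [map_mul, Module.End.mul_apply]
  exact h4

theorem JumpAll.inv [Finite G] {ρ : ∀ i, Representation (ZMod p) G (M i)}
    {E : ∀ i, ℕ → Submodule (ZMod p) (M i)} (hE : ∀ i, Antitone (E i)) {J : ℕ} {x : G}
    (hx : JumpAll ρ E x J) : JumpAll ρ E x⁻¹ J := by
  have key : ∀ m : ℕ, JumpAll ρ E (x ^ m) J := by
    intro m
    induction m with
    | zero => rw [pow_zero]; exact JumpAll.one
    | succ m ih => rw [pow_succ]; exact JumpAll.mul hE ih hx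
  have e : x ^ (orderOf x - 1) = x⁻¹ := by
    rw [eq_inv_iff_mul_eq_one, ← pow_succ, Nat.sub_add_cancel (orderOf_pos x), pow_orderOf_eq_one]
  rw [← e]
  exact key _

theorem jump_mlFil [Finite G] {ρ : ∀ i, Representation (ZMod p) G (M i)}
    {E : ∀ i, ℕ → Submodule (ZMod p) (M i)} {D : ι → ℕ} (h : FilData E D) {x : G} {J : ℕ}
    (hx : JumpAll ρ E x J) :
    Jump (fun c => (mlFil E D c).toAddSubgroup) (mlRep ρ x) J := by
  classical
  intro c f hf k y hy hk
  change f ∈ mlFil E D c at hf
  have hx' := JumpAll.inv h.anti hx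
  rw [MultilinearMap.sub_apply, mlRep_apply]
  have e : (fun i => ρ i x⁻¹ (y i)) = y + fun i => (ρ i x⁻¹ (y i) - y i) := by
    funext i
    rw [Pi.add_apply, add_sub_cancel]
  rw [e, f.map_add_univ, ← Finset.add_sum_erase Finset.univ _ (Finset.mem_univ Finset.univ),
    Finset.piecewise_univ, add_sub_cancel_left]
  apply Finset.sum_eq_zero
  intro s hs
  rw [Finset.mem_erase] at hs
  obtain ⟨i0, hi0⟩ : ∃ i, i ∉ s := by
    by_contra hcon
    push Not at hcon
    exact hs.1 (Finset.eq_univ_of_forall hcon)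
  apply hf (fun i => if i ∈ s then k i else k i + J)
  · intro i
    by_cases hi : i ∈ s
    · simp only [hi, Finset.piecewise_eq_of_mem, if_true]
      exact hy i
    · simp only [hi, Finset.piecewise_eq_of_notMem, if_false, not_false_eq_true]
      exact hx' i _ _ (hy i)
  · have h1 : J + ∑ i, k i ≤ ∑ i, (if i ∈ s then k i else k i + J) := by
      rw [← Finset.add_sum_erase Finset.univ k (Finset.mem_univ i0),
        ← Finset.add_sum_erase Finset.univ _ (Finset.mem_univ i0)]
      simp only [hi0, if_false]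
      have h2 : ∑ i ∈ Finset.univ.erase i0, k i ≤
          ∑ i ∈ Finset.univ.erase i0, (if i ∈ s then k i else k i + J) := by
        apply Finset.sum_le_sum
        intro i _
        split_ifs <;> omega
      omega
    omega

/-- **Trace machine for multilinear forms.** -/
theorem ml_exists [Finite G] (ρ : ∀ i, Representation (ZMod p) G (M i))
    {E : ∀ i, ℕ → Submodule (ZMod p) (M i)} {D : ι → ℕ} (h : FilData E D) {H Q : Subgroup G}
    (hQH : Q ≤ H) (hfree : ∀ g, g ∉ H → ∀ u ∈ Q, g⁻¹ * u * g ∈ H → u = 1) {S : ℕ}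
    (hQ : NChain p (JumpAll ρ E) Q S) (hinv : ∀ x ∈ Q, JumpAll ρ E x 0)
    (f : MultilinearMap (ZMod p) M (ZMod p)) (hf : ∀ h ∈ H, mlRep ρ h f = f) :
    ∃ f' : MultilinearMap (ZMod p) M (ZMod p), (∀ g, mlRep ρ g f' = f') ∧
      f' - f ∈ mlFil E D ((p - 1) * S) := by
  refine exists_fixed (mlRep ρ) hQH hfree (mlFil E D ((p - 1) * S)).toAddSubgroup f hf ?_
  intro g
  have h1 := nrm_mem (mlRep ρ) (fun c => (mlFil E D c).toAddSubgroup)
    (hQ.mono (fun x J hx => jump_mlFil h hx)) (fun x hx => jump_mlFil h (hinv x hx)) 0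
    (mlRep ρ g f) (mlFil_zero h _)
  rw [zero_add] at h1
  exact h1

/-- forms fixed by `H` are fixed by `G` -/
theorem ml_fixed [Finite G] (ρ : ∀ i, Representation (ZMod p) G (M i))
    {E : ∀ i, ℕ → Submodule (ZMod p) (M i)} {D : ι → ℕ} (h : FilData E D) {H Q : Subgroup G}
    (hQH : Q ≤ H) (hfree : ∀ g, g ∉ H → ∀ u ∈ Q, g⁻¹ * u * g ∈ H → u = 1) {S : ℕ}
    (hQ : NChain p (JumpAll ρ E) Q S) (hinv : ∀ x ∈ Q, JumpAll ρ E x 0)
    (hS : ∑ i, D i < (p - 1) * S)
    (f : MultilinearMap (ZMod p) M (ZMod p)) (hf : ∀ h ∈ H, mlRep ρ h f = f) (g : G) :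
    mlRep ρ g f = f := by
  obtain ⟨f', h1, h2⟩ := ml_exists ρ h hQH hfree hQ hinv f hf
  have h3 := mlFil_eq_zero h hS h2
  rw [sub_eq_zero] at h3
  rw [← h3]
  exact h1 g

end Cfsg.Agent.H786
end

-- part: H786/PureT
section
/-!
# Pure tensors (helper786)
-/

set_option autoImplicit false
set_option linter.unusedSectionVars false
set_option linter.deprecated false

namespace Cfsg.Agent.H786

open Module

variable {p : ℕ} [hp : Fact p.Prime] {G : Type*} [Group G]

section Dual

variable {U : Type*} [AddCommGroup U] [Module (ZMod p) U]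

/-- the dual filtration -/
def dualFil (F : ℕ → Submodule (ZMod p) U) (D : ℕ) (k : ℕ) : Submodule (ZMod p) (Dual (ZMod p) U) :=
  (F (D + 1 - k)).dualAnnihilator

theorem mem_dualFil {F : ℕ → Submodule (ZMod p) U} {D k : ℕ} {φ : Dual (ZMod p) U} :
    φ ∈ dualFil F D k ↔ ∀ w ∈ F (D + 1 - k), φ w = 0 := Submodule.mem_dualAnnihilator _

theorem dualFil_jump {ρ : Representation (ZMod p) G U} {F : ℕ → Submodule (ZMod p) U} {D : ℕ}
    (hanti : Antitone F) {x : G} {J : ℕ} (hx : ∀ k, ∀ y ∈ F k, ρ x⁻¹ y - y ∈ F (k + J)) {k : ℕ}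
    {φ : Dual (ZMod p) U} (hφ : φ ∈ dualFil F D k) : ρ.dual x φ - φ ∈ dualFil F D (k + J) := by
  rw [mem_dualFil] at hφ ⊢
  intro w hw
  have h1 := hφ (ρ x⁻¹ w - w) (hanti (by omega) (hx _ w hw))
  rw [map_sub] at h1
  rw [LinearMap.sub_apply, Representation.dual_apply, Dual.transpose_apply]
  exact h1

end Dual

variable {ι : Type*} [Fintype ι] {U : ι → Type*} [∀ i, AddCommGroup (U i)]
  [∀ i, Module (ZMod p) (U i)]

theorem FilData.dual {F : ∀ i, ℕ → Submodule (ZMod p) (U i)} {D : ι → ℕ} (h : FilData F D) :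
    FilData (fun i => dualFil (F i) (D i)) D where
  anti i k k' hk := Submodule.dualAnnihilator_anti (h.anti i (by omega))
  top i := by
    rw [dualFil, Nat.sub_zero, h.bot, Submodule.dualAnnihilator_bot]
  bot i := by
    rw [dualFil, Nat.sub_self, h.top, Submodule.dualAnnihilator_top]

theorem JumpAll.dual [Finite G] {ρ : ∀ i, Representation (ZMod p) G (U i)}
    {F : ∀ i, ℕ → Submodule (ZMod p) (U i)} {D : ι → ℕ} (h : FilData F D) {x : G} {J : ℕ}
    (hx : JumpAll ρ F x J) : JumpAll (fun i => (ρ i).dual) (fun i => dualFil (F i) (D i)) x J := by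
  intro i k φ hφ
  exact dualFil_jump (h.anti i) (JumpAll.inv h.anti hx i) hφ

/-- **Pure tensors.** -/
theorem pureT [Finite G] (ρ : ∀ i, Representation (ZMod p) G (U i))
    {F : ∀ i, ℕ → Submodule (ZMod p) (U i)} {D : ι → ℕ} (h : FilData F D) {H Q : Subgroup G}
    (hQH : Q ≤ H) (hfree : ∀ g, g ∉ H → ∀ u ∈ Q, g⁻¹ * u * g ∈ H → u = 1) {S : ℕ}
    (hQ : NChain p (JumpAll ρ F) Q S) (hinv : ∀ x ∈ Q, JumpAll ρ F x 0)
    (hS : ∑ i, D i < (p - 1) * S) (v : ∀ i, U i) (hv : ∀ i, v i ≠ 0)
    (hH : ∀ h ∈ H, ∃ c : ι → ZMod p, (∀ i, ρ i h (v i) = c i • v i) ∧ ∏ i, c i = 1) (g : G) (i : ι) :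
    ∃ c : ZMod p, ρ i g (v i) = c • v i := by
  classical
  set f : MultilinearMap (ZMod p) (fun i => Dual (ZMod p) (U i)) (ZMod p) :=
    (MultilinearMap.mkPiAlgebra (ZMod p) ι (ZMod p)).compLinearMap
      (fun i => Dual.eval (ZMod p) (U i) (v i)) with hf
  have hfa : ∀ φ : ∀ i, Dual (ZMod p) (U i), f φ = ∏ i, φ i (v i) := by
    intro φ
    rw [hf, MultilinearMap.compLinearMap_apply, MultilinearMap.mkPiAlgebra_apply]
    rfl
  have hrep : ∀ (g : G) (φ : ∀ i, Dual (ZMod p) (U i)),
      mlRep (fun i => (ρ i).dual) g f φ = ∏ i, φ i (ρ i g (v i)) := by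
    intro g φ
    rw [mlRep_apply, hfa]
    apply Finset.prod_congr rfl
    intro i _
    rw [Representation.dual_apply, Dual.transpose_apply, LinearMap.comp_apply, inv_inv]
  have hfix : ∀ h ∈ H, mlRep (fun i => (ρ i).dual) h f = f := by
    intro h hh
    obtain ⟨c, hc, hc1⟩ := hH h hh
    apply MultilinearMap.ext
    intro φ
    rw [hrep, hfa]
    have : ∀ i, φ i (ρ i h (v i)) = c i * φ i (v i) := by
      intro i
      rw [hc i, map_smul, smul_eq_mul]
    simp_rw [this]
    rw [Finset.prod_mul_distrib, hc1, one_mul]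
  have hG := ml_fixed (fun i => (ρ i).dual) h.dual hQH hfree
    (hQ.mono (fun x J hx => JumpAll.dual h hx)) (fun x hx => JumpAll.dual h (hinv x hx)) hS f hfix g
  have hprod : ∀ φ : ∀ i, Dual (ZMod p) (U i), ∏ i, φ i (ρ i g (v i)) = ∏ i, φ i (v i) := by
    intro φ
    rw [← hrep, hG, hfa]
  -- dual vectors not vanishing at `g v_j`
  have hgv : ∀ j, ρ j g (v j) ≠ 0 := by
    intro j h0
    apply hv j
    have := congrArg (ρ j g⁻¹) h0
    rwa [map_zero, Representation.inv_self_apply] at this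
  have hex : ∀ j, ∃ ψ : Dual (ZMod p) (U j), ψ (ρ j g (v j)) ≠ 0 := by
    intro j
    obtain ⟨ψ, hψ, -⟩ := Submodule.exists_dual_map_eq_bot_of_notMem (p := (⊥ : Submodule (ZMod p) (U j)))
      (x := ρ j g (v j)) (by rw [Submodule.mem_bot]; exact hgv j) inferInstance
    exact ⟨ψ, hψ⟩
  choose ψ hψ using hex
  have hmem : ρ i g (v i) ∈ Submodule.span (ZMod p) {v i} := by
    by_contra hcon
    obtain ⟨φ, hφ, hφ'⟩ := Submodule.exists_dual_map_eq_bot_of_notMem hcon inferInstance
    have hφv : φ (v i) = 0 := by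
      have : φ (v i) ∈ (Submodule.span (ZMod p) {v i}).map φ :=
        Submodule.mem_map_of_mem (Submodule.mem_span_singleton_self _)
      rwa [hφ', Submodule.mem_bot] at this
    have h1 := hprod (Function.update ψ i φ)
    have h2 : ∏ j, (Function.update ψ i φ) j (v j) = 0 := by
      apply Finset.prod_eq_zero (Finset.mem_univ i)
      rw [Function.update_self]
      exact hφv
    rw [h2, Finset.prod_eq_zero_iff] at h1
    obtain ⟨j, -, hj⟩ := h1
    by_cases hji : j = i
    · subst hji
      rw [Function.update_self] at hj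
      exact hφ hj
    · rw [Function.update_of_ne hji] at hj
      exact hψ j hj
  obtain ⟨c, hc⟩ := Submodule.mem_span_singleton.mp hmem
  exact ⟨c, hc.symm⟩

end Cfsg.Agent.H786
end
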