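import Cfsg.Agent.H786.TwoTr_mg
import Cfsg.Agent.H786.PureT
import Cfsg.Agent.H779.NPCFinal
set_option linter.all false

-- part: H786/CaseA1
section
/-!
# The core lemma, `p`-closed case: transvections (helper786)
-/

set_option autoImplicit false
set_option linter.unusedSectionVars false

namespace Cfsg.Agent.H786

open Subgroup Cfsg.Agent.H467.MaxClass Cfsg.Agent.H785
open scoped commutatorElement

universe u v

namespace Cfg

variable {P : Type u} [Group P] [Finite P] {p n : ℕ} [hp : Fact p.Prime] {W : ℕ → Subgroup P}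
  [hW1 : (W 1).Normal] {A : Subgroup (MulAut (W 1))} {E V : Subgroup P} {Γ : Type v} [Group Γ]
  [Finite Γ] {ρ : Γ →* MulAut V} {H : Subgroup Γ} {τ : (normalizer (E : Set P)) →* Γ}

/-- `V` as a commutative group -/
@[reducible] def vComm (c : Cfg p n W A E V ρ H τ) : CommGroup V :=
  { (inferInstance : Group V) with
    mul_comm := fun a b => Subtype.ext (c.V_commute a.2 b.2) }

/-- **Transvections, `p`-closed case.** -/
theorem caseA1 (c : Cfg p n W A E V ρ H τ) (hρ : ρ.ker ≤ H) (hpc : PClosed A) {a κ : ℕ}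
    (ha1 : 1 ≤ a) (hVa : V ≤ W a) (hκ : 3 ≤ κ) (haκ : a + κ ≤ n - 1) (haq : n - 1 - a ≤ p - 1)
    {z : normalizer (E : Set P)} (hz : ∀ v ∈ V, v ∈ W (a + 1) → Commute (z : P) v)
    (hza : ∃ v ∈ V, v ∉ W (a + 1))
    (hzκ : ∀ v ∈ V, ⁅(z : P), v⁆ ∈ W (a + κ))
    (hzκ' : ∀ v ∈ V, v ∉ W (a + 1) → ⁅(z : P), v⁆ ∉ W (a + κ + 1)) : GInv ρ (W (n - 1)) := by
  let _ := c.vComm
  have h4 := c.mc.four_le
  have h5 := c.five
  -- basic facts on the action of `z`
  have hact : ∀ v : V, (ρ (τ z) v : P) = ⁅(z : P), (v : P)⁆ * v := by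
    intro v
    rw [c.ρτ]
    simp only [commutatorElement_def]; group
  have hdel : ∀ v : V, ((del (ρ (τ z)) v : V) : P) = (v : P)⁻¹ * ⁅(z : P), (v : P)⁆ * v := by
    intro v
    rw [del_apply, Subgroup.coe_mul, hact, Subgroup.coe_inv, mul_assoc]
  have hcommV : ∀ v : V, ⁅(z : P), (v : P)⁆ ∈ V := by
    intro v
    have h1 := V.mul_mem (SetLike.coe_mem (ρ (τ z) v)) (V.inv_mem v.2)
    rwa [hact, mul_inv_cancel_right] at h1
  have hdel' : ∀ v : V, ((del (ρ (τ z)) v : V) : P) = ⁅(z : P), (v : P)⁆ := by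
    intro v
    rw [hdel, mul_assoc, (c.V_commute (hcommV v) v.2).eq, inv_mul_cancel_left]
  have hfix : ∀ v : V, v ∈ fix (ρ (τ z)) ↔ (v : P) ∈ W (a + 1) := by
    intro v
    rw [mem_fix]
    have h1 : ρ (τ z) v = v ↔ ⁅(z : P), (v : P)⁆ = 1 := by
      rw [← Subtype.coe_inj, hact, mul_eq_right]
    rw [h1]
    constructor
    · intro h2
      by_contra h3
      apply hzκ' v v.2 h3
      rw [h2]; exact one_mem _
    · intro h2
      exact commutatorElement_eq_one_iff_commute.mpr (hz v v.2 h2)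
  have hcom : ∀ d ∈ com (ρ (τ z)), (d : P) ∈ W (a + κ) := by
    rintro _ ⟨v, rfl⟩
    rw [hdel']
    exact hzκ v v.2
  have hcom' : ∀ d ∈ com (ρ (τ z)), d ≠ 1 → (d : P) ∉ W (a + κ + 1) := by
    rintro _ ⟨v, rfl⟩ hd
    rw [hdel']
    apply hzκ' v v.2
    intro h2
    apply hd
    exact (hfix v).mpr h2
  have hcf : com (ρ (τ z)) ≤ fix (ρ (τ z)) := by
    intro d hd
    rw [hfix]
    exact c.mc.antitone (by omega) (hcom d hd)
  -- the commutator subgroup has order `p`
  have hcard : Nat.card (com (ρ (τ z))) = p := by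
    have h1 := card_com_mul_card_fix (ρ (τ z))
    have h2 : (fix (ρ (τ z))).index = p := by
      have h3 : fix (ρ (τ z)) = (W (a + 1)).subgroupOf V := by
        ext v
        rw [hfix, mem_subgroupOf]
      rw [h3]
      show (W (a + 1)).relIndex V = p
      have h6 : (W (a + 1)).relIndex V ∣ (W (a + 1)).relIndex (W a) := by
        have := c.mc.normal (a + 1)
        have h8 := Subgroup.relIndex_subgroupOf (H := W (a + 1)) hVa
        rw [← h8]
        exact Subgroup.relIndex_dvd_index_of_normal _ _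
      rw [c.mc.relIndex a (by omega)] at h6
      rcases (Nat.dvd_prime hp.out).mp h6 with h7 | h7
      · rw [Subgroup.relIndex_eq_one] at h7
        obtain ⟨v, hv, hv'⟩ := hza
        exact absurd (h7 hv) hv'
      · exact h7
    have h3 := (fix (ρ (τ z))).card_mul_index
    rw [h2] at h3
    have h6 : 0 < Nat.card (fix (ρ (τ z))) := Nat.card_pos
    rw [← h3, mul_comm] at h1
    exact Nat.eq_of_mul_eq_mul_left h6 h1
  have hAW := hpc.aInv c.mc
  obtain ⟨φ, hφ⟩ := exists_coord c.mc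
  have hzE : (z : P) ∉ E := by
    intro h
    obtain ⟨v, hv, hv'⟩ := hza
    apply hzκ' v hv hv'
    rw [commutatorElement_eq_one_iff_commute.mpr (c.V_comm hv h)]
    exact one_mem _
  apply c.lemmaF' c.W_sub_one_le_V (hAW (n - 1) (by omega)) hzE
  intro g v hv
  have goal_iff : ∀ v : V, Commute (z : P) (v : P) ↔ v ∈ fix (ρ (τ z)) := by
    intro v
    rw [mem_fix, ← Subtype.coe_inj, hact, mul_eq_right, commutatorElement_eq_one_iff_commute]
  rw [goal_iff]
  have hle1 : W (n - 1) ≤ W (a + 1) := c.mc.antitone (by omega)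
  by_cases hg : g ∈ H
  · rw [hfix]
    exact hle1 (c.H_inv (hAW (n - 1) (by omega)) hg hv)
  -- the torus element
  have hg' : g⁻¹ ∉ H := fun h => hg (by simpa using H.inv_mem h)
  have hzp : IsPGroup p (zpowers (τ z)) := by
    have h1 : IsPGroup p (zpowers z) := (c.pgroup.to_subgroup _).to_subgroup _
    have := h1.map τ
    rwa [MonoidHom.map_zpowers] at this
  obtain ⟨ζ, hζ⟩ := IsCyclic.exists_generator (α := (ZMod p)ˣ)
  have hl : (p : ℤ) ∣ (((ζ : ZMod p).val : ℕ) : ℤ) * ((((ζ⁻¹ : (ZMod p)ˣ) : ZMod p).val : ℕ) : ℤ) - 1 := by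
    rw [← ZMod.intCast_zmod_eq_zero_iff_dvd]
    push_cast
    simp only [ZMod.natCast_val, ZMod.cast_id', id_eq]
    rw [mul_inv_cancel₀ (Units.ne_zero ζ), sub_self]
  have htw := c.se.tw hρ (c.τ_mem z) hzp hcard hcf hg'
  obtain ⟨k, hkH, hk1, hk2, hk3⟩ := c.se.torus hρ (c.τ_mem z) hzp hcard hcf hg' hl
  set s' := ρ (g⁻¹ * τ z * g⁻¹⁻¹) with hs'
  have hmem : ∀ w : V, ρ g w ∈ fix (ρ (τ z)) ↔ w ∈ fix s' := by
    intro w
    have : s' = (ρ g)⁻¹ * ρ (τ z) * (ρ g)⁻¹⁻¹ := by
      simp only [hs', map_mul, map_inv]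
    rw [this, mem_fix_conj, inv_inv]
  rw [hmem]
  have hvf : v ∈ fix (ρ (τ z)) := (hfix v).mpr (hle1 hv)
  obtain ⟨d, hd, hd1, hd2⟩ := htw.fix_le hvf
  by_cases hd0 : d = 1
  · rw [hd0, mul_one] at hd2
    exact hd2
  exfalso
  have hdidx := hcom' d hd hd0
  have hdW := hcom d hd
  -- scalars of `k`
  obtain ⟨α, hα, -, hαk⟩ := c.ext_ap hkH
  obtain ⟨b, a0, hb0, ha00, hwt⟩ := hpc.weights hφ c.mc c.deg hα
  have hwt' : ∀ i, 1 ≤ i → i < n → ∀ w ∈ W i, φ i (ap α w) = b * a0 ^ (i - 1) * φ i w := by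
    intro i hi hin w hw
    obtain ⟨j, rfl⟩ : ∃ j, i = j + 1 := ⟨i - 1, by omega⟩
    exact hwt j hin w hw
  have hζval : (((ζ : ZMod p).val : ℕ) : ZMod p) = ζ := by
    rw [ZMod.natCast_val, ZMod.cast_id', id_eq]
  have hζval' : ((((ζ⁻¹ : (ZMod p)ˣ) : ZMod p).val : ℕ) : ZMod p) = ((ζ⁻¹ : (ZMod p)ˣ) : ZMod p) := by
    rw [ZMod.natCast_val, ZMod.cast_id', id_eq]
  have hcardU : orderOf ζ = p - 1 := by
    rw [orderOf_eq_card_of_forall_mem_zpowers hζ, Nat.card_eq_fintype_card, ZMod.card_units]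
  have hζ1 : (ζ : ZMod p) ≠ 1 := by
    intro h
    have h1 : ζ = 1 := Units.ext h
    rw [h1, orderOf_one] at hcardU
    omega
  -- weight at `a + κ`
  have hle : W (a + κ) ≤ W 1 := c.mc.antitone (by omega)
  have hdw : b * a0 ^ (a + κ - 1) = ζ := by
    have e1 := hwt' (a + κ) (by omega) (by omega) _ hdW
    rw [hαk, hk1 d hd, zpow_natCast, Subgroup.coe_pow, hφ.pow (by omega) hdW, hζval] at e1
    have e2 : φ (a + κ) (d : P) ≠ 0 := fun h => hdidx ((hφ.zero _ (by omega) _ hdW).mp h)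
    exact (mul_right_cancel₀ e2 e1).symm
  rcases Nat.lt_or_ge (a + κ) (n - 1) with hlt | hge
  · -- `v d` is fixed by `k` and has index `a + κ`
    have hvdW : ((v * d : V) : P) ∈ W (a + κ) := by
      rw [Subgroup.coe_mul]
      exact mul_mem (c.mc.antitone (by omega) hv) hdW
    have e1 := hwt' (a + κ) (by omega) (by omega) _ hvdW
    rw [hαk, hk3 _ ⟨hd1, hd2⟩, hdw] at e1
    have e2 : φ (a + κ) ((v * d : V) : P) ≠ 0 := by
      rw [Subgroup.coe_mul, hφ.mul_left (by omega) hdW (c.mc.antitone (by omega) hv)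
        (c.mc.le_succ _)]
      exact fun h => hdidx ((hφ.zero _ (by omega) _ hdW).mp h)
    have e3 : (1 : ZMod p) * φ (a + κ) ((v * d : V) : P) = ζ * φ (a + κ) ((v * d : V) : P) := by
      rw [one_mul]; exact e1
    exact hζ1 (mul_right_cancel₀ e2 e3).symm
  · have haκ' : a + κ = n - 1 := by omega
    -- weight at `n - 2`
    have hw2 : b * a0 ^ (n - 2 - 1) = 1 := by
      obtain ⟨w, hw, hw'⟩ := c.mc.ne_succ (i := n - 2) (by omega)
      have hwV := c.W_sub_two_le_V hw
      have hwf : (⟨w, hwV⟩ : V) ∈ fix (ρ (τ z)) := by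
        rw [hfix]
        exact c.mc.antitone (by omega) hw
      obtain ⟨e, he, he1⟩ := htw.fix_le hwf
      have heW : (e : P) ∈ W (n - 2 + 1) := c.mc.antitone (by omega) (hcom e he)
      have hweW : (((⟨w, hwV⟩ : V) * e : V) : P) ∈ W (n - 2) := by
        rw [Subgroup.coe_mul]
        exact mul_mem hw (c.mc.le_succ _ heW)
      have e1 := hwt' (n - 2) (by omega) (by omega) _ hweW
      rw [hαk, hk3 _ he1] at e1
      have e2 : φ (n - 2) (((⟨w, hwV⟩ : V) * e : V) : P) ≠ 0 := by
        rw [Subgroup.coe_mul, hφ.mul_right (by omega) hw heW (c.mc.le_succ _)]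
        exact fun h => hw' ((hφ.zero _ (by omega) _ hw).mp h)
      have e3 : (1 : ZMod p) * φ (n - 2) (((⟨w, hwV⟩ : V) * e : V) : P) =
          b * a0 ^ (n - 2 - 1) * φ (n - 2) (((⟨w, hwV⟩ : V) * e : V) : P) := by
        rw [one_mul]; exact e1
      exact (mul_right_cancel₀ e2 e3).symm
    -- weight at `a`
    have hwa : b * a0 ^ (a - 1) = ((ζ⁻¹ : (ZMod p)ˣ) : ZMod p) := by
      have hnt : Nontrivial (com s') := by
        rw [← Finite.one_lt_card_iff_nontrivial, htw.cs']
        exact hp.out.one_lt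
      obtain ⟨⟨e, he⟩, he1⟩ := exists_ne (1 : com s')
      have he1' : e ≠ 1 := fun h => he1 (Subtype.ext h)
      have heW : (e : P) ∉ W (a + 1) := by
        intro h
        exact he1' (htw.symm.com_inf_fix he ((hfix e).mpr h))
      have heW' : (e : P) ∈ W a := hVa e.2
      have e1 := hwt' a ha1 (by omega) _ heW'
      rw [hαk, hk2 e he, zpow_natCast, Subgroup.coe_pow, hφ.pow (by omega) heW', hζval'] at e1
      have e2 : φ a (e : P) ≠ 0 := fun h => heW ((hφ.zero _ (by omega) _ heW').mp h)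
      exact (mul_right_cancel₀ e2 e1).symm
    -- `a0 = ζ`
    have h6 : a0 = ζ := by
      have e1 : b * a0 ^ (a + κ - 1) = b * a0 ^ (n - 2 - 1) * a0 := by
        rw [mul_assoc, ← pow_succ]
        congr 2
        omega
      rw [hdw, hw2, one_mul] at e1
      exact e1.symm
    have h7 : b * a0 ^ (n - 2 - 1) = b * a0 ^ (a - 1) * a0 ^ (κ - 1) := by
      rw [mul_assoc, ← pow_add]
      congr 2
      omega
    rw [hw2, hwa, h6] at h7
    have h8 : (ζ ^ (κ - 2) : (ZMod p)ˣ) = 1 := by
      apply Units.ext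
      rw [Units.val_pow_eq_pow_val, Units.val_one, h7]
      have e3 : κ - 1 = (κ - 2) + 1 := by omega
      rw [e3, pow_succ, mul_comm, mul_assoc, Units.mul_inv, mul_one]
    have h9 : p - 1 ∣ κ - 2 := by
      rw [← hcardU]
      exact orderOf_dvd_of_pow_eq_one h8
    have := Nat.le_of_dvd (by omega) h9
    omega

end Cfg

end Cfsg.Agent.H786
end

-- part: H786/VRep
section
/-!
# `V` as a module for `Γ`, filtration and jumps (helper786)
-/

set_option autoImplicit false
set_option linter.unusedSectionVars false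

namespace Cfsg.Agent.H786

open Subgroup Cfsg.Agent.H467.MaxClass Cfsg.Agent.H785
open scoped commutatorElement

universe u v

/-- the relative index of images divides the relative index -/
theorem relIndex_map_dvd {G G' : Type*} [Group G] [Group G'] (f : G →* G') {H K : Subgroup G}
    (h : H ≤ K) : (H.map f).relIndex (K.map f) ∣ H.relIndex K := by
  let f' : K →* K.map f := f.subgroupMap K
  have h1 : ((H.subgroupOf K).map f') = (H.map f).subgroupOf (K.map f) := by
    ext ⟨y, hy⟩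
    rw [mem_subgroupOf, mem_map, mem_map]
    constructor
    · rintro ⟨⟨x, hx⟩, hxH, hxy⟩
      exact ⟨x, mem_subgroupOf.mp hxH, congrArg Subtype.val hxy⟩
    · rintro ⟨x, hx, hxy⟩
      exact ⟨⟨x, h hx⟩, mem_subgroupOf.mpr hx, Subtype.ext hxy⟩
  have h2 := (H.subgroupOf K).index_map_dvd (f := f') (f.subgroupMap_surjective K)
  rw [h1] at h2
  exact h2

namespace Cfg

section VM

variable {P : Type u} [Group P] [Finite P] {p n : ℕ} [hp : Fact p.Prime] {W : ℕ → Subgroup P}
  [hW1 : (W 1).Normal] {A : Subgroup (MulAut (W 1))} {E V : Subgroup P} {Γ : Type v} [Group Γ]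
  [Finite Γ] {ρ : Γ →* MulAut V} {H : Subgroup Γ} {τ : (normalizer (E : Set P)) →* Γ}

/-- `V` written additively -/
def VM (_ : Cfg p n W A E V ρ H τ) : Type u := Additive V

noncomputable instance instAddCommGroupVM (c : Cfg p n W A E V ρ H τ) : AddCommGroup (VM c) :=
  letI := c.vComm
  inferInstanceAs (AddCommGroup (Additive V))

/-- from `V` to the additive version -/
def ofV (c : Cfg p n W A E V ρ H τ) (v : V) : VM c := Additive.ofMul v

/-- from the additive version to `V` -/
def toV (c : Cfg p n W A E V ρ H τ) (v : VM c) : V := Additive.toMul v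

theorem toV_ofV (c : Cfg p n W A E V ρ H τ) (v : V) : c.toV (c.ofV v) = v := rfl

theorem ofV_toV (c : Cfg p n W A E V ρ H τ) (v : VM c) : c.ofV (c.toV v) = v := rfl

theorem toV_add (c : Cfg p n W A E V ρ H τ) (v w : VM c) : c.toV (v + w) = c.toV v * c.toV w := rfl

theorem toV_zero (c : Cfg p n W A E V ρ H τ) : c.toV (0 : VM c) = 1 := rfl

theorem toV_neg (c : Cfg p n W A E V ρ H τ) (v : VM c) : c.toV (-v) = (c.toV v)⁻¹ := rfl

theorem toV_sub (c : Cfg p n W A E V ρ H τ) (v w : VM c) :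
    c.toV (v - w) = c.toV v * (c.toV w)⁻¹ := by
  rw [sub_eq_add_neg, toV_add, toV_neg]

theorem toV_injective (c : Cfg p n W A E V ρ H τ) : Function.Injective c.toV := fun _ _ h => h

theorem toV_nsmul (c : Cfg p n W A E V ρ H τ) (k : ℕ) (v : VM c) : c.toV (k • v) = c.toV v ^ k := by
  induction k with
  | zero => rw [zero_smul, toV_zero, pow_zero]
  | succ k ih => rw [succ_nsmul, toV_add, ih, pow_succ]

noncomputable instance instModuleVM (c : Cfg p n W A E V ρ H τ) : Module (ZMod p) (VM c) :=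
  AddCommGroup.zmodModule (by
    intro v
    apply c.toV_injective
    rw [toV_nsmul, toV_zero]
    exact Subtype.ext (c.V_pow (c.toV v).2))

theorem toV_smul (c : Cfg p n W A E V ρ H τ) (k : ZMod p) (v : VM c) :
    c.toV (k • v) = c.toV v ^ k.val := by
  rw [← toV_nsmul]
  congr 1
  rw [← Nat.cast_smul_eq_nsmul (ZMod p), ZMod.natCast_val, ZMod.cast_id', id_eq]

/-- the representation of `Γ` on `V` -/
noncomputable def rep (c : Cfg p n W A E V ρ H τ) : Representation (ZMod p) Γ (VM c) where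
  toFun g := AddMonoidHom.toZModLinearMap p
    { toFun := fun v => c.ofV (ρ g (c.toV v))
      map_zero' := map_one (ρ g)
      map_add' := fun v w => map_mul (ρ g) _ _ }
  map_one' := by
    apply LinearMap.ext
    intro v
    show c.ofV (ρ 1 (c.toV v)) = v
    rw [map_one]
    rfl
  map_mul' g h := by
    apply LinearMap.ext
    intro v
    show c.ofV (ρ (g * h) (c.toV v)) = c.ofV (ρ g (ρ h (c.toV v)))
    rw [map_mul]
    rfl

theorem toV_rep (c : Cfg p n W A E V ρ H τ) (g : Γ) (v : VM c) :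
    c.toV (c.rep g v) = ρ g (c.toV v) := rfl

/-- the filtration on `V` starting with `a` -/
noncomputable def fil (c : Cfg p n W A E V ρ H τ) (a k : ℕ) : Submodule (ZMod p) (VM c) :=
  AddSubgroup.toZModSubmodule p
    { carrier := {v | ((c.toV v : V) : P) ∈ W (a + k)}
      zero_mem' := (W (a + k)).one_mem
      add_mem' := fun {_ _} hv hw => (W (a + k)).mul_mem hv hw
      neg_mem' := fun {_} hv => (W (a + k)).inv_mem hv }

theorem mem_fil (c : Cfg p n W A E V ρ H τ) {a k : ℕ} {v : VM c} :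
    v ∈ c.fil a k ↔ ((c.toV v : V) : P) ∈ W (a + k) := Iff.rfl

theorem filData (c : Cfg p n W A E V ρ H τ) {a : ℕ} (hVa : V ≤ W a) (han : a < n) (ι : Type*)
    [Fintype ι] : FilData (M := fun _ : ι => VM c) (fun _ => c.fil a) (fun _ => n - 1 - a) where
  anti _ k k' hk v hv := c.mc.antitone (by omega) hv
  top _ := by
    rw [eq_top_iff]
    intro v _
    rw [mem_fil, add_zero]
    exact hVa (SetLike.coe_mem _)
  bot _ := by
    rw [eq_bot_iff]
    intro v hv
    rw [mem_fil, c.mc.bot_of_le (by omega), mem_bot] at hv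
    exact c.toV_injective (Subtype.ext hv)

theorem toV_rep_τ (c : Cfg p n W A E V ρ H τ) (s : normalizer (E : Set P)) (v : VM c) :
    ((c.toV (c.rep (τ s) v - v) : V) : P) = ⁅(s : P), ((c.toV v : V) : P)⁆ := by
  rw [toV_sub, toV_rep, Subgroup.coe_mul, c.ρτ, Subgroup.coe_inv, commutatorElement_def]

theorem jumpAll (c : Cfg p n W A E V ρ H τ) {a J : ℕ} {s : normalizer (E : Set P)}
    (hs : ∀ i, a ≤ i → ∀ v ∈ W i, ⁅(s : P), v⁆ ∈ W (i + J)) (ι : Type*) [Fintype ι] :
    JumpAll (M := fun _ : ι => VM c) (fun _ => c.rep) (fun _ => c.fil a) (τ s) J := by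
  intro _ k v hv
  rw [mem_fil, toV_rep_τ, ← add_assoc]
  exact hs _ (Nat.le_add_right a k) _ hv

theorem jumpAll_zero (c : Cfg p n W A E V ρ H τ) {a : ℕ} (ι : Type*) [Fintype ι] :
    ∀ x ∈ τ.range, JumpAll (M := fun _ : ι => VM c) (fun _ => c.rep) (fun _ => c.fil a) x 0 := by
  rintro _ ⟨s, rfl⟩
  apply c.jumpAll
  intro i _ v hv
  exact c.mc.antitone (Nat.le_succ i) (c.mc.comm_mem' hv)

/-- the image of `W j` in `Γ` -/
def Kj (W : ℕ → Subgroup P) (E : Subgroup P) (τ : (normalizer (E : Set P)) →* Γ) (j : ℕ) :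
    Subgroup Γ := ((W j).subgroupOf (normalizer (E : Set P))).map τ

theorem Kj_bot (c : Cfg p n W A E V ρ H τ) {j : ℕ} (hj : W j ≤ E) : Kj W E τ j = ⊥ := by
  rw [eq_bot_iff]
  rintro _ ⟨s, hs, rfl⟩
  exact (c.ker s).mpr (hj (mem_subgroupOf.mp hs))

/-- one step of the chain -/
theorem nchain_step (c : Cfg p n W A E V ρ H τ) {Jmp : Γ → ℕ → Prop} {j S J : ℕ} (hjn : j < n)
    (hT : W j ≤ normalizer (E : Set P)) (hc : NChain p Jmp (Kj W E τ (j + 1)) S)
    {z : normalizer (E : Set P)} (hz : (z : P) ∈ W j) (hz' : ∀ e ∈ E, (z : P) * e ∉ W (j + 1))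
    (hJ : Jmp (τ z) J) : NChain p Jmp (Kj W E τ j) (S + J) := by
  have hle : (W (j + 1)).subgroupOf (normalizer (E : Set P)) ≤
      (W j).subgroupOf (normalizer (E : Set P)) := Subgroup.comap_mono (c.mc.le_succ j)
  have hnot : τ z ∉ Kj W E τ (j + 1) := by
    rintro ⟨s, hs, hsz⟩
    have h1 : τ (z⁻¹ * s) = 1 := by rw [map_mul, map_inv, hsz, inv_mul_cancel]
    have h2 := (c.ker _).mp h1
    apply hz' _ h2
    rw [Subgroup.coe_mul, Subgroup.coe_inv, mul_inv_cancel_left]
    exact mem_subgroupOf.mp hs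
  refine NChain.step hc (map_mono hle) ⟨z, mem_subgroupOf.mpr hz, rfl⟩ hnot ?_ ?_ hJ
  · rintro _ ⟨s, hs, rfl⟩
    refine ⟨z * s * z⁻¹, ?_, by rw [map_mul, map_mul, map_inv]⟩
    show (z * s * z⁻¹ : normalizer (E : Set P)) ∈ (W (j + 1)).subgroupOf _
    rw [mem_subgroupOf]
    exact c.mc.conj_mem (mem_subgroupOf.mp hs) _
  · have h1 : (Kj W E τ (j + 1)).relIndex (Kj W E τ j) ∣ p := by
      refine (relIndex_map_dvd τ hle).trans ?_
      rw [Subgroup.relIndex_subgroupOf hT, c.mc.relIndex j hjn]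
    rcases (Nat.dvd_prime hp.out).mp h1 with h2 | h2
    · rw [Subgroup.relIndex_eq_one] at h2
      exact absurd (h2 ⟨z, mem_subgroupOf.mpr hz, rfl⟩) hnot
    · exact h2

end VM

end Cfg

end Cfsg.Agent.H786
end

-- part: H786/PureV
section
/-!
# Pure tensors and bilinear forms for `V` (helper786)
-/

set_option autoImplicit false
set_option linter.unusedSectionVars false
set_option linter.deprecated false

namespace Cfsg.Agent.H786

open Subgroup Cfsg.Agent.H467.MaxClass Cfsg.Agent.H785 Module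
open scoped commutatorElement

universe u v

namespace Cfg

variable {P : Type u} [Group P] [Finite P] {p n : ℕ} [hp : Fact p.Prime] {W : ℕ → Subgroup P}
  [hW1 : (W 1).Normal] {A : Subgroup (MulAut (W 1))} {E V : Subgroup P} {Γ : Type v} [Group Γ]
  [Finite Γ] {ρ : Γ →* MulAut V} {H : Subgroup Γ} {τ : (normalizer (E : Set P)) →* Γ}

/-- jumps on `V` -/
def Jp (c : Cfg p n W A E V ρ H τ) (a : ℕ) (x : Γ) (J : ℕ) : Prop :=
  ∀ k, ∀ y ∈ c.fil a k, c.rep x y - y ∈ c.fil a (k + J)

theorem Jp_τ (c : Cfg p n W A E V ρ H τ) {a J : ℕ} {s : normalizer (E : Set P)}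
    (hs : ∀ i, a ≤ i → ∀ v ∈ W i, ⁅(s : P), v⁆ ∈ W (i + J)) : c.Jp a (τ s) J := by
  intro k v hv
  rw [mem_fil, toV_rep_τ, ← add_assoc]
  exact hs _ (Nat.le_add_right a k) _ hv

theorem Jp_zero (c : Cfg p n W A E V ρ H τ) {a : ℕ} : ∀ x ∈ τ.range, c.Jp a x 0 := by
  rintro _ ⟨s, rfl⟩
  apply c.Jp_τ
  intro i _ v hv
  exact c.mc.antitone (Nat.le_succ i) (c.mc.comm_mem' hv)

/-- scalar action on a layer of `V` -/
theorem exists_scalar_H (c : Cfg p n W A E V ρ H τ) {φ : ℕ → P → ZMod p} (hφ : Coord p n W φ)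
    (hA : AInv A (W (n - 1))) {h : Γ} (hh : h ∈ H) :
    ∃ r : ZMod p, r ≠ 0 ∧ ∀ v : V, (v : P) ∈ W (n - 1) → φ (n - 1) (ρ h v : V) = r * φ (n - 1) v := by
  have h4 := c.mc.four_le
  obtain ⟨a, ha, -, h2⟩ := c.ext_ap hh
  have hbot : AInv A (W (n - 1 + 1)) := by
    rw [aInv_iff]
    intro b _ x _ hx
    rw [c.mc.bot_of_le (i := n - 1 + 1) (by omega), mem_bot] at hx
    rw [hx, ap_one]
    exact one_mem _
  obtain ⟨r, hr, hr'⟩ := exists_scalar hφ c.mc ha (i := n - 1) (by omega) (by omega) hA hbot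
  refine ⟨r, hr, fun v hv => ?_⟩
  rw [← h2 v]
  exact hr' v hv

/-- **Pure tensors** of the generator of `W (n - 1)`. -/
theorem ginv_of_pure (c : Cfg p n W A E V ρ H τ) {a m S : ℕ} (hVa : V ≤ W a) (han : a < n)
    (hm : 1 ≤ m) (hA : AInv A (W (n - 1))) (hQ : NChain p (c.Jp a) τ.range S)
    (hS : m * (n - 1 - a) < (p - 1) * S) {φ : ℕ → P → ZMod p} (hφ : Coord p n W φ)
    (hH : ∀ h ∈ H, ∀ r : ZMod p, r ≠ 0 →
      (∀ v : V, (v : P) ∈ W (n - 1) → φ (n - 1) (ρ h v : V) = r * φ (n - 1) v) → r ^ m = 1) :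
    GInv ρ (W (n - 1)) := by
  have h4 := c.mc.four_le
  obtain ⟨w, hw, hw1⟩ := hφ.exists_eq_one c.mc (i := n - 1) (by omega)
  have hwV : w ∈ V := c.W_sub_one_le_V hw
  have hW0 : ∀ x ∈ W (n - 1), φ (n - 1) x = 0 → x = 1 := by
    intro x hx hx0
    have := (hφ.zero (n - 1) (by omega) x hx).mp hx0
    rw [c.mc.bot_of_le (by omega), mem_bot] at this
    exact this
  -- elements of `W (n - 1)` are determined by the coordinate
  have hinj : ∀ x ∈ W (n - 1), ∀ y ∈ W (n - 1), φ (n - 1) x = φ (n - 1) y → x = y := by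
    intro x hx y hy hxy
    have h1 : φ (n - 1) (x * y⁻¹) = 0 := by
      rw [hφ.mul _ (by omega) x hx _ (inv_mem hy), hφ.inv (by omega) hy, hxy, add_neg_cancel]
    have := hW0 _ (mul_mem hx (inv_mem hy)) h1
    exact mul_inv_eq_one.mp this
  set b : VM c := c.ofV ⟨w, hwV⟩ with hb
  have hb0 : b ≠ 0 := by
    intro h
    have h1 : c.toV b = c.toV 0 := by rw [h]
    rw [toV_zero] at h1
    have h2 : w = 1 := congrArg Subtype.val h1
    rw [h2, hφ.one (by omega)] at hw1
    exact zero_ne_one hw1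
  have hinst : Fact (1 < p) := ⟨hp.out.one_lt⟩
  have hsm : ∀ (r : ZMod p) (x : V), (x : P) ∈ W (n - 1) → φ (n - 1) x = r → c.ofV x = r • b := by
    intro r x hx hxr
    apply c.toV_injective
    rw [toV_ofV, toV_smul]
    apply Subtype.ext
    rw [Subgroup.coe_pow]
    apply hinj _ hx _ (pow_mem hw _)
    rw [hxr]
    show r = φ (n - 1) (w ^ r.val)
    rw [hφ.pow (by omega) hw, hw1, ZMod.natCast_val, ZMod.cast_id', id_eq, mul_one]
  have hmain := pureT (ι := Fin m) (U := fun _ => VM c) (fun _ => c.rep) (F := fun _ => c.fil a)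
    (D := fun _ => n - 1 - a) (c.filData hVa han (Fin m)) (H := H) (Q := τ.range) c.se.le
    c.se.emb (S := S) (hQ.mono (fun x J hx _ => hx)) (fun x hx _ => c.Jp_zero x hx)
    (by rw [Finset.sum_const, Finset.card_univ, Fintype.card_fin, smul_eq_mul]; exact hS)
    (fun _ => b) (fun _ => hb0) (by
      intro h hh
      obtain ⟨r, hr, hr'⟩ := c.exists_scalar_H hφ hA hh
      refine ⟨fun _ => r, fun _ => ?_, ?_⟩
      · have h1 : (ρ h ⟨w, hwV⟩ : P) ∈ W (n - 1) := c.H_inv hA hh hw
        have h2 := hr' ⟨w, hwV⟩ hw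
        rw [hw1, mul_one] at h2
        exact hsm r _ h1 h2
      · rw [Finset.prod_const, Finset.card_univ, Fintype.card_fin]
        exact hH h hh r hr hr')
  intro g e he
  obtain ⟨r, hr⟩ := hmain g ⟨0, by omega⟩
  -- `e` is a multiple of `b`
  have he' : c.ofV e = φ (n - 1) e • b := hsm _ e he rfl
  have h1 : c.rep g (c.ofV e) = (φ (n - 1) e * r) • b := by
    rw [he', map_smul, hr, smul_smul]
  have h2 : ((c.toV (c.rep g (c.ofV e)) : V) : P) = (ρ g e : V) := rfl
  rw [← h2, h1, toV_smul, Subgroup.coe_pow]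
  exact pow_mem hw _

/-- **Invariant bilinear forms.** -/
theorem ginv_of_dual (c : Cfg p n W A E V ρ H τ) {a i S : ℕ} (hVa : V ≤ W a) (han : a < n)
    (hiV : W i ≤ V) (hQ : NChain p (c.Jp a) τ.range S) (hS : 2 * (n - 1 - a) < (p - 1) * S)
    (θ : (W i →* Multiplicative (ZMod p)) →* W i) (hθ : Function.Surjective θ)
    (hθA : ∀ α ∈ A, ∀ f f' : W i →* Multiplicative (ZMod p),
      (∀ w w' : W i, (w' : P) = ap α (w : P) → f' w' = f w) →
      ((θ f' : W i) : P) = ap α ((θ f : W i) : P)) : GInv ρ (W i) := by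
  -- restriction of linear forms on `V` to `W i`
  let res : Dual (ZMod p) (VM c) → (W i →* Multiplicative (ZMod p)) := fun φ =>
    { toFun := fun w => Multiplicative.ofAdd (φ (c.ofV ⟨w, hiV w.2⟩))
      map_one' := by
        have : c.ofV ⟨((1 : W i) : P), hiV (1 : W i).2⟩ = 0 := rfl
        rw [this, map_zero, ofAdd_zero]
      map_mul' := by
        intro w w'
        have : c.ofV ⟨((w * w' : W i) : P), hiV (w * w').2⟩ =
          c.ofV ⟨w, hiV w.2⟩ + c.ofV ⟨w', hiV w'.2⟩ := rfl
        rw [this, map_add, ofAdd_add] }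
  have hres_apply : ∀ φ (w : W i), res φ w = Multiplicative.ofAdd (φ (c.ofV ⟨w, hiV w.2⟩)) :=
    fun _ _ => rfl
  have hres_add : ∀ φ ψ, res (φ + ψ) = res φ * res ψ := by
    intro φ ψ
    ext w
    rfl
  let Θ0 : Dual (ZMod p) (VM c) →+ VM c :=
    { toFun := fun φ => c.ofV ⟨(θ (res φ) : W i), hiV (SetLike.coe_mem _)⟩
      map_zero' := by
        have : res 0 = 1 := rfl
        rw [this, map_one]
        rfl
      map_add' := by
        intro φ ψ
        rw [hres_add, map_mul]
        rfl }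
  let Θ : Dual (ZMod p) (VM c) →ₗ[ZMod p] VM c := Θ0.toZModLinearMap p
  have hΘ : ∀ φ, ((c.toV (Θ φ) : V) : P) = (θ (res φ) : W i) := fun _ => rfl
  -- the form
  let f : MultilinearMap (ZMod p) (fun _ : Fin 2 => Dual (ZMod p) (VM c)) (ZMod p) :=
    { toFun := fun x => x 0 (Θ (x 1))
      map_update_add' := by
        intro _ x i φ ψ
        fin_cases i
        · simp
        · simp
      map_update_smul' := by
        intro _ x i r φ
        fin_cases i
        · simp
        · simp }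
  have hf : ∀ x, f x = x 0 (Θ (x 1)) := fun _ => rfl
  have hrep : ∀ (g : Γ) (x : Fin 2 → Dual (ZMod p) (VM c)),
      mlRep (fun _ : Fin 2 => c.rep.dual) g f x = x 0 (c.rep g (Θ (x 1 ∘ₗ c.rep g))) := by
    intro g x
    rw [mlRep_apply, hf, Representation.dual_apply, Dual.transpose_apply, inv_inv]
    rfl
  have hfil := (c.filData hVa han (Fin 2)).dual
  have hfix : ∀ h ∈ H, mlRep (fun _ : Fin 2 => c.rep.dual) h f = f := by
    intro h hh
    apply MultilinearMap.ext
    intro x
    rw [hrep, hf]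
    congr 1
    -- equivariance
    obtain ⟨α, hα, -, hα2⟩ := c.ext_ap hh
    apply c.toV_injective
    apply Subtype.ext
    rw [hΘ, toV_rep]
    have h1 := hθA α hα (res (x 1 ∘ₗ c.rep h)) (res (x 1)) (by
      intro w w' hww
      rw [hres_apply, hres_apply]
      congr 1
      rw [LinearMap.comp_apply]
      congr 1
      apply c.toV_injective
      apply Subtype.ext
      show (w' : P) = (ρ h ⟨w, hiV w.2⟩ : V)
      rw [hww, ← hα2 ⟨w, hiV w.2⟩])
    rw [h1, ← hα2]
    rfl
  have hG := fun g => ml_fixed (fun _ : Fin 2 => c.rep.dual) hfil c.se.le c.se.emb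
    ((hQ.mono (fun x J hx => JumpAll.dual (c.filData hVa han (Fin 2)) (fun _ => hx))))
    (fun x hx => JumpAll.dual (c.filData hVa han (Fin 2)) (fun _ => c.Jp_zero x hx))
    (by rw [Finset.sum_const, Finset.card_univ, Fintype.card_fin, smul_eq_mul]; exact hS) f hfix g
  have hkey : ∀ (g : Γ) (φ : Dual (ZMod p) (VM c)), c.rep g (Θ (φ ∘ₗ c.rep g)) = Θ φ := by
    intro g φ
    by_contra hne
    have hne' : c.rep g (Θ (φ ∘ₗ c.rep g)) - Θ φ ≠ 0 := sub_ne_zero.mpr hne
    obtain ⟨ψ, hψ, -⟩ := Submodule.exists_dual_map_eq_bot_of_notMem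
      (p := (⊥ : Submodule (ZMod p) (VM c))) (x := c.rep g (Θ (φ ∘ₗ c.rep g)) - Θ φ)
      (by rw [Submodule.mem_bot]; exact hne') inferInstance
    apply hψ
    rw [map_sub, sub_eq_zero]
    have h1 := hrep g ![ψ, φ]
    rw [hG g, hf] at h1
    simp only [Matrix.cons_val_zero, Matrix.cons_val_one] at h1
    exact h1.symm
  intro g e he
  -- `e = Θ φ`
  obtain ⟨ψ, hψ⟩ := hθ ⟨e, he⟩
  -- extend `ψ` to `V`
  let B : Submodule (ZMod p) (VM c) := AddSubgroup.toZModSubmodule p
    { carrier := {v | ((c.toV v : V) : P) ∈ W i}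
      zero_mem' := (W i).one_mem
      add_mem' := fun {_ _} hv hw => (W i).mul_mem hv hw
      neg_mem' := fun {_} hv => (W i).inv_mem hv }
  let ψ0 : B →+ ZMod p :=
    { toFun := fun v => Multiplicative.toAdd (ψ ⟨((c.toV (v : VM c) : V) : P), v.2⟩)
      map_zero' := by
        have : (⟨((c.toV ((0 : B) : VM c) : V) : P), (0 : B).2⟩ : W i) = 1 := rfl
        rw [this, map_one, toAdd_one]
      map_add' := by
        intro v v'
        have : (⟨((c.toV ((v + v' : B) : VM c) : V) : P), (v + v').2⟩ : W i) =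
          ⟨((c.toV (v : VM c) : V) : P), v.2⟩ * ⟨((c.toV (v' : VM c) : V) : P), v'.2⟩ := rfl
        rw [this, map_mul, toAdd_mul] }
  obtain ⟨φ, hφ⟩ := LinearMap.exists_extend (ψ0.toZModLinearMap p)
  have hφψ : res φ = ψ := by
    ext w
    rw [hres_apply]
    have h1 : φ (c.ofV ⟨w, hiV w.2⟩) = ψ0 ⟨c.ofV ⟨w, hiV w.2⟩, w.2⟩ := by
      have := congrArg (fun F : B →ₗ[ZMod p] ZMod p => F ⟨c.ofV ⟨w, hiV w.2⟩, w.2⟩) hφ
      exact this
    rw [h1]
    rfl
  have he' : c.ofV e = Θ φ := by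
    apply c.toV_injective
    apply Subtype.ext
    rw [hΘ, hφψ, hψ]
    rfl
  -- `g e = Θ (φ ∘ g⁻¹)`
  have h1 := hkey g (φ ∘ₗ c.rep g⁻¹)
  have h2 : (φ ∘ₗ c.rep g⁻¹) ∘ₗ c.rep g = φ := by
    apply LinearMap.ext
    intro v
    rw [LinearMap.comp_apply, LinearMap.comp_apply, Representation.inv_self_apply]
  rw [h2, ← he'] at h1
  have h3 : ((c.toV (c.rep g (c.ofV e)) : V) : P) = (ρ g e : V) := rfl
  rw [← h3, h1, hΘ]
  exact SetLike.coe_mem _

end Cfg

end Cfsg.Agent.H786
end

-- part: H786/Leading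
section
/-!
# Leading terms (helper786)

The abstract form of the case `t = 2` of the core lemma.
-/

set_option autoImplicit false
set_option linter.unusedSectionVars false
set_option linter.deprecated false
set_option linter.unusedVariables false

namespace Cfsg.Agent.H786

open Module

section Average

variable {p : ℕ} [hp : Fact p.Prime] {G : Type*} [Group G] [Finite G] {Y : Type*} [AddCommGroup Y]
  [Module (ZMod p) Y]

/-- **Averaging** over the cosets of `Q` in `H`. -/
theorem exists_average (ρ : Representation (ZMod p) G Y) {H Q : Subgroup G} (hQH : Q ≤ H)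
    (hidx : ¬ p ∣ Q.relIndex H) (N : Submodule (ZMod p) Y) (f : Y) (hQ : ∀ u ∈ Q, ρ u f = f)
    (hN : ∀ h ∈ H, ρ h f - f ∈ N) : ∃ f', (∀ h ∈ H, ρ h f' = f') ∧ f' - f ∈ N := by
  classical
  have := Fintype.ofFinite G
  have hfq : Fintype (H ⧸ Q.subgroupOf H) := Fintype.ofFinite _
  let F : H ⧸ Q.subgroupOf H → Y := Quotient.lift (s := QuotientGroup.leftRel _)
    (fun h => ρ (h : G) f) (by
      intro a b hab
      have hab' : a⁻¹ * b ∈ Q.subgroupOf H := QuotientGroup.leftRel_apply.mp hab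
      rw [Subgroup.mem_subgroupOf] at hab'
      show ρ (a : G) f = ρ (b : G) f
      have e : (b : G) = a * ((a⁻¹ * b : H) : G) := by push_cast; group
      rw [e, map_mul, Module.End.mul_apply, hQ _ hab'])
  have hF : ∀ h : H, F (QuotientGroup.mk h) = ρ (h : G) f := fun h => rfl
  have hFs : ∀ (g : H) (x : H ⧸ Q.subgroupOf H), F (g • x) = ρ (g : G) (F x) := by
    intro g x
    obtain ⟨a, rfl⟩ := QuotientGroup.mk_surjective x
    rw [MulAction.Quotient.smul_mk, hF, hF, smul_eq_mul, Subgroup.coe_mul, map_mul,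
      Module.End.mul_apply]
  set k : ZMod p := ((Fintype.card (H ⧸ Q.subgroupOf H) : ℕ) : ZMod p) with hk
  have hk0 : k ≠ 0 := by
    intro h
    rw [hk, ZMod.natCast_eq_zero_iff, ← Nat.card_eq_fintype_card] at h
    exact hidx h
  refine ⟨k⁻¹ • ∑ x, F x, ?_, ?_⟩
  · intro h hh
    rw [map_smul, map_sum]
    congr 1
    have h1 : ∀ x, ρ h (F x) = F ((⟨h, hh⟩ : H) • x) := fun x => (hFs ⟨h, hh⟩ x).symm
    simp_rw [h1]
    exact Equiv.sum_comp (MulAction.toPerm (⟨h, hh⟩ : H)) F
  · have h1 : k⁻¹ • ∑ x, F x - f = k⁻¹ • ∑ x, (F x - f) := by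
      rw [Finset.sum_sub_distrib, Finset.sum_const, Finset.card_univ, smul_sub,
        ← Nat.cast_smul_eq_nsmul (ZMod p), smul_smul, ← hk, inv_mul_cancel₀ hk0, one_smul]
    rw [h1]
    apply N.smul_mem
    apply Submodule.sum_mem
    intro x _
    obtain ⟨a, rfl⟩ := QuotientGroup.mk_surjective x
    rw [hF]
    exact hN a a.2

end Average

section Deg

variable {p : ℕ} [hp : Fact p.Prime] {U : Type*} [AddCommGroup U] [Module (ZMod p) U]

/-- operators raising the filtration by `r` -/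
def Deg (F : ℕ → Submodule (ZMod p) U) (r : ℕ) (Z : Module.End (ZMod p) U) : Prop :=
  ∀ i, ∀ u ∈ F i, Z u ∈ F (i + r)

theorem Deg.add {F : ℕ → Submodule (ZMod p) U} {r : ℕ} {Z Z' : Module.End (ZMod p) U}
    (h : Deg F r Z) (h' : Deg F r Z') : Deg F r (Z + Z') :=
  fun i u hu => (F _).add_mem (h i u hu) (h' i u hu)

theorem Deg.smul {F : ℕ → Submodule (ZMod p) U} {r : ℕ} {Z : Module.End (ZMod p) U}
    (h : Deg F r Z) (α : ZMod p) : Deg F r (α • Z) :=
  fun i u hu => (F _).smul_mem α (h i u hu)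

theorem Deg.mul {F : ℕ → Submodule (ZMod p) U} {r r' : ℕ} {Z Z' : Module.End (ZMod p) U}
    (h : Deg F r Z) (h' : Deg F r' Z') : Deg F (r + r') (Z * Z') := by
  intro i u hu
  have := h _ _ (h' i u hu)
  rw [show i + (r + r') = i + r' + r by ring]
  exact this

theorem Deg.pow {F : ℕ → Submodule (ZMod p) U} {r : ℕ} {Z : Module.End (ZMod p) U}
    (h : Deg F r Z) (j : ℕ) : Deg F (j * r) (Z ^ j) := by
  induction j with
  | zero => intro i u hu; simpa using hu
  | succ j ih =>
    rw [pow_succ, show (j + 1) * r = j * r + r by ring]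
    exact ih.mul h

theorem Deg.mono {F : ℕ → Submodule (ZMod p) U} (hF : Antitone F) {r r' : ℕ} (hr : r ≤ r')
    {Z : Module.End (ZMod p) U} (h : Deg F r' Z) : Deg F r Z :=
  fun i u hu => hF (by omega) (h i u hu)

/-- powers of operators with the same leading term -/
theorem Deg.pow_sub {F : ℕ → Submodule (ZMod p) U} {X Z : Module.End (ZMod p) U} {α : ZMod p}
    (hX : Deg F 1 X) (hZ : Deg F 1 Z) (hXZ : Deg F 2 (Z - α • X)) (j : ℕ) :
    Deg F (j + 1) (Z ^ j - α ^ j • X ^ j) := by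
  induction j with
  | zero =>
    intro i u _
    simp
  | succ j ih =>
    have e : Z ^ (j + 1) - α ^ (j + 1) • X ^ (j + 1) =
        Z ^ j * (Z - α • X) + α • ((Z ^ j - α ^ j • X ^ j) * X) := by
      rw [pow_succ, pow_succ, pow_succ, mul_sub, sub_mul, smul_sub, mul_smul_comm, smul_mul_assoc,
        smul_smul, mul_comm (α ^ j) α]
      abel
    rw [e]
    apply Deg.add
    · have := (hZ.pow j).mul hXZ
      rwa [show j * 1 + 2 = j + 1 + 1 by ring] at this
    · exact (ih.mul hX).smul α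

variable [Module.Finite (ZMod p) U]

/-- operators raising the filtration have trace zero -/
theorem Deg.trace_eq_zero {F : ℕ → Submodule (ZMod p) U} {d : ℕ} (hF : Antitone F) (h0 : F 0 = ⊤)
    (hd : F (d + 1) = ⊥) {Z : Module.End (ZMod p) U} (h : Deg F 1 Z) :
    LinearMap.trace (ZMod p) U Z = 0 := by
  have h1 : Z ^ (d + 1) = 0 := by
    apply LinearMap.ext
    intro u
    have h2 := h.pow (d + 1) 0 u (by rw [h0]; trivial)
    rw [zero_add, mul_one, hd, Submodule.mem_bot] at h2
    exact h2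
  have h3 : IsNilpotent Z := ⟨d + 1, h1⟩
  exact (LinearMap.isNilpotent_trace_of_isNilpotent h3).eq_zero

/-- the filtration on endomorphisms -/
def endFil (F : ℕ → Submodule (ZMod p) U) (d k : ℕ) : Submodule (ZMod p) (Module.End (ZMod p) U) where
  carrier := {A | ∀ i, ∀ u ∈ F i, A u ∈ F (i + k - d)}
  zero_mem' := fun i u _ => (F _).zero_mem
  add_mem' := fun {_ _} hA hB i u hu => (F _).add_mem (hA i u hu) (hB i u hu)
  smul_mem' := fun r _ hA i u hu => (F _).smul_mem r (hA i u hu)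

theorem mem_endFil {F : ℕ → Submodule (ZMod p) U} {d k : ℕ} {A : Module.End (ZMod p) U} :
    A ∈ endFil F d k ↔ ∀ i, ∀ u ∈ F i, A u ∈ F (i + k - d) := Iff.rfl

theorem endFil_trace {F : ℕ → Submodule (ZMod p) U} {d : ℕ} (hF : Antitone F) (h0 : F 0 = ⊤)
    (hd : F (d + 1) = ⊥) {k r : ℕ} {A Z : Module.End (ZMod p) U} (hA : A ∈ endFil F d k)
    (hZ : Deg F r Z) (hkr : d + 1 ≤ k + r) : LinearMap.trace (ZMod p) U (A * Z) = 0 := by
  apply Deg.trace_eq_zero hF h0 hd
  intro i u hu
  exact hF (by omega) (hA _ _ (hZ i u hu))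

theorem endFil_filData {F : ℕ → Submodule (ZMod p) U} {d : ℕ} (hF : Antitone F) (h0 : F 0 = ⊤)
    (hd : F (d + 1) = ⊥) (ι : Type*) [Fintype ι] :
    FilData (M := fun _ : ι => Module.End (ZMod p) U) (fun _ => endFil F d) (fun _ => 2 * d) where
  anti _ k k' hk A hA i u hu := hF (by omega) (hA i u hu)
  top _ := by
    rw [eq_top_iff]
    intro A _ i u hu
    rcases Nat.lt_or_ge d i with hi | hi
    · have h1 : u ∈ F (d + 1) := hF hi hu
      rw [hd, Submodule.mem_bot] at h1
      rw [h1, map_zero]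
      exact (F _).zero_mem
    · rw [show i + 0 - d = 0 by omega, h0]
      trivial
  bot _ := by
    rw [eq_bot_iff]
    intro A hA
    rw [Submodule.mem_bot]
    apply LinearMap.ext
    intro u
    have h1 := hA 0 u (by rw [h0]; trivial)
    rw [show 0 + (2 * d + 1) - d = d + 1 by omega, hd, Submodule.mem_bot] at h1
    exact h1

theorem endFil_jump {G : Type*} [Group G] {ρ : Representation (ZMod p) G U}
    {F : ℕ → Submodule (ZMod p) U} {d : ℕ} (hF : Antitone F) {x : G} {J : ℕ}
    (hx : ∀ k, ∀ y ∈ F k, ρ x y - y ∈ F (k + J)) (hx' : ∀ k, ∀ y ∈ F k, ρ x⁻¹ y - y ∈ F (k + J))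
    {k : ℕ} {A : Module.End (ZMod p) U} (hA : A ∈ endFil F d k) :
    Representation.linHom ρ ρ x A - A ∈ endFil F d (k + J) := by
  have hinv : ∀ k, ∀ y ∈ F k, ρ x y ∈ F k := by
    intro k y hy
    have := (F k).add_mem (hF (Nat.le_add_right k J) (hx k y hy)) hy
    rwa [sub_add_cancel] at this
  intro i u hu
  rw [LinearMap.sub_apply, Representation.linHom_apply, LinearMap.comp_apply, LinearMap.comp_apply]
  have e : ρ x (A (ρ x⁻¹ u)) - A u = ρ x (A (ρ x⁻¹ u - u)) + (ρ x (A u) - A u) := by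
    rw [map_sub, map_sub]; abel
  rw [e]
  apply (F _).add_mem
  · have h1 := hA _ _ (hx' i u hu)
    exact hF (by omega) (hinv _ _ h1)
  · exact hF (by omega) (hx _ _ (hA i u hu))

end Deg

/-- sums with bounded parts -/
theorem exists_parts {d q : ℕ} (hd : 1 ≤ d) (hq : 1 ≤ q) :
    ∃ (r : ℕ) (j : Fin (r + 1) → ℕ), (∀ l, j l ≤ d) ∧ ∑ l, j l = q ∧ r * d < q := by
  refine ⟨(q - 1) / d, fun l => if (l : ℕ) < (q - 1) / d then d else q - (q - 1) / d * d, ?_, ?_, ?_⟩
  · intro l
    dsimp only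
    split_ifs
    · exact le_rfl
    · have h1 := Nat.div_add_mod (q - 1) d
      have h2 := Nat.mod_lt (q - 1) (show 0 < d by omega)
      have h3 : (q - 1) / d * d = d * ((q - 1) / d) := mul_comm _ _
      omega
  · rw [Fin.sum_univ_castSucc]
    have h1 : ∀ l : Fin ((q - 1) / d), (if ((Fin.castSucc l : Fin ((q - 1) / d + 1)) : ℕ) < (q - 1) / d
        then d else q - (q - 1) / d * d) = d := by
      intro l
      rw [if_pos]
      simp
    simp_rw [h1]
    rw [Finset.sum_const, Finset.card_univ, Fintype.card_fin, smul_eq_mul, if_neg (by simp)]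
    have h2 : (q - 1) / d * d ≤ q - 1 := Nat.div_mul_le_self _ _
    omega
  · have h2 : (q - 1) / d * d ≤ q - 1 := Nat.div_mul_le_self _ _
    omega

section Leading

variable {p : ℕ} [hp : Fact p.Prime] {G : Type*} [Group G] [Finite G] {U : Type*} [AddCommGroup U]
  [Module (ZMod p) U] [Module.Finite (ZMod p) U]

/-- the product of traces -/
noncomputable def trForm {r : ℕ} (Z : Fin (r + 1) → Module.End (ZMod p) U) :
    MultilinearMap (ZMod p) (fun _ : Fin (r + 1) => Module.End (ZMod p) U) (ZMod p) :=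
  (MultilinearMap.mkPiAlgebra (ZMod p) (Fin (r + 1)) (ZMod p)).compLinearMap
    (fun l => LinearMap.trace (ZMod p) U ∘ₗ LinearMap.mulRight (ZMod p) (Z l))

theorem trForm_apply {r : ℕ} (Z : Fin (r + 1) → Module.End (ZMod p) U)
    (A : Fin (r + 1) → Module.End (ZMod p) U) :
    trForm Z A = ∏ l, LinearMap.trace (ZMod p) U (A l * Z l) := by
  rw [trForm, MultilinearMap.compLinearMap_apply, MultilinearMap.mkPiAlgebra_apply]
  rfl

theorem rep_trForm {r : ℕ} (ρ : Representation (ZMod p) G U)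
    (Z : Fin (r + 1) → Module.End (ZMod p) U) (g : G) :
    mlRep (fun _ : Fin (r + 1) => Representation.linHom ρ ρ) g (trForm Z) =
      trForm (fun l => ρ g * Z l * ρ g⁻¹) := by
  apply MultilinearMap.ext
  intro A
  rw [mlRep_apply, trForm_apply, trForm_apply]
  apply Finset.prod_congr rfl
  intro l _
  have e : (Representation.linHom ρ ρ g⁻¹ (A l)) * Z l = ρ g⁻¹ * (A l * (ρ g * Z l)) := by
    rw [Representation.linHom_apply, inv_inv]
    rfl
  rw [e, LinearMap.trace_mul_comm, mul_assoc]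

/-- **Leading terms.** -/
theorem leading (ρ : Representation (ZMod p) G U) {F : ℕ → Submodule (ZMod p) U} {d : ℕ}
    (hF : Antitone F) (h0 : F 0 = ⊤) (hd : F (d + 1) = ⊥) {H Q : Subgroup G} (hQH : Q ≤ H)
    (hfree : ∀ g, g ∉ H → ∀ u ∈ Q, g⁻¹ * u * g ∈ H → u = 1) {S : ℕ}
    (hQ : NChain p (fun x J => ∀ k, ∀ y ∈ F k, ρ x y - y ∈ F (k + J)) Q S)
    (hinv : ∀ x ∈ Q, ∀ k, ∀ y ∈ F k, ρ x y - y ∈ F (k + 0)) (hS : 3 ≤ S) (hd1 : 1 ≤ d)
    (hdq : d ≤ p - 1) (X : Module.End (ZMod p) U) (hX : Deg F 1 X) (hXd : X ^ d ≠ 0)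
    (hXQ : ∀ x ∈ Q, ρ x * X * ρ x⁻¹ = X)
    (hXH : ∀ h ∈ H, ∃ α : ZMod p, α ≠ 0 ∧ Deg F 1 (ρ h * X * ρ h⁻¹) ∧
      Deg F 2 (ρ h * X * ρ h⁻¹ - α • X))
    (hidx : ¬ p ∣ Q.relIndex H) {b : U} (hb : b ∈ F d)
    (hspan : Submodule.span (ZMod p) (Set.range fun g => ρ g b) = ⊤) : False := by
  have hp2 := hp.out.two_le
  obtain ⟨r, j, hj, hjq, hrq⟩ := exists_parts hd1 (show 1 ≤ p - 1 by omega)
  set q := p - 1 with hq
  set f := trForm (fun l => X ^ j l) with hf
  have hjump : ∀ (x : G) (J : ℕ), (∀ k, ∀ y ∈ F k, ρ x y - y ∈ F (k + J)) →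
      JumpAll (M := fun _ : Fin (r + 1) => Module.End (ZMod p) U)
        (fun _ => Representation.linHom ρ ρ) (fun _ => endFil F d) x J := by
    intro x J hx _ k A hA
    have h1 : JumpAll (M := fun _ : Unit => U) (fun _ => ρ) (fun _ => F) x J := fun _ => hx
    have h2 := JumpAll.inv (fun _ => hF) h1
    exact endFil_jump hF hx (h2 ()) hA
  have hfil := endFil_filData (d := d) hF h0 hd (Fin (r + 1))
  have hsumD : ∑ _l : Fin (r + 1), 2 * d = (r + 1) * (2 * d) := by
    rw [Finset.sum_const, Finset.card_univ, Fintype.card_fin, smul_eq_mul]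
  have hsumj : ∑ l : Fin (r + 1), (d - j l) + q = (r + 1) * d := by
    rw [← hjq, ← Finset.sum_add_distrib]
    have : ∀ l : Fin (r + 1), d - j l + j l = d := fun l => Nat.sub_add_cancel (hj l)
    simp_rw [this]
    rw [Finset.sum_const, Finset.card_univ, Fintype.card_fin, smul_eq_mul]
  have hXj : ∀ i, Deg F i (X ^ i) := by
    intro i
    have := hX.pow i
    rwa [mul_one] at this
  -- the key computation: two products with the same leading terms
  have hlead : ∀ (Z : Fin (r + 1) → Module.End (ZMod p) U) (α : ZMod p), α ≠ 0 →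
      (∀ l, Deg F (j l) (Z l)) → (∀ l, Deg F (j l + 1) (Z l - α ^ j l • X ^ j l)) →
      trForm Z - f ∈ mlFil (M := fun _ : Fin (r + 1) => Module.End (ZMod p) U)
        (fun _ => endFil F d) (fun _ => 2 * d) ((r + 1) * d + q + 1) := by
    intro Z α hα hZ hZX k A hA hk
    rw [MultilinearMap.sub_apply, hf, trForm_apply, trForm_apply, sub_eq_zero]
    rw [hsumD] at hk
    by_cases hcase : ∃ l, d + 1 ≤ k l + j l
    · obtain ⟨l, hl⟩ := hcase
      rw [Finset.prod_eq_zero (Finset.mem_univ l) (endFil_trace hF h0 hd (hA l) (hZ l) hl),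
        Finset.prod_eq_zero (Finset.mem_univ l) (endFil_trace hF h0 hd (hA l) (hXj (j l)) hl)]
    · push Not at hcase
      have hkl : ∀ l, k l = d - j l := by
        by_contra hne
        push Not at hne
        obtain ⟨l0, hl0⟩ := hne
        have h1 : ∑ l, k l < ∑ l : Fin (r + 1), (d - j l) := by
          apply Finset.sum_lt_sum
          · intro l _
            have := hcase l; have := hj l; omega
          · exact ⟨l0, Finset.mem_univ _, by have := hcase l0; have := hj l0; omega⟩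
        have h2 : (r + 1) * (2 * d) = (r + 1) * d + (r + 1) * d := by ring
        omega
      have h1 : ∀ l, LinearMap.trace (ZMod p) U (A l * Z l) =
          α ^ j l * LinearMap.trace (ZMod p) U (A l * X ^ j l) := by
        intro l
        have h2 := endFil_trace hF h0 hd (hA l) (hZX l)
          (by rw [hkl l]; have := hj l; omega)
        rw [mul_sub, map_sub, mul_smul_comm, map_smul, smul_eq_mul, sub_eq_zero] at h2
        exact h2
      simp_rw [h1]
      rw [Finset.prod_mul_distrib, Finset.prod_pow_eq_pow_sum, hjq, hq,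
        ZMod.pow_card_sub_one_eq_one hα, one_mul]
  -- average over `H`
  have hQfix : ∀ x ∈ Q, mlRep (fun _ : Fin (r + 1) => Representation.linHom ρ ρ) x f = f := by
    intro x hx
    rw [hf, rep_trForm]
    congr 1
    funext l
    have h1 : ∀ i : ℕ, ρ x * X ^ i * ρ x⁻¹ = X ^ i := by
      intro i
      induction i with
      | zero => rw [pow_zero, mul_one, ← map_mul, mul_inv_cancel, map_one]
      | succ i ih =>
        have e : ρ x * X ^ (i + 1) * ρ x⁻¹ = (ρ x * X ^ i * ρ x⁻¹) * (ρ x * X * ρ x⁻¹) := by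
          have e1 : ρ x⁻¹ * ρ x = 1 := by rw [← map_mul, inv_mul_cancel, map_one]
          calc ρ x * X ^ (i + 1) * ρ x⁻¹ = ρ x * X ^ i * 1 * X * ρ x⁻¹ := by
                rw [pow_succ, mul_one]; simp only [mul_assoc]
            _ = ρ x * X ^ i * (ρ x⁻¹ * ρ x) * X * ρ x⁻¹ := by rw [e1]
            _ = (ρ x * X ^ i * ρ x⁻¹) * (ρ x * X * ρ x⁻¹) := by simp only [mul_assoc]
        rw [e, ih, hXQ x hx, ← pow_succ]
    exact h1 (j l)
  have hHfix : ∀ h ∈ H, mlRep (fun _ : Fin (r + 1) => Representation.linHom ρ ρ) h f - f ∈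
      mlFil (M := fun _ : Fin (r + 1) => Module.End (ZMod p) U)
        (fun _ => endFil F d) (fun _ => 2 * d) ((r + 1) * d + q + 1) := by
    intro h hh
    obtain ⟨α, hα, hY1, hY2⟩ := hXH h hh
    rw [hf, rep_trForm]
    have h1 : ∀ i : ℕ, ρ h * X ^ i * ρ h⁻¹ = (ρ h * X * ρ h⁻¹) ^ i := by
      intro i
      have e1 : ρ h⁻¹ * ρ h = 1 := by rw [← map_mul, inv_mul_cancel, map_one]
      induction i with
      | zero => rw [pow_zero, mul_one, ← map_mul, mul_inv_cancel, map_one, pow_zero]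
      | succ i ih =>
        rw [pow_succ (ρ h * X * ρ h⁻¹), ← ih]
        calc ρ h * X ^ (i + 1) * ρ h⁻¹ = ρ h * X ^ i * 1 * X * ρ h⁻¹ := by
              rw [pow_succ, mul_one]; simp only [mul_assoc]
          _ = ρ h * X ^ i * (ρ h⁻¹ * ρ h) * X * ρ h⁻¹ := by rw [e1]
          _ = (ρ h * X ^ i * ρ h⁻¹) * (ρ h * X * ρ h⁻¹) := by simp only [mul_assoc]
    apply hlead _ α hα
    · intro l
      rw [h1]
      have := hY1.pow (j l)
      rwa [mul_one] at this
    · intro l
      rw [h1]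
      exact Deg.pow_sub hX hY1 hY2 (j l)
  obtain ⟨f1, hf1, hf1f⟩ := exists_average
    (mlRep (fun _ : Fin (r + 1) => Representation.linHom ρ ρ)) hQH hidx
    (mlFil (M := fun _ : Fin (r + 1) => Module.End (ZMod p) U)
        (fun _ => endFil F d) (fun _ => 2 * d) ((r + 1) * d + q + 1)) f hQfix hHfix
  obtain ⟨f', hf', hf'f1⟩ := ml_exists (fun _ : Fin (r + 1) => Representation.linHom ρ ρ)
    hfil hQH hfree (hQ.mono (fun x J hx => hjump x J hx)) (fun x hx => hjump x 0 (hinv x hx)) f1 hf1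
  have hf'f : f' - f ∈ mlFil (M := fun _ : Fin (r + 1) => Module.End (ZMod p) U)
        (fun _ => endFil F d) (fun _ => 2 * d) ((r + 1) * d + q + 1) := by
    have h1 : f' - f1 ∈ mlFil (M := fun _ : Fin (r + 1) => Module.End (ZMod p) U)
        (fun _ => endFil F d) (fun _ => 2 * d) ((r + 1) * d + q + 1) := by
      intro k A hA hk
      apply hf'f1 k A hA
      have h2 : q * 3 ≤ q * S := Nat.mul_le_mul_left q hS
      have h3 : (r + 1) * d = r * d + d := by ring
      rw [← hq]
      omega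
    have h2 := Submodule.add_mem _ h1 hf1f
    rwa [sub_add_sub_cancel] at h2
  have hff : f ∈ mlFil (M := fun _ : Fin (r + 1) => Module.End (ZMod p) U)
        (fun _ => endFil F d) (fun _ => 2 * d) ((r + 1) * d + q) := by
    intro k A hA hk
    rw [hf, trForm_apply]
    rw [hsumD] at hk
    by_cases hcase : ∃ l, d + 1 ≤ k l + j l
    · obtain ⟨l, hl⟩ := hcase
      exact Finset.prod_eq_zero (Finset.mem_univ l) (endFil_trace hF h0 hd (hA l) (hXj (j l)) hl)
    · exfalso
      push Not at hcase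
      have h1 : ∑ l, k l ≤ ∑ l : Fin (r + 1), (d - j l) := by
        apply Finset.sum_le_sum
        intro l _
        have := hcase l; have := hj l; omega
      have h2 : (r + 1) * (2 * d) = (r + 1) * d + (r + 1) * d := by ring
      omega
  have hf'fil : f' ∈ mlFil (M := fun _ : Fin (r + 1) => Module.End (ZMod p) U)
        (fun _ => endFil F d) (fun _ => 2 * d) ((r + 1) * d + q) := by
    have h1 : f' - f ∈ mlFil (M := fun _ : Fin (r + 1) => Module.End (ZMod p) U)
        (fun _ => endFil F d) (fun _ => 2 * d) ((r + 1) * d + q) := by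
      intro k A hA hk
      exact hf'f k A hA (by omega)
    have h2 := Submodule.add_mem _ h1 hff
    rwa [sub_add_cancel] at h2
  -- the test tuple
  obtain ⟨u0, hu0⟩ : ∃ u0, (X ^ d) u0 ≠ 0 := by
    by_contra hcon
    push Not at hcon
    exact hXd (LinearMap.ext hcon)
  have hXju : ∀ l, (X ^ j l) u0 ∉ F (j l + 1) := by
    intro l hmem
    apply hu0
    have h1 := hXj (d - j l) _ _ hmem
    rw [← Module.End.mul_apply, ← pow_add, Nat.sub_add_cancel (hj l),
      show j l + 1 + (d - j l) = d + 1 by have := hj l; omega, hd, Submodule.mem_bot] at h1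
    exact h1
  have hφ : ∀ l, ∃ φ : Dual (ZMod p) U, φ ((X ^ j l) u0) ≠ 0 ∧ ∀ w ∈ F (j l + 1), φ w = 0 := by
    intro l
    obtain ⟨φ, h1, h2⟩ := Submodule.exists_dual_map_eq_bot_of_notMem (hXju l) inferInstance
    refine ⟨φ, h1, fun w hw => ?_⟩
    have h3 : φ w ∈ (F (j l + 1)).map φ := Submodule.mem_map_of_mem hw
    rwa [h2, Submodule.mem_bot] at h3
  choose φ hφ1 hφ2 using hφ
  let A : Fin (r + 1) → Module.End (ZMod p) U := fun l => (φ l).smulRight u0
  have hA : ∀ l, A l ∈ endFil F d (d - j l) := by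
    intro l i u hu
    show φ l u • u0 ∈ _
    rcases Nat.lt_or_ge (j l) i with hi | hi
    · rw [hφ2 l u (hF hi hu), zero_smul]
      exact (F _).zero_mem
    · rw [show i + (d - j l) - d = 0 by have := hj l; omega, h0]
      trivial
  have hfA : f A ≠ 0 := by
    rw [hf, trForm_apply, Finset.prod_ne_zero_iff]
    intro l _
    have e : A l * X ^ j l = ((φ l) ∘ₗ (X ^ j l)).smulRight u0 := rfl
    rw [e, LinearMap.trace_smulRight]
    exact hφ1 l
  have hf'A : f' A ≠ 0 := by
    have h1 := hf'f (fun l => d - j l) A hA (by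
      rw [hsumD]
      have h2 : (r + 1) * (2 * d) = (r + 1) * d + (r + 1) * d := by ring
      omega)
    rw [MultilinearMap.sub_apply, sub_eq_zero] at h1
    rw [h1]
    exact hfA
  apply hf'A
  -- vanishing
  have hker : ∀ u : U, f' (Function.update A 0 ((φ 0).smulRight u)) = 0 := by
    let L : U →ₗ[ZMod p] ZMod p := (f'.toLinearMap A 0) ∘ₗ (LinearMap.smulRightₗ (φ 0))
    have hL : ∀ u, L u = f' (Function.update A 0 ((φ 0).smulRight u)) := fun _ => rfl
    have hker' : Submodule.span (ZMod p) (Set.range fun g => ρ g b) ≤ LinearMap.ker L := by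
      rw [Submodule.span_le]
      rintro _ ⟨g, rfl⟩
      show L (ρ g b) = 0
      rw [hL]
      have h1 : f' (Function.update A 0 ((φ 0).smulRight (ρ g b))) =
          mlRep (fun _ : Fin (r + 1) => Representation.linHom ρ ρ) g f'
            (Function.update A 0 ((φ 0).smulRight (ρ g b))) := by rw [hf' g]
      rw [h1, mlRep_apply]
      apply hf'fil (Function.update (fun _ => 0) 0 d)
      · intro l
        by_cases hl : l = 0
        · subst hl
          rw [Function.update_self, Function.update_self, Representation.linHom_apply]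
          intro i u hu
          rw [Nat.add_sub_cancel, LinearMap.comp_apply, LinearMap.comp_apply,
            LinearMap.smulRight_apply, map_smul, Representation.inv_self_apply]
          rcases Nat.lt_or_ge d i with hi | hi
          · have h3 : u ∈ F (d + 1) := hF hi hu
            rw [hd, Submodule.mem_bot] at h3
            rw [h3, map_zero, map_zero, zero_smul]
            exact (F _).zero_mem
          · exact (F _).smul_mem _ (hF hi hb)
        · rw [Function.update_of_ne hl]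
          exact (hfil.top l).ge Submodule.mem_top
      · rw [hsumD]
        have h3 : ∑ l, (Function.update (fun _ => 0) 0 d : Fin (r + 1) → ℕ) l = d := by
          rw [Finset.sum_update_of_mem (Finset.mem_univ _)]
          simp
        rw [h3]
        have h4 : (r + 1) * (2 * d) = (r + 1) * d + (r + 1) * d := by ring
        have h5 : (r + 1) * d = r * d + d := by ring
        omega
    intro u
    rw [← hL]
    have : u ∈ Submodule.span (ZMod p) (Set.range fun g => ρ g b) := by rw [hspan]; trivial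
    exact hker' this
  have h1 := hker u0
  have h2 : Function.update A 0 ((φ 0).smulRight u0) = A := Function.update_eq_self 0 A
  rwa [h2] at h1

end Leading

end Cfsg.Agent.H786
end

-- part: H786/CaseA3
section
/-!
# The core lemma, `p`-closed case with `W 2 ≤ E` (helper786)
-/

set_option autoImplicit false
set_option linter.unusedSectionVars false
set_option linter.deprecated false

namespace Cfsg.Agent.H786

open Subgroup Cfsg.Agent.H467.MaxClass Cfsg.Agent.H785 Module
open scoped commutatorElement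

universe u v

namespace Cfg

variable {P : Type u} [Group P] [Finite P] {p n : ℕ} [hp : Fact p.Prime] {W : ℕ → Subgroup P}
  [hW1 : (W 1).Normal] {A : Subgroup (MulAut (W 1))} {E V : Subgroup P} {Γ : Type v} [Group Γ]
  [Finite Γ] {ρ : Γ →* MulAut V} {H : Subgroup Γ} {τ : (normalizer (E : Set P)) →* Γ}

theorem Ksub_eq_all (c : Cfg p n W A E V ρ H τ) {i : ℕ} (h1 : 1 ≤ i) (h2 : i + 2 ≤ n) :
    c.mc.Ksub i = W 1 := by
  rcases Nat.lt_or_ge (i + 2) n with h | h
  · exact c.mc.Ksub_eq c.three_le h1 (by omega)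
  · have : i = n - 2 := by omega
    rw [this]
    exact c.Ksub_last

/-- elements outside `W 1` raise the index by exactly one -/
theorem comm_notMem (c : Cfg p n W A E V ρ H τ) {x : P} (hx : x ∉ W 1) {i : ℕ} (h1 : 1 ≤ i)
    (h2 : i + 2 ≤ n) {w : P} (hw : w ∈ W i) (hw' : w ∉ W (i + 1)) : ⁅x, w⁆ ∉ W (i + 2) := by
  intro h
  apply hx
  rw [← c.Ksub_eq_all h1 h2]
  have h3 : ⁅w, x⁆ ∈ W (i + 2) := by
    rw [← commutatorElement_inv]
    exact inv_mem h
  exact (c.mc.mem_K_iff (by omega) hw hw' x).mpr h3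

theorem E_eq_of_W2_le (c : Cfg p n W A E V ρ H τ) (h : W 2 ≤ E) : E = W 2 := by
  have h4 := c.mc.four_le
  have h1 := Subgroup.relIndex_mul_relIndex (W 2) E (W 1) h c.E_le
  rw [c.mc.relIndex 1 (by omega)] at h1
  have h2 : E.relIndex (W 1) ≠ 1 := by
    rw [Ne, Subgroup.relIndex_eq_one]
    intro h3
    exact c.E_ne (le_antisymm c.E_le h3)
  have h3 : E.relIndex (W 1) ∣ p := ⟨_, by rw [mul_comm]; exact h1.symm⟩
  have h5 : E.relIndex (W 1) = p := ((Nat.dvd_prime hp.out).mp h3).resolve_left h2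
  rw [h5] at h1
  have h6 : (W 2).relIndex E = 1 := by
    have := hp.out.pos
    exact Nat.eq_of_mul_eq_mul_right this (by rw [h1, one_mul])
  rw [Subgroup.relIndex_eq_one] at h6
  exact le_antisymm h6 h

instance instFiniteVM (c : Cfg p n W A E V ρ H τ) : Finite (VM c) := inferInstanceAs (Finite V)

/-- the span of the orbit of `b` -/
noncomputable def orb (c : Cfg p n W A E V ρ H τ) (b : VM c) : Submodule (ZMod p) (VM c) :=
  Submodule.span (ZMod p) (Set.range fun g => c.rep g b)

theorem orb_inv (c : Cfg p n W A E V ρ H τ) (b : VM c) (g : Γ) :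
    ∀ u ∈ c.orb b, c.rep g u ∈ c.orb b := by
  have h : c.orb b ≤ (c.orb b).comap (c.rep g) := by
    rw [orb, Submodule.span_le]
    rintro _ ⟨g', rfl⟩
    rw [SetLike.mem_coe, Submodule.mem_comap, ← Module.End.mul_apply, ← map_mul]
    exact Submodule.subset_span ⟨g * g', rfl⟩
  exact h

/-- the representation on the span of an orbit -/
noncomputable def orbRep (c : Cfg p n W A E V ρ H τ) (b : VM c) :
    Representation (ZMod p) Γ (c.orb b) where
  toFun g := (c.rep g).restrict (c.orb_inv b g)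
  map_one' := by
    apply LinearMap.ext
    intro u
    apply Subtype.ext
    show c.rep 1 (u : VM c) = u
    rw [map_one, Module.End.one_apply]
  map_mul' g g' := by
    apply LinearMap.ext
    intro u
    apply Subtype.ext
    show c.rep (g * g') (u : VM c) = c.rep g (c.rep g' u)
    rw [map_mul, Module.End.mul_apply]

theorem orbRep_coe (c : Cfg p n W A E V ρ H τ) (b : VM c) (g : Γ) (u : c.orb b) :
    ((c.orbRep b g u : c.orb b) : VM c) = c.rep g (u : VM c) := rfl

/-- `t = 2`. -/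
theorem caseA3 (c : Cfg p n W A E V ρ H τ) (hpc : PClosed A) (hWE : W 2 ≤ E) {a S : ℕ}
    (ha1 : 1 ≤ a) (hVa : V ≤ W a) (han : a < n) (haq : n - 1 - a ≤ p - 1) (hS : 3 ≤ S)
    (hQ : NChain p (c.Jp a) τ.range S) : GInv ρ (W (n - 1)) := by
  have h4 := c.mc.four_le
  have h5 := c.five
  have hEW : E = W 2 := c.E_eq_of_W2_le hWE
  have hTop : ∀ s : P, s ∈ normalizer (E : Set P) := by
    intro s
    have hn : (E : Subgroup P).Normal := by rw [hEW]; exact c.mc.normal 2
    rw [Subgroup.normalizer_eq_top]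
    trivial
  obtain ⟨φ, hφ⟩ := exists_coord c.mc
  obtain ⟨w0, hw0, hw01⟩ := hφ.exists_eq_one c.mc (i := n - 1) (by omega)
  have hw0V : w0 ∈ V := c.W_sub_one_le_V hw0
  have hw0ne : w0 ≠ 1 := by
    intro h
    have hinst : Fact (1 < p) := ⟨hp.out.one_lt⟩
    rw [h, hφ.one (by omega)] at hw01
    exact zero_ne_one hw01
  set b : VM c := c.ofV ⟨w0, hw0V⟩ with hb
  -- the subgroup of `P` given by the span
  let UP : Subgroup P :=
    { carrier := {x | ∃ h : x ∈ V, c.ofV ⟨x, h⟩ ∈ c.orb b}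
      one_mem' := ⟨one_mem _, (c.orb b).zero_mem⟩
      mul_mem' := by
        rintro x y ⟨hx, hx'⟩ ⟨hy, hy'⟩
        exact ⟨mul_mem hx hy, (c.orb b).add_mem hx' hy'⟩
      inv_mem' := by
        rintro x ⟨hx, hx'⟩
        exact ⟨inv_mem hx, (c.orb b).neg_mem hx'⟩ }
  have hUP : ∀ u : VM c, u ∈ c.orb b ↔ ((c.toV u : V) : P) ∈ UP := by
    intro u
    exact ⟨fun h => ⟨SetLike.coe_mem _, h⟩, fun ⟨_, h⟩ => h⟩
  have hUPV : UP ≤ V := fun x hx => hx.1
  have hUPn : UP.Normal := by
    refine ⟨fun x hx s => ?_⟩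
    have h1 := c.orb_inv b (τ ⟨s, hTop s⟩) _ hx.2
    rw [hUP] at h1
    have h2 : ((c.toV (c.rep (τ ⟨s, hTop s⟩) (c.ofV ⟨x, hx.1⟩)) : V) : P) = s * x * s⁻¹ :=
      c.ρτ ⟨s, hTop s⟩ ⟨x, hx.1⟩
    rwa [h2] at h1
  obtain ⟨v, hav, hvn, hUv⟩ := c.mc.exists_eq_W hUPn ha1 (hUPV.trans hVa) (by omega)
  have hbU : w0 ∈ UP := by
    refine ⟨hw0V, Submodule.subset_span ⟨1, ?_⟩⟩
    simp only
    rw [map_one, Module.End.one_apply]
  have hvn' : v < n := by
    rcases Nat.lt_or_ge v n with h | h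
    · exact h
    · exfalso
      rw [hUv, c.mc.bot_of_le h, mem_bot] at hbU
      exact hw0ne hbU
  rcases Nat.lt_or_ge v (n - 1) with hv | hv
  swap
  · -- the orbit spans `W (n - 1)`
    have hv' : v = n - 1 := by omega
    intro g e he
    rw [← hv', ← hUv] at he ⊢
    have h1 : c.ofV e ∈ c.orb b := he.2
    have h2 := c.orb_inv b g _ h1
    rw [hUP] at h2
    exact h2
  exfalso
  -- the element `x`
  obtain ⟨x, hx, hx1⟩ := hφ.exists_eq_one c.mc (i := 0) (by omega)
  have hxW1 : x ∉ W 1 := by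
    intro h
    have hinst : Fact (1 < p) := ⟨hp.out.one_lt⟩
    rw [(hφ.zero 0 (by omega) x hx).mpr h] at hx1
    exact zero_ne_one hx1
  set d := n - 1 - v with hd
  let F : ℕ → Submodule (ZMod p) (c.orb b) := fun k => (c.fil v k).comap (c.orb b).subtype
  have hF : ∀ (k : ℕ) (u : c.orb b), u ∈ F k ↔ ((c.toV (u : VM c) : V) : P) ∈ W (v + k) :=
    fun k u => Iff.rfl
  have hmemW : ∀ u : c.orb b, ((c.toV (u : VM c) : V) : P) ∈ W v := by
    intro u
    rw [← hUv, ← hUP]
    exact u.2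
  have hWv : ∀ y ∈ W v, ∃ u : c.orb b, ((c.toV (u : VM c) : V) : P) = y := by
    intro y hy
    rw [← hUv] at hy
    exact ⟨⟨c.ofV ⟨y, hy.1⟩, hy.2⟩, rfl⟩
  -- the coordinates of `(ρ s - 1) u`
  have hsub : ∀ (s : normalizer (E : Set P)) (u : c.orb b),
      ((c.toV ((c.orbRep b (τ s) u - u : c.orb b) : VM c) : V) : P) =
        ⁅(s : P), ((c.toV (u : VM c) : V) : P)⁆ := by
    intro s u
    have : ((c.orbRep b (τ s) u - u : c.orb b) : VM c) = c.rep (τ s) (u : VM c) - u := rfl
    rw [this, toV_rep_τ]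
  have hJ : ∀ (y : Γ) (J : ℕ), c.Jp a y J →
      ∀ k, ∀ u ∈ F k, c.orbRep b y u - u ∈ F (k + J) := by
    intro y J hy k u hu
    rw [hF] at hu ⊢
    have h1 : (u : VM c) ∈ c.fil a (v - a + k) := by
      rw [mem_fil, show a + (v - a + k) = v + k by omega]
      exact hu
    have h2 := hy _ _ h1
    rw [mem_fil, show a + (v - a + k + J) = v + (k + J) by omega] at h2
    exact h2
  set X : Module.End (ZMod p) (c.orb b) := c.orbRep b (τ ⟨x, hTop x⟩) - 1 with hX
  have hXv : ∀ u : c.orb b, ((c.toV ((X u : c.orb b) : VM c) : V) : P) =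
      ⁅x, ((c.toV (u : VM c) : V) : P)⁆ := fun u => hsub ⟨x, hTop x⟩ u
  have hX1 : Deg F 1 X := by
    intro i u hu
    rw [hF] at hu ⊢
    rw [hXv]
    exact c.mc.comm_mem' hu
  -- `X ^ d ≠ 0`
  have hXd : X ^ d ≠ 0 := by
    obtain ⟨y, hy, hy'⟩ := c.mc.ne_succ hvn'
    obtain ⟨u, hu⟩ := hWv y hy
    have key : ∀ j, v + j < n → ((c.toV (((X ^ j) u : c.orb b) : VM c) : V) : P) ∈ W (v + j) ∧
        ((c.toV (((X ^ j) u : c.orb b) : VM c) : V) : P) ∉ W (v + j + 1) := by
      intro j
      induction j with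
      | zero =>
        intro _
        rw [pow_zero, Module.End.one_apply, hu]
        exact ⟨hy, hy'⟩
      | succ j ih =>
        intro hj
        obtain ⟨h1, h2⟩ := ih (by omega)
        rw [pow_succ', Module.End.mul_apply, hXv]
        exact ⟨c.mc.comm_mem' h1, c.comm_notMem hxW1 (i := v + j) (by omega) (by omega) h1 h2⟩
    intro h0
    have h1 := (key d (by omega)).2
    apply h1
    rw [h0]
    exact one_mem _
  -- `Q` commutes with `X`
  have hXQ : ∀ y ∈ τ.range, c.orbRep b y * X * c.orbRep b y⁻¹ = X := by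
    rintro _ ⟨s, rfl⟩
    have h1 : τ s * τ ⟨x, hTop x⟩ * (τ s)⁻¹ = τ ⟨x, hTop x⟩ := by
      have h2 : τ (s * ⟨x, hTop x⟩ * s⁻¹ * (⟨x, hTop x⟩ : normalizer (E : Set P))⁻¹) = 1 := by
        rw [c.ker]
        have h3 : ⁅(s : P), x⁆ ∈ W 2 := by
          rw [← c.mc.comm_top]
          exact commutator_mem_commutator (mem_top _) (mem_top _)
        exact hWE h3
      rw [map_mul, map_mul, map_mul, map_inv, map_inv] at h2
      exact mul_inv_eq_one.mp h2
    have h2 : c.orbRep b (τ s) * c.orbRep b (τ ⟨x, hTop x⟩) * c.orbRep b (τ s)⁻¹ =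
        c.orbRep b (τ s * τ ⟨x, hTop x⟩ * (τ s)⁻¹) := by rw [map_mul, map_mul]
    have h3 : c.orbRep b (τ s) * c.orbRep b (τ s)⁻¹ = 1 := by
      rw [← map_mul, mul_inv_cancel, map_one]
    rw [hX, mul_sub, sub_mul, mul_one, h2, h3, h1]
  -- `H` normalizes `X` up to higher terms
  have hAW := hpc.aInv c.mc
  have hXH : ∀ h ∈ H, ∃ α : ZMod p, α ≠ 0 ∧ Deg F 1 (c.orbRep b h * X * c.orbRep b h⁻¹) ∧
      Deg F 2 (c.orbRep b h * X * c.orbRep b h⁻¹ - α • X) := by
    intro h hh
    obtain ⟨α, hα, -, hα2⟩ := c.ext_ap hh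
    obtain ⟨x', hx'⟩ := hpc.exists_conj hα x
    have hZ : ∀ u : c.orb b, ((c.toV (((c.orbRep b h * X * c.orbRep b h⁻¹) u : c.orb b) : VM c) : V) : P)
        = ⁅x', ((c.toV (u : VM c) : V) : P)⁆ := by
      intro u
      -- put `u = h u'`
      obtain ⟨u', rfl⟩ : ∃ u', u = c.orbRep b h u' := ⟨c.orbRep b h⁻¹ u, by
        rw [Representation.self_inv_apply]⟩
      rw [Module.End.mul_apply, Module.End.mul_apply, Representation.inv_self_apply]
      rw [hX, LinearMap.sub_apply, Module.End.one_apply, map_sub]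
      have e1 : ((c.orbRep b h (c.orbRep b (τ ⟨x, hTop x⟩) u') - c.orbRep b h u' : c.orb b) : VM c) =
          c.rep h (c.rep (τ ⟨x, hTop x⟩) (u' : VM c)) - c.rep h (u' : VM c) := rfl
      rw [e1, toV_sub, toV_rep, toV_rep, Subgroup.coe_mul, Subgroup.coe_inv, ← hα2]
      have e2 : ((c.toV ((c.orbRep b h u' : c.orb b) : VM c) : V) : P) =
          (ρ h (c.toV (u' : VM c)) : V) := rfl
      rw [e2, toV_rep, c.ρτ, ← hα2]
      have e3 := hx' _ (c.V_le (SetLike.coe_mem (c.toV (u' : VM c))))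
      have e4 : ((⟨x, hTop x⟩ : normalizer (E : Set P)) : P) = x := rfl
      rw [e4, e3, commutatorElement_def]
    have hx'0 : x' ∈ W 0 := by rw [c.mc.zero]; trivial
    have hx'W1 : x' ∉ W 1 := by
      intro hmem
      obtain ⟨w, hw, hw'⟩ := c.mc.ne_succ (i := n - 2) (by omega)
      have hwW1 : w ∈ W 1 := c.mc.antitone (by omega) hw
      have h1 := hx' w hwW1
      have h2 : ap α w ∈ W (n - 2) := aInv_iff.mp (hAW (n - 2) (by omega)) α hα w hwW1 hw
      have h3 : Commute x' (ap α w) := by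
        have h6 := c.deg (n - 2) 1 (by omega) le_rfl (commutator_mem_commutator h2 hmem)
        rw [c.mc.bot_of_le (i := n - 2 + 1 + 1) (by omega), mem_bot] at h6
        exact (commutatorElement_eq_one_iff_commute.mp h6).symm
      rw [h3.eq, mul_inv_cancel_right] at h1
      have h6 : x * w * x⁻¹ = w := by
        have h7 : x * w * x⁻¹ ∈ W 1 := hW1.conj_mem w hwW1 x
        rw [ap_of_mem α h7, ap_of_mem α hwW1] at h1
        have h8 := α.injective (Subtype.ext h1)
        exact congrArg Subtype.val h8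
      have h7 := c.comm_notMem hxW1 (i := n - 2) (by omega) (by omega) hw hw'
      apply h7
      rw [commutatorElement_def, h6, mul_inv_cancel]
      exact one_mem _
    have hφx' : φ 0 x' ≠ 0 := fun h0 => hx'W1 ((hφ.zero 0 (by omega) x' hx'0).mp h0)
    refine ⟨φ 0 x', hφx', ?_, ?_⟩
    · intro i u hu
      rw [hF] at hu ⊢
      rw [hZ]
      exact c.mc.comm_mem' hu
    · intro i u hu
      rw [hF] at hu ⊢
      have e1 : (((c.orbRep b h * X * c.orbRep b h⁻¹ - φ 0 x' • X) u : c.orb b) : VM c) =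
          (((c.orbRep b h * X * c.orbRep b h⁻¹) u : c.orb b) : VM c) -
            φ 0 x' • ((X u : c.orb b) : VM c) := rfl
      rw [e1, toV_sub, Subgroup.coe_mul, hZ, Subgroup.coe_inv, toV_smul, Subgroup.coe_pow, hXv]
      set y := ((c.toV (u : VM c) : V) : P) with hy
      have hm1 : ⁅x', y⁆ ∈ W (v + i + 1) := c.mc.comm_mem' hu
      have hm2 : ⁅x, y⁆ ∈ W (v + i + 1) := c.mc.comm_mem' hu
      rcases Nat.lt_or_ge (v + i + 1) n with hlt | hge
      · have h6 : ⁅x', y⁆ * (⁅x, y⁆ ^ (φ 0 x').val)⁻¹ ∈ W (v + i + 1) :=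
          mul_mem hm1 (inv_mem (pow_mem hm2 _))
        rw [show v + (i + 2) = v + i + 1 + 1 by ring, ← hφ.zero _ hlt _ h6,
          hφ.mul _ hlt _ hm1 _ (inv_mem (pow_mem hm2 _)), hφ.inv hlt (pow_mem hm2 _),
          hφ.pow hlt hm2, ZMod.natCast_val, ZMod.cast_id', id_eq]
        obtain ⟨β, hβ⟩ := hφ.pairing c.mc (i := v + i) (j := 0) (m := v + i + 1) (by omega)
          (by omega) hlt (by rw [c.mc.zero]; exact c.mc.comm_le _)
          (by rw [c.mc.zero]; exact c.mc.comm_le _) (c.deg (v + i) 1 (by omega) le_rfl)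
        have h7 : ∀ s ∈ W 0, φ (v + i + 1) ⁅s, y⁆ = - (β * φ (v + i) y * φ 0 s) := by
          intro s hs
          rw [← hβ y hu s hs, ← commutatorElement_inv s y, hφ.inv hlt, neg_neg]
          exact c.mc.comm_mem' hu
        rw [h7 x' hx'0, h7 x hx, hx1]
        ring
      · rw [c.mc.bot_of_le (i := v + (i + 2)) (by omega), mem_bot]
        rw [c.mc.bot_of_le (i := v + i + 1) (by omega), mem_bot] at hm1 hm2
        rw [hm1, hm2, one_pow, inv_one, mul_one]
  -- apply the lemma
  refine leading (c.orbRep b) (F := F) (d := d) ?_ ?_ ?_ c.se.le c.se.emb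
    (hQ.mono (fun y J hy => hJ y J hy)) (fun y hy => hJ y 0 (c.Jp_zero y hy)) hS (by omega)
    (by omega) X hX1 hXd hXQ hXH ?_ (b := ⟨b, Submodule.subset_span ⟨1, ?_⟩⟩) ?_ ?_
  · intro k k' hk u hu
    rw [hF] at hu ⊢
    exact c.mc.antitone (by omega) hu
  · rw [eq_top_iff]
    intro u _
    rw [hF, add_zero]
    exact hmemW u
  · rw [eq_bot_iff]
    intro u hu
    rw [hF, c.mc.bot_of_le (by omega), mem_bot] at hu
    rw [Submodule.mem_bot]
    exact Subtype.ext (c.toV_injective (Subtype.ext hu))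
  · intro hd
    exact c.sylowΓ (hd.trans (Subgroup.relIndex_dvd_index_of_le c.se.le))
  · simp only
    rw [map_one, Module.End.one_apply]
  · rw [hF]
    show w0 ∈ W (v + d)
    rw [show v + d = n - 1 by omega]
    exact hw0
  · have h1 := Submodule.span_span_coe_preimage (R := ZMod p) (s := Set.range fun g => c.rep g b)
    have h2 : (Set.range fun g => c.orbRep b g ⟨b, Submodule.subset_span ⟨1, by
        simp only
        rw [map_one, Module.End.one_apply]⟩⟩) =
        ((↑) : Submodule.span (ZMod p) (Set.range fun g => c.rep g b) → VM c) ⁻¹'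
          (Set.range fun g => c.rep g b) := by
      ext u
      constructor
      · rintro ⟨g, rfl⟩
        exact ⟨g, rfl⟩
      · rintro ⟨g, hg⟩
        exact ⟨g, Subtype.ext hg⟩
    rw [← h2] at h1
    exact h1

end Cfg

end Cfsg.Agent.H786
end

-- part: H786/CL
section
/-!
# The core lemma (helper786)
-/

set_option autoImplicit false
set_option linter.unusedSectionVars false

namespace Cfsg.Agent.H786

open Subgroup Cfsg.Agent.H467.MaxClass Cfsg.Agent.H785
open scoped commutatorElement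

universe u v

namespace Cfg

variable {P : Type u} [Group P] [Finite P] {p n : ℕ} [hp : Fact p.Prime] {W : ℕ → Subgroup P}
  [hW1 : (W 1).Normal] {A : Subgroup (MulAut (W 1))} {E V : Subgroup P} {Γ : Type v} [Group Γ]
  [Finite Γ] {ρ : Γ →* MulAut V} {H : Subgroup Γ} {τ : (normalizer (E : Set P)) →* Γ}

/-- there is an `A`-invariant `W i` central in `W 1` and inside `V` -/
theorem exists_omega (c : Cfg p n W A E V ρ H τ) :
    ∃ i, 1 ≤ i ∧ i < n ∧ W i ≤ V ∧ ⁅W i, W 1⁆ = ⊥ ∧ AInv A (W i) := by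
  have h4 := c.mc.four_le
  let Z : Subgroup P :=
    { carrier := {x | x ∈ W 1 ∧ x ^ p = 1 ∧ ∀ w ∈ W 1, Commute x w}
      one_mem' := ⟨one_mem _, one_pow _, fun w _ => Commute.one_left w⟩
      mul_mem' := by
        rintro x y ⟨hx, hxp, hxc⟩ ⟨hy, hyp, hyc⟩
        refine ⟨mul_mem hx hy, ?_, fun w hw => (hxc w hw).mul_left (hyc w hw)⟩
        rw [(hxc y hy).mul_pow, hxp, hyp, mul_one]
      inv_mem' := by
        rintro x ⟨hx, hxp, hxc⟩
        exact ⟨inv_mem hx, by rw [inv_pow, hxp, inv_one], fun w hw => (hxc w hw).inv_left⟩ }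
  have hZ : ∀ x, x ∈ Z ↔ x ∈ W 1 ∧ x ^ p = 1 ∧ ∀ w ∈ W 1, Commute x w := fun _ => Iff.rfl
  have hZn : Z.Normal := by
    refine ⟨fun x hx s => ?_⟩
    rw [hZ] at hx ⊢
    obtain ⟨h1, h2, h3⟩ := hx
    refine ⟨hW1.conj_mem x h1 s, ?_, fun w hw => ?_⟩
    · rw [conj_pow, h2, mul_one, mul_inv_cancel]
    · have h5 := h3 _ (hW1.conj_mem w hw s⁻¹)
      rw [inv_inv] at h5
      have h6 : s * (x * (s⁻¹ * w * s)) * s⁻¹ = s * (s⁻¹ * w * s * x) * s⁻¹ := by rw [h5.eq]
      show s * x * s⁻¹ * w = w * (s * x * s⁻¹)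
      calc s * x * s⁻¹ * w = s * (x * (s⁻¹ * w * s)) * s⁻¹ := by group
        _ = s * (s⁻¹ * w * s * x) * s⁻¹ := h6
        _ = w * (s * x * s⁻¹) := by group
  have hZle : Z ≤ W 1 := fun x hx => hx.1
  obtain ⟨i, hi1, hin, hZi⟩ := c.mc.exists_eq_W hZn le_rfl hZle (by omega)
  have hcen : ⁅W i, W 1⁆ = ⊥ := by
    rw [← hZi, eq_bot_iff, commutator_le]
    intro x hx w hw
    rw [mem_bot, commutatorElement_eq_one_iff_commute]
    exact hx.2.2 w hw
  have hin' : i < n := by
    rcases Nat.lt_or_ge i n with h | h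
    · exact h
    exfalso
    -- `W (n - 1) ≤ Z`
    have h5 : W (n - 1) ≤ Z := by
      intro x hx
      refine ⟨c.mc.antitone (by omega) hx, ?_, fun w _ => c.mc.center_le hx w⟩
      exact c.V_pow (c.W_sub_one_le_V hx)
    rw [hZi, c.mc.bot_of_le h] at h5
    exact c.mc.ne_bot (by omega) (eq_bot_iff.mpr h5)
  refine ⟨i, hi1, hin', c.le_V hcen (fun b hb => ?_), hcen, ?_⟩
  · rw [← hZi] at hb
    exact hb.2.1
  · rw [← hZi, aInv_iff]
    rintro α - x hx ⟨-, h2, h3⟩
    refine ⟨ap_mem α x, ?_, ?_⟩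
    · have h5 : ∀ k : ℕ, ap α (x ^ k) = ap α x ^ k := by
        intro k
        induction k with
        | zero => rw [pow_zero, pow_zero, ap_one]
        | succ k ih => rw [pow_succ, pow_succ, ap_mul α (pow_mem hx k) hx, ih]
      rw [← h5, h2, ap_one]
    · intro w hw
      obtain ⟨w', hw'⟩ := α.surjective ⟨w, hw⟩
      have h5 : w = ap α (w' : P) := by rw [ap_coe, hw']
      rw [h5]
      show ap α x * ap α (w' : P) = ap α (w' : P) * ap α x
      rw [← ap_mul α hx w'.2, ← ap_mul α w'.2 hx, (h3 w' w'.2).eq]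

/-- The core lemma, assuming that `N_P(E)/E` is faithful on `V` and the kernel of `Γ` on `V` lies in
`H`. -/
theorem concl_aux (c : Cfg p n W A E V ρ H τ)
    (hf : ∀ s ∈ normalizer (E : Set P), (∀ v ∈ V, Commute s v) → s ∈ E) (hρ : ρ.ker ≤ H) :
    Concl n W A V ρ := by
  have h4 := c.mc.four_le
  have h5 := c.five
  have hCV : ∀ s : P, (∀ v ∈ V, Commute s v) → s ∈ E := fun s hs => c.mem_E_of_commute hf hs
  obtain ⟨a, ha1, han, hVa, v, hvV, hva⟩ := c.exists_a
  obtain ⟨hDq, hDq'⟩ := c.range_le ha1 hvV (hVa hvV) hva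
  obtain ⟨t, ht2, htn, hWtE, z, hzW, hzE⟩ := c.exists_t
  have hWT : W (t - 1) ≤ normalizer (E : Set P) := fun s hs =>
    c.mem_T (by omega) (by rw [show t - 1 + 2 = t + 1 by omega]; exact (c.mc.le_succ t).trans hWtE) hs
  have hzT : z ∈ normalizer (E : Set P) := hWT hzW
  have hzt : z ∉ W t := fun h => hzE (hWtE h)
  -- `[W a, W t] = 1`
  have hbot : ⁅W a, W t⁆ = ⊥ := by
    have hCn : (Subgroup.centralizer (W t : Set P)).Normal := by
      have := c.mc.normal t
      infer_instance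
    have hWaC : W a ≤ Subgroup.centralizer (W t : Set P) := by
      have hN : (W a ⊓ Subgroup.centralizer (W t : Set P)).Normal := by
        have := c.mc.normal a
        infer_instance
      have h6 : W a ⊓ Subgroup.centralizer (W t : Set P) = W a := by
        apply c.mc.eq_W_of_normal hN ha1 inf_le_left
        intro h7
        apply hva
        apply h7
        exact ⟨hVa hvV, mem_centralizer_iff.mpr fun w hw => (c.V_comm hvV (hWtE hw)).eq⟩
      rw [← h6]
      exact inf_le_right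
    rw [eq_bot_iff, commutator_le]
    intro x hx w hw
    rw [mem_bot, commutatorElement_eq_one_iff_commute]
    have := mem_centralizer_iff.mp (hWaC hx) w hw
    exact this.symm
  have hzV : ∃ v ∈ V, ¬ Commute z v := by
    by_contra hcon
    push Not at hcon
    exact hzE (hCV z hcon)
  have hne : ⁅W a, W (t - 1)⁆ ≠ ⊥ := by
    intro h
    obtain ⟨v', hv', hnc⟩ := hzV
    apply hnc
    have h6 : ⁅v', z⁆ ∈ ⁅W a, W (t - 1)⁆ := commutator_mem_commutator (hVa hv') hzW
    rw [h, mem_bot] at h6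
    exact (commutatorElement_eq_one_iff_commute.mp h6).symm
  obtain ⟨κ, hκt', haκ, hκ, hκel, hκt⟩ := c.mc.D1 ha1 ht2 hbot hne
  have hκt := hκt c.deg
  -- jumps
  have hswap : ∀ {x y : P} {N : Subgroup P}, ⁅x, y⁆ ∈ N ↔ ⁅y, x⁆ ∈ N := by
    intro x y N
    rw [← commutatorElement_inv x y, inv_mem_iff]
  have hJz : c.Jp a (τ ⟨z, hzT⟩) κ := by
    apply c.Jp_τ
    intro i hi w hw
    rw [hswap, ← hκ i hi]
    exact commutator_mem_commutator hw hzW
  have hKbot : NChain p (c.Jp a) (Kj W E τ t) 0 := by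
    rw [c.Kj_bot hWtE]
    exact NChain.bot
  have hK1 : NChain p (c.Jp a) (Kj W E τ (t - 1)) κ := by
    have h6 := c.nchain_step (Jmp := c.Jp a) (j := t - 1) (S := 0) (J := κ) (by omega) hWT
      (by rw [show t - 1 + 1 = t by omega]; exact hKbot) (z := ⟨z, hzT⟩) hzW (by
        intro e he hmem
        rw [show t - 1 + 1 = t by omega] at hmem
        apply hzE
        have := mul_mem (hWtE hmem) (inv_mem he)
        rwa [mul_inv_cancel_right] at this) hJz
    rwa [zero_add] at h6
  have hrange : ∀ j, Kj W E τ j ≤ τ.range := fun j => by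
    rintro _ ⟨s, -, rfl⟩
    exact ⟨s, rfl⟩
  -- a chain with `S ≥ 3`
  have hchain : ∃ S, κ ≤ S ∧ 3 ≤ S ∧ (t = 2 → κ + 1 ≤ S) ∧ NChain p (c.Jp a) τ.range S := by
    rcases Nat.lt_or_ge 2 t with h | h
    · exact ⟨κ, le_rfl, by omega, by omega, hK1.le (hrange _)⟩
    · have ht : t = 2 := by omega
      have hEW : E = W 2 := c.E_eq_of_W2_le (by rw [← ht]; exact hWtE)
      have hTop : ∀ s : P, s ∈ normalizer (E : Set P) := by
        intro s
        have hn : (E : Subgroup P).Normal := by rw [hEW]; exact c.mc.normal 2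
        rw [Subgroup.normalizer_eq_top]
        trivial
      obtain ⟨x, hx, hx'⟩ := c.mc.ne_succ (i := 0) (by omega)
      refine ⟨κ + 1, by omega, by omega, fun _ => le_rfl, ?_⟩
      have h6 := c.nchain_step (Jmp := c.Jp a) (j := 0) (S := κ) (J := 1) (by omega)
        (fun s _ => hTop s) (by rw [show 0 + 1 = t - 1 by omega]; exact hK1) (z := ⟨x, hTop x⟩) hx (by
          intro e he hmem
          apply hx'
          have := mul_mem hmem (inv_mem (c.E_le he))
          rwa [mul_inv_cancel_right] at this) (by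
          apply c.Jp_τ
          intro i _ w hw
          exact c.mc.comm_mem' hw)
      exact h6.le (hrange _)
  obtain ⟨S, hκS, hS3, hS2, hQ⟩ := hchain
  have hpS : (p - 1) * 3 ≤ (p - 1) * S := Nat.mul_le_mul_left _ hS3
  -- conclusion from `W (n - 1)`
  have hcenZ : ⁅W (n - 1), W 1⁆ = ⊥ := by
    rw [eq_bot_iff, commutator_le]
    intro x hx w _
    rw [mem_bot, commutatorElement_eq_one_iff_commute]
    exact c.mc.center_le hx w
  have hfin : AInv A (W (n - 1)) → GInv ρ (W (n - 1)) → Concl n W A V ρ := fun h1 h2 =>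
    ⟨n - 1, by omega, by omega, c.W_sub_one_le_V, hcenZ, h1, h2⟩
  have hFermat : ∀ r : ZMod p, r ≠ 0 → r ^ (p - 1) = 1 := fun r hr =>
    ZMod.pow_card_sub_one_eq_one hr
  obtain ⟨φ, hφ⟩ := exists_coord c.mc
  by_cases hpc : PClosed A
  · have hAZ : AInv A (W (n - 1)) := hpc.aInv c.mc _ (by omega)
    apply hfin hAZ
    rcases Nat.lt_or_ge 2 t with ht3 | ht3
    swap
    · -- `t = 2`
      have ht : t = 2 := by omega
      exact c.caseA3 hpc (by rw [← ht]; exact hWtE) ha1 hVa (by omega) hDq hS3 hQ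
    have hWT2 : W (t - 2) ≤ normalizer (E : Set P) := fun s hs =>
      c.mem_T (by omega) (by rw [show t - 2 + 2 = t by omega]; exact hWtE) hs
    by_cases hE2 : ∃ e ∈ E, e ∈ W (t - 2) ∧ e ∉ W (t - 1)
    · -- (A1)
      obtain ⟨z1, hz1E, hz1W, hz1W'⟩ := hE2
      -- elements of `V` of larger index lie in `W (n - κ)`
      have hidx : ∀ w ∈ V, w ∈ W (a + 1) → ⁅z, w⁆ = 1 := by
        intro w hwV hwa
        by_cases hw1 : w = 1
        · rw [hw1, commutatorElement_one_right]
        -- index of `w`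
        obtain ⟨i, hi1, hi2, hi3⟩ : ∃ i, a + 1 ≤ i ∧ w ∈ W i ∧ w ∉ W (i + 1) := by
          classical
          have hex : ∃ j, w ∉ W (a + 1 + j) := ⟨n, by
            rw [c.mc.bot_of_le (by omega), mem_bot]; exact hw1⟩
          have h6 := Nat.find_spec hex
          have h7 : Nat.find hex ≠ 0 := by
            intro h8
            rw [h8] at h6
            exact h6 hwa
          have h8 := Nat.find_min hex (m := Nat.find hex - 1) (by omega)
          rw [not_not] at h8
          refine ⟨a + 1 + (Nat.find hex - 1), by omega, h8, ?_⟩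
          rwa [show a + 1 + (Nat.find hex - 1) + 1 = a + 1 + Nat.find hex by omega]
        have hiκ : n - 1 < i + κ := by
          by_contra hcon
          push Not at hcon
          exact c.mc.D2 c.three_le ha1 ht3 (by omega) hbot hκt' haκ hκ hκel hz1W hz1W'
            (i := a) (i' := i) le_rfl (by omega) hcon (hVa hvV) hva hi2 hi3
            (c.V_comm hvV hz1E).symm (c.V_comm hwV hz1E).symm
        have h6 : ⁅w, z⁆ ∈ W (i + κ) := by
          rw [← hκ i (by omega)]
          exact commutator_mem_commutator hi2 hzW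
        rw [c.mc.bot_of_le (by omega), hswap, mem_bot] at h6
        exact h6
      refine c.caseA1 hρ hpc (a := a) (κ := κ) ha1 hVa (by omega) haκ hDq (z := ⟨z, hzT⟩) ?_
        ⟨v, hvV, hva⟩ ?_ ?_
      · intro w hwV hwa
        exact commutatorElement_eq_one_iff_commute.mp (hidx w hwV hwa)
      · intro w hwV
        rw [hswap, ← hκ a le_rfl]
        exact commutator_mem_commutator (hVa hwV) hzW
      · intro w hwV hwa h6
        rw [hswap] at h6
        exact hκel a le_rfl haκ w (hVa hwV) hwa z hzW hzt h6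
    · -- (A2)
      push Not at hE2
      obtain ⟨z1, hz1W, hz1W'⟩ := c.mc.ne_succ (i := t - 2) (by omega)
      rw [show t - 2 + 1 = t - 1 by omega] at hz1W'
      have hz1T : z1 ∈ normalizer (E : Set P) := hWT2 hz1W
      have hz1e : ∀ e ∈ E, z1 * e ∉ W (t - 2 + 1) := by
        intro e he hmem
        rw [show t - 2 + 1 = t - 1 by omega] at hmem
        have h6 : e ∈ W (t - 2) := by
          have := mul_mem (inv_mem hz1W) (c.mc.antitone (show t - 2 ≤ t - 1 by omega) hmem)
          rwa [inv_mul_cancel_left] at this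
        have h7 := hE2 e he h6
        apply hz1W'
        have := mul_mem hmem (inv_mem h7)
        rwa [mul_inv_cancel_right] at this
      have hstep : ∀ d, (∀ i, a ≤ i → ⁅W i, W (t - 2)⁆ ≤ W (i + d)) →
          NChain p (c.Jp a) τ.range (κ + d) := by
        intro d hd
        have h6 := c.nchain_step (Jmp := c.Jp a) (j := t - 2) (S := κ) (J := d) (by omega) hWT2
          (by rw [show t - 2 + 1 = t - 1 by omega]; exact hK1) (z := ⟨z1, hz1T⟩) hz1W hz1e (by
            apply c.Jp_τ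
            intro i hi w hw
            rw [hswap]
            exact hd i hi (commutator_mem_commutator hw hz1W))
        exact h6.le (hrange _)
      rcases c.mc.D3 c.three_le ha1 ht3 (by omega) hbot hκt' haκ hκ hκel with ⟨hD, hd⟩ | ⟨d, hdt, hdκ, hd, hdel⟩
      · -- degree `κ - 1`
        have h6 := hstep (κ - 1) (fun i hi => by
          rw [show i + (κ - 1) = i + κ - 1 by omega]; exact hd i hi)
        refine c.ginv_of_pure hVa (by omega) (m := p - 1) (by omega) hAZ h6 ?_ hφ
          (fun h _ r hr _ => hFermat r hr)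
        apply Nat.mul_lt_mul_of_pos_left _ (by omega)
        omega
      · -- smaller degree
        have h6 := hstep d (fun i hi => (hd i hi).le)
        refine c.ginv_of_pure hVa (by omega) (m := κ - d - 1) (by omega) hAZ h6 ?_ hφ ?_
        · calc (κ - d - 1) * (n - 1 - a) ≤ (κ - d - 1) * (p - 1) := Nat.mul_le_mul_left _ hDq
            _ < (κ + d) * (p - 1) := Nat.mul_lt_mul_of_pos_right (by omega) (by omega)
            _ = (p - 1) * (κ + d) := mul_comm _ _
        · intro h hh r hr hr'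
          obtain ⟨α, hα, -, hα2⟩ := c.ext_ap hh
          obtain ⟨b, a0, hb0, ha00, hwt⟩ := hpc.weights hφ c.mc c.deg hα
          have hwt' : ∀ i, 1 ≤ i → i < n → ∀ w ∈ W i, φ i (ap α w) = b * a0 ^ (i - 1) * φ i w := by
            intro i hi hin w hw
            obtain ⟨j, rfl⟩ : ∃ j, i = j + 1 := ⟨i - 1, by omega⟩
            exact hwt j hin w hw
          have hAW := hpc.aInv c.mc
          -- the general pairing relation
          have hpair : ∀ s e, 1 ≤ s → s < n → a + e ≤ n - 1 → 1 ≤ e → ⁅W a, W s⁆ ≤ W (a + e) →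
              ⁅W (a + 1), W s⁆ ≤ W (a + e + 1) → ⁅W a, W (s + 1)⁆ ≤ W (a + e + 1) →
              (∃ w ∈ W a, ∃ y ∈ W s, ⁅w, y⁆ ∉ W (a + e + 1)) → a0 ^ e = b * a0 ^ (s - 1) := by
            intro s e hs1 hsn hae he1 e1 e2 e3 ⟨w, hw, y, hy, hwy⟩
            obtain ⟨β, hβ⟩ := hφ.pairing c.mc (i := a) (j := s) (m := a + e) (by omega) hsn
              (by omega) e1 e2 e3
            have hwW1 : w ∈ W 1 := c.mc.antitone ha1 hw
            have hyW1 : y ∈ W 1 := c.mc.antitone hs1 hy
            have hwy1 : ⁅w, y⁆ ∈ W (a + e) := e1 (commutator_mem_commutator hw hy)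
            have hne : φ (a + e) ⁅w, y⁆ ≠ 0 := fun h0 => hwy ((hφ.zero _ (by omega) _ hwy1).mp h0)
            have e4 := hwt' (a + e) (by omega) (by omega) _ hwy1
            rw [ap_comm α hwW1 hyW1] at e4
            have haw : ap α w ∈ W a := aInv_iff.mp (hAW a ha1) α hα w hwW1 hw
            have hay : ap α y ∈ W s := aInv_iff.mp (hAW s hs1) α hα y hyW1 hy
            rw [hβ _ haw _ hay, hwt' a ha1 (by omega) w hw, hwt' s hs1 hsn y hy] at e4
            have e5 : (b * a0 ^ (a - 1)) * (b * a0 ^ (s - 1)) * φ (a + e) ⁅w, y⁆ =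
                (b * a0 ^ (a - 1)) * a0 ^ e * φ (a + e) ⁅w, y⁆ := by
              have e6 : b * a0 ^ (a + e - 1) = (b * a0 ^ (a - 1)) * a0 ^ e := by
                rw [mul_assoc, ← pow_add]
                congr 2
                omega
              rw [← e6, ← e4, hβ w hw y hy]
              ring
            have e7 := mul_right_cancel₀ hne e5
            exact (mul_left_cancel₀ (mul_ne_zero hb0 (pow_ne_zero _ ha00)) e7).symm
          have r1 : a0 ^ κ = b * a0 ^ (t - 1 - 1) := by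
            apply hpair (t - 1) κ (by omega) (by omega) haκ (by omega) (hκ a le_rfl).le
            · rw [hκ (a + 1) (by omega), show a + 1 + κ = a + κ + 1 by omega]
            · rw [show t - 1 + 1 = t by omega, hbot]; exact bot_le
            · exact ⟨v, hVa hvV, z, hzW, hκel a le_rfl haκ v (hVa hvV) hva z hzW hzt⟩
          have r2 : a0 ^ d = b * a0 ^ (t - 2 - 1) := by
            apply hpair (t - 2) d (by omega) (by omega) (by omega) (by omega) (hd a le_rfl).le
            · rw [hd (a + 1) (by omega), show a + 1 + d = a + d + 1 by omega]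
            · rw [show t - 2 + 1 = t - 1 by omega, hκ a le_rfl]
              exact c.mc.antitone (by omega)
            · exact ⟨v, hVa hvV, z1, hz1W, hdel a le_rfl (by omega) v (hVa hvV) hva z1 hz1W hz1W'⟩
          have ham : a0 ^ (κ - d - 1) = 1 := by
            have e1 : a0 ^ κ = a0 ^ (d + 1) := by
              rw [r1, pow_succ, r2, mul_assoc, ← pow_succ]
              congr 2
              omega
            have e2 : a0 ^ (d + 1) * a0 ^ (κ - d - 1) = a0 ^ (d + 1) * 1 := by
              rw [← pow_add, mul_one, ← e1]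
              congr 1
              omega
            exact mul_left_cancel₀ (pow_ne_zero _ ha00) e2
          have hbm : b = a0 ^ (κ - (t - 2)) := by
            have e1 : b * a0 ^ (t - 2) = a0 ^ (κ - (t - 2)) * a0 ^ (t - 2) := by
              rw [← pow_add, show κ - (t - 2) + (t - 2) = κ by omega, r1]
              rfl
            exact mul_right_cancel₀ (pow_ne_zero _ ha00) e1
          -- `r` is the weight at `n - 1`
          obtain ⟨w, hw, hw1⟩ := hφ.exists_eq_one c.mc (i := n - 1) (by omega)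
          have e1 := hr' ⟨w, c.W_sub_one_le_V hw⟩ hw
          rw [← hα2] at e1
          have e2 := hwt' (n - 1) (by omega) (by omega) w hw
          have e3 : r = b * a0 ^ (n - 1 - 1) := by
            have e4 : r * φ (n - 1) w = b * a0 ^ (n - 1 - 1) * φ (n - 1) w := e1.symm.trans e2
            rwa [hw1, mul_one, mul_one] at e4
          rw [e3, hbm, ← pow_add, ← pow_mul, mul_comm, pow_mul, ham, one_pow]
  · -- not `p`-closed
    have hnab : ⁅W 1, W 1⁆ ≠ ⊥ := by
      intro h
      obtain ⟨v', hv', hnc⟩ := hzV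
      apply hnc
      have h6 : ⁅z, v'⁆ ∈ ⁅W 1, W 1⁆ :=
        commutator_mem_commutator (c.mc.antitone (by omega) hzW) (c.V_le hv')
      rw [h, mem_bot] at h6
      exact commutatorElement_eq_one_iff_commute.mp h6
    have hVΩ : p + 2 ≤ n → V ≤ W (n - (p - 1)) := by
      intro hn
      have := hDq' hn
      exact hVa.trans (c.mc.antitone (by omega))
    have hΩ : p + 2 ≤ n → ⁅W (n - (p - 1)), W 1⁆ ≠ ⊥ := by
      intro hn h
      obtain ⟨v', hv', hnc⟩ := hzV
      apply hnc
      have h6 : ⁅v', z⁆ ∈ ⁅W (n - (p - 1)), W 1⁆ :=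
        commutator_mem_commutator (hVΩ hn hv') (c.mc.antitone (by omega) hzW)
      rw [h, mem_bot] at h6
      exact (commutatorElement_eq_one_iff_commute.mp h6).symm
    rcases Cfsg.Agent.H779.Core.dual_or_special c.mc c.five c.deg c.conj_le c.sylow hnab hpc hΩ with
      ⟨i, hi1, hin, hAi, hci, hpi, θ, hθ, hθA⟩ | ⟨hn, h2, h1, hAZ⟩
    · have hiV : W i ≤ V := c.le_V hci hpi
      refine ⟨i, hi1, hin, hiV, hci, hAi, ?_⟩
      refine c.ginv_of_dual hVa (by omega) hiV hQ ?_ θ hθ hθA
      omega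
    · apply hfin hAZ
      have hW2E : W 2 ≤ E := by
        intro s hs
        apply hCV
        intro w hw
        have h6 : ⁅w, s⁆ ∈ ⁅W (n - (p - 1)), W 2⁆ := commutator_mem_commutator (hVΩ hn hw) hs
        rw [h2, mem_bot] at h6
        exact (commutatorElement_eq_one_iff_commute.mp h6).symm
      have ht : t = 2 := by
        by_contra hne2
        apply hzE
        apply hW2E
        exact c.mc.antitone (by omega) hzW
      have hκD : n - 1 - a ≤ κ := by
        have h6 : W (a + κ) ≤ W (n - 1) := by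
          rw [← hκ a le_rfl]
          have h7 : ⁅W a, W (t - 1)⁆ ≤ ⁅W (n - (p - 1)), W 1⁆ := by
            apply commutator_mono
            · have := hDq' hn
              exact c.mc.antitone (by omega)
            · exact c.mc.antitone (by omega)
          exact h7.trans h1
        have := (c.mc.le_iff (show a + κ < n by omega)).mp h6
        omega
      refine c.ginv_of_pure hVa (by omega) (m := p - 1) (by omega) hAZ hQ ?_ hφ
        (fun h _ r hr _ => hFermat r hr)
      apply Nat.mul_lt_mul_of_pos_left _ (by omega)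
      have := hS2 ht
      omega

/-- **The core lemma.** -/
theorem concl (c : Cfg p n W A E V ρ H τ) : Concl n W A V ρ := by
  obtain ⟨i, hi1, hin, hiV, hci, hAi⟩ := c.exists_omega
  by_cases hf : ∀ s ∈ normalizer (E : Set P), (∀ v ∈ V, Commute s v) → s ∈ E
  swap
  · push Not at hf
    obtain ⟨s, hsT, hsV, hsE⟩ := hf
    refine ⟨i, hi1, hin, hiV, hci, hAi, ?_⟩
    exact c.lemmaF (U := V) (fun g e _ => SetLike.coe_mem _) hiV hAi (s := ⟨s, hsT⟩) hsE hsV
  by_cases hK : H ⊔ ρ.ker = ⊤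
  · exact ⟨i, hi1, hin, hiV, hci, hAi, c.ginv_of_sup_ker hK hAi⟩
  · exact (c.supKer hK).concl_aux hf le_sup_right

end Cfg

end Cfsg.Agent.H786
end
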