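import Cfsg.Agent.H786.Weight
import Cfsg.Agent.H802.FusAlp
import Cfsg.Agent.EvenType.StrongP
set_option linter.all false

-- part: H786/CoreX
section
/-!
# The exceptional core configuration (helper786)
-/

set_option autoImplicit false

namespace Cfsg.Agent.H786

open Subgroup Cfsg.Agent.H467.MaxClass
open scoped commutatorElement

universe u v

/-- **The exceptional core configuration.** `P` is an exceptional `p`-group of maximal class with
chain `W`, `A` a group of automorphisms of `W 1` preserving `W (n - 1)`, with Sylow `p`-subgroup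
induced by `P`, `E < W 1` a centric subgroup, `B` a group of automorphisms of `E` with Sylow
`p`-subgroup induced by `N_P(E)`, and `H < B` strongly embedded modulo the inner automorphisms, every
element of `H` being the restriction of an element of `A`. -/
structure CfgX {P : Type u} [Group P] (p n : ℕ) (W : ℕ → Subgroup P) [(W 1).Normal]
    (A : Subgroup (MulAut (W 1))) (E : Subgroup P) (B H : Subgroup (MulAut E)) : Prop where
  mc : MC P p n W
  five : 5 ≤ p
  exc : mc.Ksub (n - 2) ≠ W 1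
  conj_le : conjGrp (W 1) ≤ A
  sylow : ¬ p ∣ (conjGrp (W 1)).relIndex A
  Z_inv : AInv A (W (n - 1))
  E_le : E ≤ W 1
  E_ne : E ≠ W 1
  cent : ∀ s : P, (∀ e ∈ E, Commute s e) → s ∈ E
  H_le : H ≤ B
  H_ne : H ≠ B
  conj_mem : ∀ s, E.normalizerMonoidHom s ∈ H
  sylowB : ¬ p ∣ (E.normalizerMonoidHom.range).relIndex B
  emb : ∀ g ∈ B, g ∉ H → ∀ s, g⁻¹ * E.normalizerMonoidHom s * g ∈ H → (s : P) ∈ E
  ext : ∀ h ∈ H, ∃ a ∈ A, ∀ e : E, ap a (e : P) = ((h e : E) : P)

/-- The centre `W (n - 1)` of `P` is invariant under `B ≤ Aut E`. -/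
def ZInv {P : Type u} [Group P] {E : Subgroup P} (B : Subgroup (MulAut E)) (Z : Subgroup P) : Prop :=
  ∀ g ∈ B, ∀ e : E, (e : P) ∈ Z → ((g e : E) : P) ∈ Z

end Cfsg.Agent.H786
end

-- part: H786/XData
section
/-!
# Data of the exceptional case after step (W3) (helper786)
-/

set_option autoImplicit false

namespace Cfsg.Agent.H786

open Subgroup Cfsg.Agent.H467.MaxClass
open scoped commutatorElement

universe u

/-- The data obtained in step (W3) of the exceptional case if `Z = W (n - 1)` is not invariant under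
`B`: `V0 = ⟨v⟩ Z` of order `p ^ 2` is `B`-invariant, `E = C_{W 1}(v)`, `z ∈ W (t - 1)` induces a
transvection on `V0` and `k ∈ H` is a torus element with eigenvalues `l` on `Z`, `l⁻¹` on `V0 / Z`. -/
structure XData {P : Type u} [Group P] (p n : ℕ) (W : ℕ → Subgroup P) (E : Subgroup P)
    (B H : Subgroup (MulAut E)) (a t l : ℕ) (v z : P) (k : MulAut E) : Prop where
  one_le_a : 1 ≤ a
  a_add_t : a + t = n
  three_le_t : 3 ≤ t
  Wt_le : W t ≤ E
  z_mem : z ∈ W (t - 1)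
  z_not : z ∉ E
  v_mem : v ∈ W a
  v_not : v ∉ W (a + 1)
  v_E : v ∈ E
  v_pow : v ^ p = 1
  E_iff : ∀ w ∈ W 1, w ∈ E ↔ Commute w v
  exists_e : ∃ y ∈ E, y ∈ W (t - 2) ∧ y ∉ W (t - 1)
  V0_inv : ZInv B (zpowers v ⊔ W (n - 1))
  not_inv : ¬ ZInv B (W (n - 1))
  k_H : k ∈ H
  k_Z : ∀ e : E, (e : P) ∈ W (n - 1) → k e = e ^ l
  k_V : ∀ e : E, (e : P) ∈ zpowers v ⊔ W (n - 1) → (((k e) ^ l * e⁻¹ : E) : P) ∈ W (n - 1)
  k_z : ∃ z' : P, z' * (z ^ (l ^ 2))⁻¹ ∈ E ∧
    ∀ e e' : E, (e' : P) = z * e * z⁻¹ → ((k e' : E) : P) = z' * (k e : E) * z'⁻¹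
  l_prim : ∀ m : ℕ, (l : ZMod p) ^ m = 1 → p - 1 ∣ m

end Cfsg.Agent.H786
end

-- part: H42/MaxEss/Act
section
/-!
# Tools for block III of S5267

* `SE.le_of_normal` : normal subgroups and strongly embedded subgroups;
* `exists_act` : the action induced on a subgroup of a quotient.
-/

set_option autoImplicit false

namespace Cfsg.Agent.H42.MaxEss

open Subgroup Cfsg.Agent.H786

universe u v

section SE

variable {p : ℕ} [hp : Fact p.Prime]

/-- a Sylow subgroup supplements a normal subgroup with quotient a `p`-group -/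
theorem sup_sylow_eq_top {C : Type*} [Group C] [Finite C] {N : Subgroup C} [N.Normal]
    (h : ∀ c : C, ∃ k : ℕ, c ^ p ^ k ∈ N) (Q : Sylow p C) : N ⊔ (Q : Subgroup C) = ⊤ := by
  have h1 : IsPGroup p (C ⧸ N) := by
    intro q
    obtain ⟨c, rfl⟩ := QuotientGroup.mk'_surjective N q
    obtain ⟨k, hk⟩ := h c
    refine ⟨k, ?_⟩
    rw [← map_pow]
    exact (QuotientGroup.eq_one_iff _).2 hk
  let Q' : Sylow p (C ⧸ N) := Q.mapSurjective (QuotientGroup.mk'_surjective N)
  have h2 : (⊤ : Subgroup (C ⧸ N)) = (Q' : Subgroup (C ⧸ N)) :=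
    Q'.is_maximal' (h1.to_subgroup ⊤) le_top
  have h3 : (Q' : Subgroup (C ⧸ N)) = (Q : Subgroup C).map (QuotientGroup.mk' N) := rfl
  rw [eq_top_iff]
  intro c _
  have h4 : QuotientGroup.mk' N c ∈ (Q : Subgroup C).map (QuotientGroup.mk' N) := by
    rw [← h3, ← h2]
    trivial
  obtain ⟨q, hq, hqc⟩ := h4
  have h5 : c * q⁻¹ ∈ N := by
    rw [← QuotientGroup.eq_one_iff]
    show QuotientGroup.mk' N (c * q⁻¹) = 1
    rw [map_mul, map_inv, hqc, mul_inv_cancel]
  have e : c = (c * q⁻¹) * q := by group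
  rw [e]
  exact mul_mem (mem_sup_left h5) (mem_sup_right hq)

variable {Γ : Type v} [Group Γ] [Finite Γ] {H R : Subgroup Γ}

/-- the supplement in terms of subgroups -/
theorem le_sup_of_sylow {N C : Subgroup Γ} [hN : N.Normal] (hC : ∀ c ∈ C, ∃ k : ℕ, c ^ p ^ k ∈ N) (Q : Sylow p C) :
    C ≤ N ⊔ (Q : Subgroup C).map C.subtype := by
  have h1 := sup_sylow_eq_top (N := N.subgroupOf C) (fun c => by
    obtain ⟨k, hk⟩ := hC c c.2
    refine ⟨k, ?_⟩
    rw [mem_subgroupOf]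
    exact hk) Q
  intro c hc
  have h2 : (⟨c, hc⟩ : C) ∈ N.subgroupOf C ⊔ (Q : Subgroup C) := by
    rw [h1]
    trivial
  have h3 : ((⟨c, hc⟩ : C) : Γ) ∈ (N.subgroupOf C ⊔ (Q : Subgroup C)).map C.subtype := ⟨_, h2, rfl⟩
  rw [Subgroup.map_sup] at h3
  have h4 : (N.subgroupOf C).map C.subtype ≤ N := by
    rintro _ ⟨x, hx, rfl⟩
    exact mem_subgroupOf.1 hx
  exact (sup_le_sup_right h4 ((Q : Subgroup C).map C.subtype) : _ ≤ _) h3

/-- **Normal subgroups and strongly embedded subgroups.** `N ≤ C` normal in `Γ`, `C/N` a `p`-group, `N ≤ H`: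
then `C ≤ H` and `C ∩ R = 1`. -/
theorem le_of_normal (h : SE p H R) {N C : Subgroup Γ} [hNn : N.Normal] [hCn : C.Normal] (hN : N ≤ H)
    (hC : ∀ c ∈ C, ∃ k : ℕ, c ^ p ^ k ∈ N) : C ≤ H ∧ ∀ r ∈ R, r ∈ C → r = 1 := by
  by_cases hex : ∃ r ∈ R, r ∈ C ∧ r ≠ 1
  · exfalso
    obtain ⟨r, hr, hrC, hr1⟩ := hex
    have hup : IsPGroup p (zpowers r) := h.pgroup.to_le (zpowers_le.mpr hr)
    have hup' : IsPGroup p ((zpowers r).subgroupOf C) := hup.comap_subtype
    obtain ⟨Q, hQ⟩ := hup'.exists_le_sylow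
    have hrQ : r ∈ (Q : Subgroup C).map C.subtype :=
      ⟨⟨r, hrC⟩, hQ (mem_subgroupOf.mpr (mem_zpowers r)), rfl⟩
    have hQH := h.pgroup_le (Q.isPGroup'.map _) (h.le hr) hrQ hr1
    have hCH : C ≤ H := (le_sup_of_sylow hC Q).trans (sup_le hN hQH)
    apply h.ne
    rw [eq_top_iff]
    intro g _
    obtain ⟨y, hy, k, hk, rfl⟩ := h.frattini hrC hr hr1 g
    exact mul_mem (hCH hy) hk
  · push Not at hex
    refine ⟨?_, hex⟩
    obtain ⟨Q⟩ : Nonempty (Sylow p C) := inferInstance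
    refine (le_sup_of_sylow hC Q).trans (sup_le hN ?_)
    obtain ⟨g, hg⟩ := h.exists_conj (Q.isPGroup'.map C.subtype)
    intro s hs
    have h1 : g⁻¹ * s * g ∈ C := by
      have h2 : s ∈ C := by
        obtain ⟨x, -, rfl⟩ := hs
        exact x.2
      have := hCn.conj_mem s h2 g⁻¹
      rwa [inv_inv] at this
    have h3 := hex _ (hg s hs) h1
    have h4 : s = 1 := by
      have e : s = g * (g⁻¹ * s * g) * g⁻¹ := by group
      rw [e, h3]
      group
    rw [h4]
    exact one_mem H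

end SE

section act

variable {X Q G : Type*} [Group X] [Group Q] [Group G]

/-- **The induced action.** -/
theorem exists_act (j : X →* Q) (V : Subgroup Q) (hV : V ≤ j.range) (ψ : G →* MulAut X)
    (h1 : ∀ g x, j x = 1 → j (ψ g x) = 1) (h2 : ∀ g x, j x ∈ V → j (ψ g x) ∈ V) :
    ∃ ρ : G →* MulAut V, ∀ g (v : V) x, j x = v → ((ρ g v : V) : Q) = j (ψ g x) := by
  have hex : ∀ v : V, ∃ x, j x = v := fun v => hV v.2
  choose c hc using hex
  have hwd : ∀ g x y, j x = j y → j (ψ g x) = j (ψ g y) := by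
    intro g x y hxy
    have h3 : j (x * y⁻¹) = 1 := by rw [map_mul, map_inv, hxy, mul_inv_cancel]
    have h4 := h1 g _ h3
    rw [map_mul, map_inv, map_mul, map_inv] at h4
    exact mul_inv_eq_one.1 h4
  let f : G → V → V := fun g v => ⟨j (ψ g (c v)), h2 g _ (by rw [hc]; exact v.2)⟩
  have hf : ∀ g (v : V) x, j x = v → ((f g v : V) : Q) = j (ψ g x) := by
    intro g v x hx
    exact hwd g _ _ ((hc v).trans hx.symm)
  have hmul : ∀ g h v, f (g * h) v = f g (f h v) := by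
    intro g h v
    apply Subtype.ext
    rw [hf (g * h) v (c v) (hc v), hf g (f h v) (ψ h (c v)) rfl, map_mul]
    rfl
  have hone : ∀ v, f 1 v = v := by
    intro v
    apply Subtype.ext
    rw [hf 1 v (c v) (hc v), map_one]
    exact hc v
  have hm : ∀ g v w, f g (v * w) = f g v * f g w := by
    intro g v w
    apply Subtype.ext
    have h3 : j (c v * c w) = ((v * w : V) : Q) := by
      rw [map_mul, hc, hc]
      rfl
    rw [hf g (v * w) (c v * c w) h3, map_mul, map_mul, Subgroup.coe_mul]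
  let F : G → MulAut V := fun g =>
    { toFun := f g
      invFun := f g⁻¹
      left_inv := fun v => by rw [← hmul, inv_mul_cancel, hone]
      right_inv := fun v => by rw [← hmul, mul_inv_cancel, hone]
      map_mul' := hm g }
  refine ⟨{ toFun := F
            map_one' := MulEquiv.ext hone
            map_mul' := fun g h => MulEquiv.ext fun v => hmul g h v }, fun g v x hx => hf g v x hx⟩

end act

end Cfsg.Agent.H42.MaxEss
end

-- part: H42/MaxEss/Stage
section
/-!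
# Block III of S5267: the stages

`Ess` : the group theoretic content of "`E` is essential, `E < M = W 1`, the extendable automorphisms of `E` come from
`Aut_F(M)`". `Stage j` : `W j ≤ E` is invariant under `Aut_F(E)` and `Aut_F(M)`, and the kernel of `Aut_F(E)` on
`E / W j` lies in the strongly embedded subgroup. `Stage.step`, `Stage.not_three`.
-/

set_option autoImplicit false

namespace Cfsg.Agent.H42.MaxEss

open Subgroup Cfsg.Agent.H786 Cfsg.Agent.H467.MaxClass
open scoped commutatorElement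

universe u

variable {P XM XE : Type u} [Group P] [Group XM] [Group XE]

/-- the inner automorphisms in `GE` -/
abbrev II (GE : Subgroup (MulAut XE)) : Subgroup GE := (Inn XE).subgroupOf GE

/-- `E` essential, `E < M = W 1` -/
structure Ess (p n : ℕ) (W : ℕ → Subgroup P) (ιM : XM →* P) (ιE : XE →* P) (GM : Subgroup (MulAut XM))
    (GE : Subgroup (MulAut XE)) (H : Subgroup (GE ⧸ II GE)) : Prop where
  mc : MC P p n W
  five : 5 ≤ p
  injM : Function.Injective ιM
  injE : Function.Injective ιE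
  rangeM : ιM.range = W 1
  rangeE : ιE.range ≤ W 1
  ne : ιE.range ≠ W 1
  conjM : ∀ s : P, ∃ a ∈ GM, ∀ x, ιM (a x) = s * ιM x * s⁻¹
  sylM : ∃ T : Sylow p GM, ∀ a : GM, a ∈ T → ∃ s : P, ∀ x, ιM ((a : MulAut XM) x) = s * ιM x * s⁻¹
  conjE : ∀ s ∈ normalizer (ιE.range : Set P), ∃ b ∈ GE, ∀ x, ιE (b x) = s * ιE x * s⁻¹
  sylE : ∃ T : Sylow p GE, ∀ b : GE, b ∈ T → ∃ s : P, ∀ x, ιE ((b : MulAut XE) x) = s * ιE x * s⁻¹
  centric : ∀ s : P, (∀ x, Commute s (ιE x)) → s ∈ ιE.range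
  mem_H : ∀ g : GE, (QuotientGroup.mk g : GE ⧸ II GE) ∈ H ↔
    ∃ a ∈ GM, ∀ x y, ιM x = ιE y → ιM (a x) = ιE ((g : MulAut XE) y)
  H_ne : H ≠ ⊤
  inter : ∀ γ : GE ⧸ II GE, γ ∉ H → ¬ p ∣ Nat.card ↥(H ⊓ H.map (MulAut.conj γ).toMonoidHom)

/-- stage `j` -/
structure Stage (W : ℕ → Subgroup P) (ιM : XM →* P) (ιE : XE →* P) (GM : Subgroup (MulAut XM))
    (GE : Subgroup (MulAut XE)) (H : Subgroup (GE ⧸ II GE)) (j : ℕ) : Prop where
  le : W j ≤ ιE.range
  invE : ∀ g : GE, ∀ x, ιE x ∈ W j → ιE ((g : MulAut XE) x) ∈ W j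
  invM : ∀ a ∈ GM, ∀ x, ιM x ∈ W j → ιM (a x) ∈ W j
  ker : ∀ g : GE, (∀ x, ιE ((g : MulAut XE) x) * (ιE x)⁻¹ ∈ W j) → (QuotientGroup.mk g : GE ⧸ II GE) ∈ H

variable {p n : ℕ} {W : ℕ → Subgroup P} {ιM : XM →* P} {ιE : XE →* P} {GM : Subgroup (MulAut XM)}
  {GE : Subgroup (MulAut XE)} {H : Subgroup (GE ⧸ II GE)}

theorem mem_normalizer_of_conj {ι : XE →* P} {b : MulAut XE} {s : P} (h : ∀ x, ι (b x) = s * ι x * s⁻¹) :
    s ∈ normalizer (ι.range : Set P) := by
  rw [mem_normalizer_iff]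
  intro y
  constructor
  · rintro ⟨x, rfl⟩
    exact ⟨b x, h x⟩
  · rintro ⟨x, hx⟩
    refine ⟨b.symm x, ?_⟩
    have h1 := h (b.symm x)
    rw [MulEquiv.apply_symm_apply, hx] at h1
    exact (mul_left_cancel (mul_right_cancel h1)).symm

namespace Ess

variable (e : Ess p n W ιM ιE GM GE H)
include e

/-- conjugation by the elements of the normaliser -/
theorem exists_tau0 : ∃ τ : normalizer (ιE.range : Set P) →* GE, ∀ s x,
    ιE (((τ s : GE) : MulAut XE) x) = (s : P) * ιE x * (s : P)⁻¹ := by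
  choose f hf using e.conjE
  refine ⟨{ toFun := fun s => ⟨f s s.2, (hf s s.2).1⟩
            map_one' := ?_
            map_mul' := ?_ }, fun s x => (hf s s.2).2 x⟩
  · apply Subtype.ext
    apply MulEquiv.ext
    intro x
    apply e.injE
    rw [(hf _ _).2]
    simp
  · intro s t
    apply Subtype.ext
    apply MulEquiv.ext
    intro x
    apply e.injE
    show ιE (f _ _ x) = ιE (f s s.2 (f t t.2 x))
    rw [(hf _ _).2, (hf _ _).2, (hf _ _).2, Subgroup.coe_mul]
    group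

omit e in
/-- inner automorphisms -/
theorem mem_II {g : GE} : g ∈ II GE ↔ ∃ y : XE, ∀ x, (g : MulAut XE) x = y * x * y⁻¹ := by
  rw [mem_subgroupOf]
  constructor
  · rintro ⟨y, hy⟩
    refine ⟨y, fun x => ?_⟩
    rw [← hy, MulAut.conj_apply]
  · rintro ⟨y, hy⟩
    exact ⟨y, MulEquiv.ext fun x => (by rw [MulAut.conj_apply, hy])⟩

/-- the kernel of `τ` -/
theorem tau_eq_one {τ : normalizer (ιE.range : Set P) →* GE}
    (hτ : ∀ s x, ιE (((τ s : GE) : MulAut XE) x) = (s : P) * ιE x * (s : P)⁻¹) (s : normalizer (ιE.range : Set P)) :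
    (QuotientGroup.mk (τ s) : GE ⧸ II GE) = 1 ↔ (s : P) ∈ ιE.range := by
  rw [QuotientGroup.eq_one_iff, mem_II]
  constructor
  · rintro ⟨y, hy⟩
    have h1 : (ιE y)⁻¹ * s ∈ ιE.range := by
      apply e.centric
      intro x
      have h2 := hτ s x
      rw [hy, map_mul, map_mul, map_inv] at h2
      have h3 : (ιE y)⁻¹ * (s : P) * ιE x = ιE x * ((ιE y)⁻¹ * s) := by
        calc (ιE y)⁻¹ * (s : P) * ιE x = (ιE y)⁻¹ * (s * ιE x * (s : P)⁻¹) * s := by group
          _ = _ := by rw [← h2]; group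
      exact h3
    have e1 : (s : P) = ιE y * ((ιE y)⁻¹ * s) := by group
    rw [e1]
    exact mul_mem ⟨y, rfl⟩ h1
  · rintro ⟨y, hy⟩
    refine ⟨y, fun x => e.injE ?_⟩
    rw [hτ, ← hy, map_mul, map_mul, map_inv]

variable [Finite P] [Finite XE] [hp : Fact p.Prime]

theorem pgroup : IsPGroup p P := IsPGroup.of_card e.mc.card_group

/-- the strongly embedded subgroup in the form of `H786.SE` -/
theorem se {τ : normalizer (ιE.range : Set P) →* GE}
    (hτ : ∀ s x, ιE (((τ s : GE) : MulAut XE) x) = (s : P) * ιE x * (s : P)⁻¹) :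
    SE p H (((QuotientGroup.mk' (II GE)).comp τ).range) where
  le := by
    rintro _ ⟨s, rfl⟩
    show (QuotientGroup.mk (τ s) : GE ⧸ II GE) ∈ H
    rw [e.mem_H]
    obtain ⟨a, ha, h1⟩ := e.conjM s
    exact ⟨a, ha, fun x y hxy => by rw [h1, hτ, hxy]⟩
  pgroup := (e.pgroup.to_subgroup _).of_surjective ((QuotientGroup.mk' (II GE)).comp τ).rangeRestrict
    ((QuotientGroup.mk' (II GE)).comp τ).rangeRestrict_surjective
  index := by
    obtain ⟨T, hT⟩ := e.sylE
    intro hd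
    apply T.not_dvd_index
    refine hd.trans ((Subgroup.index_dvd_of_le (H := (T : Subgroup GE).map (QuotientGroup.mk' (II GE))) ?_).trans
      ((T : Subgroup GE).index_map_dvd (QuotientGroup.mk'_surjective _)))
    rintro _ ⟨b, hb, rfl⟩
    obtain ⟨s, hs⟩ := hT b hb
    refine ⟨⟨s, mem_normalizer_of_conj hs⟩, ?_⟩
    show QuotientGroup.mk' (II GE) (τ _) = QuotientGroup.mk' (II GE) b
    congr 1
    apply Subtype.ext
    apply MulEquiv.ext
    intro x
    apply e.injE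
    rw [hτ, hs]
  emb := by
    rintro γ hγ u ⟨s, rfl⟩ hu
    by_contra hne
    apply e.inter γ hγ
    set r := ((QuotientGroup.mk' (II GE)).comp τ) s with hr
    have hrH : r ∈ H := by
      show (QuotientGroup.mk (τ s) : GE ⧸ II GE) ∈ H
      rw [e.mem_H]
      obtain ⟨a, ha, h1⟩ := e.conjM s
      exact ⟨a, ha, fun x y hxy => by rw [h1, hτ, hxy]⟩
    have hmem : r ∈ H ⊓ H.map (MulAut.conj γ).toMonoidHom :=
      ⟨hrH, Cfsg.Agent.EvenType.StrongP.mem_map_conj.2 hu⟩
    have h2 : orderOf r ∣ Nat.card ↥(H ⊓ H.map (MulAut.conj γ).toMonoidHom) := by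
      rw [← Nat.card_zpowers]
      exact Subgroup.card_dvd_of_le (zpowers_le.2 hmem)
    refine dvd_trans ?_ h2
    have h3 : IsPGroup p ↥(((QuotientGroup.mk' (II GE)).comp τ).range) :=
      (e.pgroup.to_subgroup _).of_surjective ((QuotientGroup.mk' (II GE)).comp τ).rangeRestrict
        ((QuotientGroup.mk' (II GE)).comp τ).rangeRestrict_surjective
    obtain ⟨k, hk⟩ := h3 ⟨r, ⟨s, rfl⟩⟩
    have hk' : r ^ p ^ k = 1 := congrArg Subtype.val hk
    obtain ⟨l, hl, hl'⟩ := (Nat.dvd_prime_pow hp.out).1 (orderOf_dvd_of_pow_eq_one hk')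
    rw [hl']
    refine dvd_pow_self p ?_
    rintro rfl
    rw [pow_zero, orderOf_eq_one_iff] at hl'
    exact hne hl'
  ne := e.H_ne

/-! ### the kernels -/

omit e hp [Finite P] [Finite XE] in
/-- the kernel of `GE` on `E / W i` -/
theorem exists_K {i : ℕ} (hn : (W i).Normal) (hinv : ∀ g : GE, ∀ x, ιE x ∈ W i → ιE ((g : MulAut XE) x) ∈ W i) :
    ∃ K : Subgroup GE, K.Normal ∧ ∀ g : GE, g ∈ K ↔ ∀ x, ιE ((g : MulAut XE) x) * (ιE x)⁻¹ ∈ W i := by
  refine ⟨{ carrier := {g | ∀ x, ιE ((g : MulAut XE) x) * (ιE x)⁻¹ ∈ W i}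
            one_mem' := fun x => by simp
            mul_mem' := ?_
            inv_mem' := ?_ }, ⟨?_⟩, fun g => Iff.rfl⟩
  · intro g h hg hh x
    have e1 : ιE (((g * h : GE) : MulAut XE) x) * (ιE x)⁻¹ =
        (ιE ((g : MulAut XE) ((h : MulAut XE) x)) * (ιE ((h : MulAut XE) x))⁻¹) *
          (ιE ((h : MulAut XE) x) * (ιE x)⁻¹) := by
      rw [Subgroup.coe_mul, MulAut.mul_apply]; group
    rw [e1]
    exact mul_mem (hg _) (hh _)
  · intro g hg x
    have h1 := hg ((g : MulAut XE)⁻¹ x)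
    have h2 : (g : MulAut XE) ((g : MulAut XE)⁻¹ x) = x := by
      rw [← MulAut.mul_apply, mul_inv_cancel]; rfl
    rw [h2] at h1
    have h3 := inv_mem h1
    rw [mul_inv_rev, inv_inv] at h3
    exact h3
  · intro k hk g x
    have h2 : (g : MulAut XE) ((g : MulAut XE)⁻¹ x) = x := by
      rw [← MulAut.mul_apply, mul_inv_cancel]; rfl
    have h3 := hk ((g : MulAut XE)⁻¹ x)
    rw [← map_inv, ← map_mul] at h3
    have h4 := hinv g _ h3
    have e1 : ((g * k * g⁻¹ : GE) : MulAut XE) x = (g : MulAut XE) ((k : MulAut XE) ((g : MulAut XE)⁻¹ x)) := rfl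
    have e2 : ιE (((g * k * g⁻¹ : GE) : MulAut XE) x) * (ιE x)⁻¹ =
        ιE ((g : MulAut XE) ((k : MulAut XE) ((g : MulAut XE)⁻¹ x) * ((g : MulAut XE)⁻¹ x)⁻¹)) := by
      rw [e1, map_mul (g : MulAut XE), map_mul, map_inv (g : MulAut XE), h2, map_inv]
    rw [e2]
    exact h4

end Ess

namespace Stage

variable [Finite P] [Finite XE] [hp : Fact p.Prime]

/-- stage `n` holds -/
theorem top (e : Ess p n W ιM ιE GM GE H) : Stage W ιM ιE GM GE H n where
  le := by rw [e.mc.bot]; exact bot_le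
  invE := by
    intro g x hx
    rw [e.mc.bot, mem_bot] at hx ⊢
    have h1 : x = 1 := e.injE (hx.trans (map_one ιE).symm)
    rw [h1, map_one, map_one]
  invM := by
    intro g _ x hx
    rw [e.mc.bot, mem_bot] at hx ⊢
    have h1 : x = 1 := e.injM (hx.trans (map_one ιM).symm)
    rw [h1, map_one, map_one]
  ker := by
    intro g hg
    have h1 : g = 1 := by
      apply Subtype.ext
      apply MulEquiv.ext
      intro x
      have := hg x
      rw [e.mc.bot, mem_bot] at this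
      exact e.injE (mul_inv_eq_one.1 this)
    rw [h1]
    exact one_mem H

/-- `E / W j` is centric in `P / W j` -/
theorem star (e : Ess p n W ιM ιE GM GE H) {j : ℕ} (hs : Stage W ιM ιE GM GE H j) {s : P}
    (h : ∀ x, s * ιE x * s⁻¹ * (ιE x)⁻¹ ∈ W j) : s ∈ ιE.range := by
  have hnj := e.mc.normal j
  obtain ⟨τ, hτ⟩ := e.exists_tau0
  obtain ⟨K, hKn, hK⟩ := Ess.exists_K hnj hs.invE
  have hKH : K.map (QuotientGroup.mk' (II GE)) ≤ H := by
    rintro _ ⟨g, hg, rfl⟩
    exact hs.ker g ((hK g).1 hg)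
  have hKn' : (K.map (QuotientGroup.mk' (II GE))).Normal := hKn.map _ (QuotientGroup.mk'_surjective _)
  obtain ⟨-, h2⟩ := le_of_normal (e.se hτ) (N := K.map (QuotientGroup.mk' (II GE)))
    (C := K.map (QuotientGroup.mk' (II GE))) hKH (fun c hc => ⟨0, by simpa using hc⟩)
  have h' : ∀ y ∈ ιE.range, s * y * s⁻¹ * y⁻¹ ∈ W j := by
    rintro _ ⟨x, rfl⟩
    exact h x
  have hsn : s ∈ normalizer (ιE.range : Set P) := by
    rw [mem_normalizer_iff]
    intro y
    constructor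
    · intro hy
      have e1 : s * y * s⁻¹ = (s * y * s⁻¹ * y⁻¹) * y := by group
      rw [e1]
      exact mul_mem (hs.le (h' y hy)) hy
    · intro hy
      have h3 := hnj.conj_mem _ (h' _ hy) s⁻¹
      -- `s⁻¹ [s, z] s = z (s⁻¹ z⁻¹ s)`, `z = s y s⁻¹`
      have e1 : s⁻¹ * (s * (s * y * s⁻¹) * s⁻¹ * (s * y * s⁻¹)⁻¹) * s⁻¹⁻¹ = (s * y * s⁻¹) * y⁻¹ := by group
      rw [e1] at h3
      have e2 : y = ((s * y * s⁻¹) * y⁻¹)⁻¹ * (s * y * s⁻¹) := by group
      rw [e2]
      exact mul_mem (inv_mem (hs.le h3)) hy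
  rw [← e.tau_eq_one hτ ⟨s, hsn⟩]
  refine h2 _ ⟨⟨s, hsn⟩, rfl⟩ ⟨τ ⟨s, hsn⟩, (hK _).2 fun x => ?_, rfl⟩
  rw [hτ]
  exact h x

/-- **The base case.** -/
theorem not_abelian (e : Ess p n W ιM ιE GM GE H) {j : ℕ} (hs : Stage W ιM ιE GM GE H j)
    (h : ⁅W 1, W 1⁆ ≤ W j) : False := by
  apply e.ne
  apply le_antisymm e.rangeE
  intro s hs1
  exact hs.star e fun x => h (commutator_mem_commutator hs1 (e.rangeE ⟨x, rfl⟩))

/-- **The step.** -/
theorem step (e : Ess p n W ιM ιE GM GE H) {i j : ℕ} (hs : Stage W ιM ιE GM GE H j) (hij : i ≤ j)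
    (hle : W i ≤ ιE.range) (invE : ∀ g : GE, ∀ x, ιE x ∈ W i → ιE ((g : MulAut XE) x) ∈ W i)
    (invM : ∀ a ∈ GM, ∀ x, ιM x ∈ W i → ιM (a x) ∈ W i) (hc : ⁅W i, W 1⁆ ≤ W j) :
    Stage W ιM ιE GM GE H i := by
  have hnj := e.mc.normal j
  have hni := e.mc.normal i
  have hji : W j ≤ W i := e.mc.antitone hij
  obtain ⟨τ, hτ⟩ := e.exists_tau0
  obtain ⟨Kj, hKjn, hKj⟩ := Ess.exists_K hnj hs.invE
  obtain ⟨Ki, hKin, hKi⟩ := Ess.exists_K hni invE
  -- the quotient map
  set q := QuotientGroup.mk' (W j) with hq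
  let θ : XE →* P ⧸ W j := q.comp ιE
  have hθ1 : ∀ x, θ x = 1 ↔ ιE x ∈ W j := fun x => QuotientGroup.eq_one_iff _
  have hθd : ∀ x y : XE, θ x = θ y ↔ ιE x * (ιE y)⁻¹ ∈ W j := by
    intro x y
    rw [← mul_inv_eq_one, ← map_inv, ← map_mul, hθ1, map_mul, map_inv]
  have hθg : ∀ (g : GE) (x y : XE), θ x = θ y → θ ((g : MulAut XE) x) = θ ((g : MulAut XE) y) := by
    intro g x y hxy
    rw [hθd, ← map_inv, ← map_mul] at hxy
    have h1 := hs.invE g _ hxy
    rw [map_mul, map_inv, map_mul, map_inv] at h1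
    exact (hθd _ _).2 h1
  -- the elements acting trivially on `W i / W j` and `E / W i`
  let C : Subgroup GE :=
    { carrier := {g | g ∈ Ki ∧ ∀ x, ιE x ∈ W i → θ ((g : MulAut XE) x) = θ x}
      one_mem' := ⟨one_mem _, fun x _ => rfl⟩
      mul_mem' := by
        rintro g h ⟨hg, hg'⟩ ⟨hh, hh'⟩
        refine ⟨mul_mem hg hh, fun x hx => ?_⟩
        show θ ((g : MulAut XE) ((h : MulAut XE) x)) = θ x
        rw [hg' _ (invE h x hx), hh' x hx]
      inv_mem' := by
        rintro g ⟨hg, hg'⟩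
        refine ⟨inv_mem hg, fun x hx => ?_⟩
        have h1 := hg' _ (invE g⁻¹ x hx)
        have h2 : (g : MulAut XE) (((g⁻¹ : GE) : MulAut XE) x) = x := by
          show ((g * g⁻¹ : GE) : MulAut XE) x = x
          rw [mul_inv_cancel]; rfl
        rw [h2] at h1
        exact h1.symm }
  have hC : ∀ g, g ∈ C ↔ g ∈ Ki ∧ ∀ x, ιE x ∈ W i → θ ((g : MulAut XE) x) = θ x := fun g => Iff.rfl
  have hCn : C.Normal := by
    constructor
    rintro k ⟨hk, hk'⟩ g
    refine ⟨hKin.conj_mem k hk g, fun x hx => ?_⟩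
    have h1 := hk' _ (invE g⁻¹ x hx)
    have h2 := hθg g _ _ h1
    have h3 : (g : MulAut XE) (((g⁻¹ : GE) : MulAut XE) x) = x := by
      show ((g * g⁻¹ : GE) : MulAut XE) x = x
      rw [mul_inv_cancel]; rfl
    rw [h3] at h2
    exact h2
  -- `C / Kj` is a `p`-group
  have hpow : ∀ g ∈ C, g ^ p ^ n ∈ Kj := by
    intro g hg
    have key : ∀ m : ℕ, ∀ x w : XE, ιE w ∈ W i → (g : MulAut XE) x = w * x →
        θ (((g ^ m : GE) : MulAut XE) x) = θ w ^ m * θ x := by
      intro m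
      induction m with
      | zero => intro x w _ _; rw [pow_zero, pow_zero, one_mul]; rfl
      | succ m ih =>
        intro x w hw hx
        have e1 : ((g ^ (m + 1) : GE) : MulAut XE) x = ((g ^ m : GE) : MulAut XE) ((g : MulAut XE) x) := rfl
        rw [e1, hx, map_mul, map_mul, ih x w hw hx, ((hC _).1 (pow_mem hg m)).2 w hw, pow_succ', mul_assoc]
    rw [hKj]
    intro x
    have hw : ιE ((g : MulAut XE) x * x⁻¹) ∈ W i := by
      rw [map_mul, map_inv]
      exact (hKi g).1 ((hC g).1 hg).1 x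
    have h1 := key (p ^ n) x _ hw (by group)
    have h2 : θ ((g : MulAut XE) x * x⁻¹) ^ p ^ n = 1 := by
      have h3 : ιE ((g : MulAut XE) x * x⁻¹) ^ p ^ n = 1 := by
        rw [← e.mc.card_group]
        exact pow_card_eq_one'
      show (q (ιE _)) ^ p ^ n = 1
      rw [← map_pow, h3, map_one]
    rw [h2, one_mul] at h1
    exact (hθd _ _).1 h1
  have hKjH : Kj.map (QuotientGroup.mk' (II GE)) ≤ H := by
    rintro _ ⟨g, hg, rfl⟩
    exact hs.ker g ((hKj g).1 hg)
  have hKjn' : (Kj.map (QuotientGroup.mk' (II GE))).Normal := hKjn.map _ (QuotientGroup.mk'_surjective _)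
  have hCn' : (C.map (QuotientGroup.mk' (II GE))).Normal := hCn.map _ (QuotientGroup.mk'_surjective _)
  have hse := e.se hτ
  obtain ⟨hCH, -⟩ := le_of_normal hse (N := Kj.map (QuotientGroup.mk' (II GE)))
    (C := C.map (QuotientGroup.mk' (II GE))) hKjH (by
      rintro _ ⟨g, hg, rfl⟩
      exact ⟨n, ⟨g ^ p ^ n, hpow g hg, map_pow _ _ _⟩⟩)
  refine ⟨hle, invE, invM, fun k hk => ?_⟩
  have hkK : k ∈ Ki := (hKi k).2 hk
  -- an element of `N_M(E)` outside `E`
  obtain ⟨s, hs1, hsn, hsE⟩ : ∃ s ∈ W 1, s ∈ normalizer (ιE.range : Set P) ∧ s ∉ ιE.range := by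
    have h1 := Cfsg.Agent.H802.card_lt_card_normalizerIn (S := W 1) (e.pgroup.to_subgroup _) e.rangeE e.ne
    by_contra hcon
    push Not at hcon
    have h2 : Cfsg.FusionSystem.normalizerIn (W 1) ιE.range ≤ ιE.range := fun s hs => hcon s hs.1 hs.2
    exact absurd (Subgroup.card_le_of_le h2) (by omega)
  set b := τ ⟨s, hsn⟩ with hb
  have hr1 : (QuotientGroup.mk b : GE ⧸ II GE) ≠ 1 := fun h => hsE ((e.tau_eq_one hτ _).1 h)
  -- `b` acts trivially on `W i / W j`
  have hbt : ∀ t ∈ W 1, ∀ (ht : t ∈ normalizer (ιE.range : Set P)) (x : XE), ιE x ∈ W i →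
      θ (((τ ⟨t, ht⟩ : GE) : MulAut XE) x) = θ x := by
    intro t ht1 ht x hx
    rw [hθd, hτ]
    have e1 : t * ιE x * t⁻¹ * (ιE x)⁻¹ = ⁅t, ιE x⁆ := rfl
    rw [e1, ← commutatorElement_inv]
    exact inv_mem (hc (commutator_mem_commutator hx ht1))
  have hcomm : k * b * k⁻¹ * b⁻¹ ∈ C := by
    refine (hC _).2 ⟨?_, fun x hx => ?_⟩
    · have e1 : k * b * k⁻¹ * b⁻¹ = k * (b * k⁻¹ * b⁻¹) := by group
      rw [e1]
      exact mul_mem hkK (hKin.conj_mem _ (inv_mem hkK) b)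
    · have hbi : b⁻¹ = τ ⟨s⁻¹, inv_mem hsn⟩ := by
        rw [hb, ← map_inv]; rfl
      have y1 : ιE (((b⁻¹ : GE) : MulAut XE) x) ∈ W i := invE b⁻¹ x hx
      have t1 : θ (((b⁻¹ : GE) : MulAut XE) x) = θ x := by
        rw [hbi]
        exact hbt s⁻¹ (inv_mem hs1) (inv_mem hsn) x hx
      have y2 : ιE (((k⁻¹ : GE) : MulAut XE) (((b⁻¹ : GE) : MulAut XE) x)) ∈ W i := invE k⁻¹ _ y1
      have t2 := hbt s hs1 hsn _ y2
      have t3 := hθg k _ _ t2
      have e1 : ((k * b * k⁻¹ * b⁻¹ : GE) : MulAut XE) x =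
          (k : MulAut XE) ((b : MulAut XE) (((k⁻¹ : GE) : MulAut XE) (((b⁻¹ : GE) : MulAut XE) x))) := rfl
      have e2 : (k : MulAut XE) (((k⁻¹ : GE) : MulAut XE) (((b⁻¹ : GE) : MulAut XE) x)) =
          ((b⁻¹ : GE) : MulAut XE) x := by
        show ((k * k⁻¹ : GE) : MulAut XE) _ = _
        rw [mul_inv_cancel]; rfl
      rw [e1]
      rw [e2] at t3
      exact t3.trans t1
  have h1 : (QuotientGroup.mk (k * b * k⁻¹ * b⁻¹) : GE ⧸ II GE) ∈ H := hCH ⟨_, hcomm, rfl⟩
  have hbR : (QuotientGroup.mk b : GE ⧸ II GE) ∈ ((QuotientGroup.mk' (II GE)).comp τ).range := ⟨⟨s, hsn⟩, rfl⟩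
  have hbH := hse.le hbR
  have h2 : ((QuotientGroup.mk k : GE ⧸ II GE)⁻¹)⁻¹ * QuotientGroup.mk b * (QuotientGroup.mk k : GE ⧸ II GE)⁻¹ ∈ H := by
    have h3 := mul_mem h1 hbH
    have e1 : (QuotientGroup.mk (k * b * k⁻¹ * b⁻¹) : GE ⧸ II GE) * QuotientGroup.mk b =
        ((QuotientGroup.mk k : GE ⧸ II GE)⁻¹)⁻¹ * QuotientGroup.mk b * (QuotientGroup.mk k : GE ⧸ II GE)⁻¹ := by
      rw [inv_inv, ← QuotientGroup.mk_inv, ← QuotientGroup.mk_mul, ← QuotientGroup.mk_mul, ← QuotientGroup.mk_mul]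
      congr 1
      group
    rwa [e1] at h3
  have h4 := hse.emb_all hbH (hse.pgroup.to_le (zpowers_le.mpr hbR)) hr1 h2
  exact (Subgroup.inv_mem_iff H).1 h4

end Stage

end Cfsg.Agent.H42.MaxEss
end

-- part: H42/MaxEss/Quot
section
/-!
# Block III of S5267: the core configuration in `P / W j`
-/

set_option autoImplicit false

namespace Cfsg.Agent.H42.MaxEss

open Subgroup Cfsg.Agent.H786 Cfsg.Agent.H467.MaxClass
open scoped commutatorElement

universe u

variable {P XM XE : Type u} [Group P] [Group XM] [Group XE]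
variable {p n : ℕ} {W : ℕ → Subgroup P} {ιM : XM →* P} {ιE : XE →* P} {GM : Subgroup (MulAut XM)}
  {GE : Subgroup (MulAut XE)} {H : Subgroup (GE ⧸ II GE)}

/-- the elements of order dividing `p` in the centre of `E` -/
def om {Q : Type u} [Group Q] (p : ℕ) (E : Subgroup Q) : Subgroup Q where
  carrier := {v | v ∈ E ∧ v ^ p = 1 ∧ ∀ e ∈ E, Commute e v}
  one_mem' := ⟨one_mem _, one_pow _, fun e _ => Commute.one_right e⟩
  mul_mem' := by
    rintro v w ⟨hv, hv1, hv2⟩ ⟨hw, hw1, hw2⟩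
    refine ⟨mul_mem hv hw, ?_, fun e he => (hv2 e he).mul_right (hw2 e he)⟩
    rw [(hw2 v hv).mul_pow, hv1, hw1, one_mul]
  inv_mem' := by
    rintro v ⟨hv, hv1, hv2⟩
    exact ⟨inv_mem hv, by rw [inv_pow, hv1, inv_one], fun e he => (hv2 e he).inv_right⟩

theorem mem_om {Q : Type u} [Group Q] {p : ℕ} {E : Subgroup Q} {v : Q} :
    v ∈ om p E ↔ v ∈ E ∧ v ^ p = 1 ∧ ∀ e ∈ E, Commute e v := Iff.rfl

/-- membership in the image of a subgroup containing the kernel -/
theorem mem_map_mk {N A : Subgroup P} [N.Normal] (h : N ≤ A) {x : P} :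
    QuotientGroup.mk' N x ∈ A.map (QuotientGroup.mk' N) ↔ x ∈ A := by
  constructor
  · rintro ⟨y, hy, hyx⟩
    have h1 : y⁻¹ * x ∈ N := by
      rw [← QuotientGroup.eq]
      exact hyx
    have e : x = y * (y⁻¹ * x) := by group
    rw [e]
    exact mul_mem hy (h h1)
  · intro hx
    exact ⟨x, hx, rfl⟩

/-- the core lemma as a hypothesis -/
def CL (p : ℕ) : Prop :=
  ∀ {P : Type u} [Group P] [Finite P] {n : ℕ} {W : ℕ → Subgroup P} [(W 1).Normal]
    {A : Subgroup (MulAut (W 1))} {E V : Subgroup P} {Γ : Type u} [Group Γ] [Finite Γ] {ρ : Γ →* MulAut V}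
    {H : Subgroup Γ} {τ : (normalizer (E : Set P)) →* Γ}, Cfg p n W A E V ρ H τ → Concl n W A V ρ

variable [Finite P] [Finite XM] [Finite XE] [hp : Fact p.Prime]

/-- **From stage `j` to a smaller stage.** -/
theorem Stage.descend (hCL : CL.{u} p) (e : Ess p n W ιM ιE GM GE H) {j : ℕ} (hj4 : 4 ≤ j) (hjn : j ≤ n)
    (hs : Stage W ιM ιE GM GE H j) (hdeg : ∀ i k, 1 ≤ i → 1 ≤ k → ⁅W i, W k⁆ ≤ W (i + k + 1) ⊔ W j) :
    ∃ i, 1 ≤ i ∧ i < j ∧ Stage W ιM ιE GM GE H i := by
  have hnj := e.mc.normal j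
  have hn1 := e.mc.normal 1
  obtain ⟨τ, hτ⟩ := e.exists_tau0
  have hse := e.se hτ
  set q := QuotientGroup.mk' (W j) with hq
  have hqs : Function.Surjective q := QuotientGroup.mk'_surjective (W j)
  have hq1 : ∀ x, q x = 1 ↔ x ∈ W j := fun x => QuotientGroup.eq_one_iff _
  let W' : ℕ → Subgroup (P ⧸ W j) := fun i => (W i).map q
  have hmc : MC (P ⧸ W j) p j W' := e.mc.quot hj4 hjn
  have hn1' : (W' 1).Normal := hmc.normal 1
  let θM : XM →* P ⧸ W j := q.comp ιM
  let θE : XE →* P ⧸ W j := q.comp ιE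
  have hrM : θM.range = W' 1 := by
    show (q.comp ιM).range = (W 1).map q
    rw [MonoidHom.range_comp, e.rangeM]
  let E' : Subgroup (P ⧸ W j) := (ιE.range).map q
  have hrE : θE.range = E' := by
    show (q.comp ιE).range = _
    rw [MonoidHom.range_comp]
  have hE'1 : E' ≤ W' 1 := Subgroup.map_mono e.rangeE
  have hjle : W j ≤ ιE.range := hs.le
  have hj1 : W j ≤ W 1 := hjle.trans e.rangeE
  -- the actions
  obtain ⟨ρM, hρM⟩ := exists_act θM (W' 1) hrM.ge GM.subtype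
    (fun a x hx => (hq1 _).2 (hs.invM a a.2 x ((hq1 _).1 hx)))
    (fun a x _ => by rw [← hrM]; exact ⟨_, rfl⟩)
  have hgE : ∀ (g : GE) (x y : XE), θE x = θE y → θE ((g : MulAut XE) x) = θE ((g : MulAut XE) y) := by
    intro g x y hxy
    have h1 : θE (x * y⁻¹) = 1 := by rw [map_mul, map_inv, hxy, mul_inv_cancel]
    have h2 : θE ((g : MulAut XE) (x * y⁻¹)) = 1 := (hq1 _).2 (hs.invE g _ ((hq1 _).1 h1))
    rw [map_mul, map_inv, map_mul, map_inv] at h2
    exact mul_inv_eq_one.1 h2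
  obtain ⟨ρE, hρE⟩ := exists_act θE (om p E') (fun v hv => by rw [hrE]; exact hv.1) GE.subtype
    (fun g x hx => (hq1 _).2 (hs.invE g x ((hq1 _).1 hx)))
    (fun g x hx => by
      obtain ⟨-, h1, h2⟩ := hx
      refine ⟨?_, ?_, ?_⟩
      · rw [← hrE]; exact ⟨_, rfl⟩
      · have h3 : θE (x ^ p) = θE 1 := by rw [map_pow, h1, map_one]
        have h4 := hgE g _ _ h3
        rw [map_pow, map_one, map_pow, map_one] at h4
        exact h4
      · intro y hy
        rw [← hrE] at hy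
        obtain ⟨y, rfl⟩ := hy
        have h3 : θE (((g⁻¹ : GE) : MulAut XE) y * x) = θE (x * ((g⁻¹ : GE) : MulAut XE) y) := by
          rw [map_mul, map_mul]
          exact h2 _ (by rw [← hrE]; exact ⟨_, rfl⟩)
        have h4 := hgE g _ _ h3
        have h5 : (g : MulAut XE) (((g⁻¹ : GE) : MulAut XE) y) = y := by
          show ((g * g⁻¹ : GE) : MulAut XE) y = y
          rw [mul_inv_cancel]; rfl
        rw [map_mul, map_mul, map_mul, map_mul, h5] at h4
        exact h4)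
  -- descend to `Γ`
  have hI : ∀ g ∈ II GE, ρE g = 1 := by
    intro g hg
    obtain ⟨y, hy⟩ := Ess.mem_II.1 hg
    apply MulEquiv.ext
    intro v
    apply Subtype.ext
    have hv : (v : P ⧸ W j) ∈ θE.range := by rw [hrE]; exact v.2.1
    obtain ⟨x, hx⟩ := hv
    have h1 := hρE g v x hx
    rw [h1]
    show θE ((g : MulAut XE) x) = v
    rw [hy, map_mul, map_mul, map_inv, hx]
    have h2 : Commute (θE y) (v : P ⧸ W j) := v.2.2.2 _ (by rw [← hrE]; exact ⟨_, rfl⟩)
    rw [h2.eq, mul_inv_cancel_right]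
  let ρ : (GE ⧸ II GE) →* MulAut (om p E') := QuotientGroup.lift (II GE) ρE hI
  have hρ : ∀ (g : GE) (v : om p E') x, θE x = v → ((ρ (QuotientGroup.mk g) v : om p E') : P ⧸ W j) =
      θE ((g : MulAut XE) x) := fun g v x hx => hρE g v x hx
  -- the normaliser of `E'`
  have hnm : ∀ s : P, q s ∈ normalizer (E' : Set (P ⧸ W j)) ↔ s ∈ normalizer (ιE.range : Set P) := by
    intro s
    rw [mem_normalizer_iff, mem_normalizer_iff]
    constructor
    · intro h y
      have := h (q y)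
      rw [← map_inv, ← map_mul, ← map_mul] at this
      rw [mem_map_mk hjle, mem_map_mk hjle] at this
      exact this
    · intro h y
      obtain ⟨y, rfl⟩ := hqs y
      rw [← map_inv, ← map_mul, ← map_mul, mem_map_mk hjle, mem_map_mk hjle]
      exact h y
  let f : normalizer (ιE.range : Set P) →* normalizer (E' : Set (P ⧸ W j)) :=
    (q.comp (normalizer (ιE.range : Set P)).subtype).codRestrict _ fun s => (hnm s).2 s.2
  have hf : Function.Surjective f := by
    rintro ⟨t, ht⟩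
    obtain ⟨s, rfl⟩ := hqs t
    exact ⟨⟨s, (hnm s).1 ht⟩, rfl⟩
  let τΓ : normalizer (ιE.range : Set P) →* GE ⧸ II GE := (QuotientGroup.mk' (II GE)).comp τ
  have hker : f.ker ≤ τΓ.ker := by
    intro s hs'
    rw [MonoidHom.mem_ker] at hs' ⊢
    have h1 : q (s : P) = 1 := congrArg Subtype.val hs'
    exact (e.tau_eq_one hτ s).2 (hjle ((hq1 _).1 h1))
  let τ' : normalizer (E' : Set (P ⧸ W j)) →* GE ⧸ II GE := f.liftOfSurjective hf ⟨τΓ, hker⟩
  have hτ' : ∀ s, τ' (f s) = τΓ s := fun s => f.liftOfRightInverse_comp_apply _ _ ⟨τΓ, hker⟩ s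
  have hrange : τ'.range = τΓ.range := by
    ext γ
    constructor
    · rintro ⟨t, rfl⟩
      obtain ⟨s, rfl⟩ := hf t
      exact ⟨s, (hτ' s).symm⟩
    · rintro ⟨s, rfl⟩
      exact ⟨f s, hτ' s⟩
  have hcl : Concl j W' ρM.range (om p E') ρ := by
    refine hCL (Γ := GE ⧸ II GE) (E := E') (V := om p E') (ρ := ρ) (H := H) (τ := τ') ?_
    refine
      { mc := hmc
        deg := ?_
        five := e.five
        conj_le := ?_
        sylow := ?_
        E_le := hE'1
        E_ne := ?_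
        mem_V := fun v => mem_om
        ρτ := ?_
        ker := ?_
        H_ne := e.H_ne
        τ_mem := ?_
        emb := ?_
        sylowΓ := ?_
        ext := ?_
        cent := ?_ }
    · intro i k hi hk
      show ⁅(W i).map q, (W k).map q⁆ ≤ (W (i + k + 1)).map q
      rw [← map_commutator]
      refine (Subgroup.map_mono (hdeg i k hi hk)).trans ?_
      rw [Subgroup.map_sup, sup_le_iff]
      refine ⟨le_rfl, ?_⟩
      have h1 : (W j).map q = ⊥ := by
        rw [Subgroup.map_eq_bot_iff, QuotientGroup.ker_mk']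
      rw [h1]
      exact bot_le
    · rintro _ ⟨s', rfl⟩
      obtain ⟨s, rfl⟩ := hqs s'
      obtain ⟨a, ha, h1⟩ := e.conjM s
      refine ⟨⟨a, ha⟩, ?_⟩
      apply MulEquiv.ext
      intro v
      apply Subtype.ext
      have hv : (v : P ⧸ W j) ∈ θM.range := by rw [hrM]; exact v.2
      obtain ⟨x, hx⟩ := hv
      rw [hρM ⟨a, ha⟩ v x hx, MulAut.conjNormal_apply, ← hx]
      show q (ιM (a x)) = q s * q (ιM x) * (q s)⁻¹
      rw [h1, map_mul, map_mul, map_inv]
    · obtain ⟨T, hT⟩ := e.sylM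
      intro hd
      have h1 : (T : Subgroup GM).map ρM ≤ conjGrp (W' 1) := by
        rintro _ ⟨a, ha, rfl⟩
        obtain ⟨s, hs'⟩ := hT a ha
        refine ⟨q s, ?_⟩
        apply MulEquiv.ext
        intro v
        apply Subtype.ext
        have hv : (v : P ⧸ W j) ∈ θM.range := by rw [hrM]; exact v.2
        obtain ⟨x, hx⟩ := hv
        rw [hρM a v x hx, MulAut.conjNormal_apply, ← hx]
        show q s * q (ιM x) * (q s)⁻¹ = q (ιM ((a : MulAut XM) x))
        rw [hs', map_mul, map_mul, map_inv]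
      have h2 := (Subgroup.relIndex_dvd_of_le_left ρM.range h1)
      have h3 : ((T : Subgroup GM).map ρM).relIndex ρM.range ∣ (T : Subgroup GM).index := by
        have e1 : ((T : Subgroup GM).map ρM).relIndex ρM.range = ((T : Subgroup GM).map ρM.rangeRestrict).index := by
          rw [Subgroup.relIndex]
          congr 1
          ext ⟨y, hy⟩
          constructor
          · rintro ⟨a, ha, hay⟩
            exact ⟨a, ha, Subtype.ext hay⟩
          · rintro ⟨a, ha, hay⟩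
            exact ⟨a, ha, congrArg Subtype.val hay⟩
        rw [e1]
        exact (T : Subgroup GM).index_map_dvd ρM.rangeRestrict_surjective
      exact T.not_dvd_index (hd.trans (h2.trans h3))
    · intro h
      apply e.ne
      apply le_antisymm e.rangeE
      intro x hx
      rw [← mem_map_mk hjle]
      show q x ∈ E'
      rw [h]
      exact ⟨x, hx, rfl⟩
    · intro t v
      obtain ⟨s, rfl⟩ := hf t
      have hv : (v : P ⧸ W j) ∈ θE.range := by rw [hrE]; exact v.2.1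
      obtain ⟨x, hx⟩ := hv
      rw [hτ']
      have h1 := hρ (τ s) v x hx
      refine h1.trans ?_
      show q (ιE (((τ s : GE) : MulAut XE) x)) = q s * v * (q s)⁻¹
      rw [hτ, map_mul, map_mul, map_inv, ← hx]
      rfl
    · intro t
      obtain ⟨s, rfl⟩ := hf t
      rw [hτ']
      have h1 := e.tau_eq_one hτ s
      show (QuotientGroup.mk (τ s) : GE ⧸ II GE) = 1 ↔ q (s : P) ∈ E'
      rw [h1, mem_map_mk hjle]
    · intro t
      obtain ⟨s, rfl⟩ := hf t
      rw [hτ']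
      exact hse.le ⟨s, rfl⟩
    · intro γ hγ t ht
      obtain ⟨s, rfl⟩ := hf t
      rw [hτ'] at ht ⊢
      exact hse.emb γ hγ _ ⟨s, rfl⟩ ht
    · rw [hrange]
      exact hse.index
    · intro h hh
      obtain ⟨g, rfl⟩ := QuotientGroup.mk_surjective h
      obtain ⟨a, ha, h1⟩ := (e.mem_H g).1 hh
      refine ⟨ρM ⟨a, ha⟩, ⟨_, rfl⟩, ?_, ?_⟩
      · intro v
        have hv : (v : P ⧸ W j) ∈ θM.range := by rw [hrM]; exact v.2
        obtain ⟨x, hx⟩ := hv
        rw [hρM ⟨a, ha⟩ v x hx, ← hx]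
        show q (ιM x) ∈ E' ↔ q (ιM (a x)) ∈ E'
        rw [mem_map_mk hjle, mem_map_mk hjle]
        constructor
        · rintro ⟨y, hy⟩
          exact ⟨_, (h1 x y hy.symm).symm⟩
        · rintro ⟨y', hy'⟩
          obtain ⟨x', hx'⟩ : ∃ x', ιM x' = ιE (((g⁻¹ : GE) : MulAut XE) y') := by
            have : ιE (((g⁻¹ : GE) : MulAut XE) y') ∈ ιM.range := by
              rw [e.rangeM]
              exact e.rangeE ⟨_, rfl⟩
            exact this
          have h2 := h1 x' _ hx'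
          have h3 : (g : MulAut XE) (((g⁻¹ : GE) : MulAut XE) y') = y' := by
            show ((g * g⁻¹ : GE) : MulAut XE) y' = y'
            rw [mul_inv_cancel]; rfl
          rw [h3, hy'] at h2
          have h4 : x' = x := a.injective (e.injM h2)
          exact ⟨_, by rw [← hx', h4]⟩
      · intro v w hw
        have hv : (v : P ⧸ W j) ∈ θE.range := by rw [hrE]; exact v.2.1
        obtain ⟨y, hy⟩ := hv
        obtain ⟨x', hx'⟩ : ∃ x', ιM x' = ιE y := by
          have : ιE y ∈ ιM.range := by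
            rw [e.rangeM]
            exact e.rangeE ⟨_, rfl⟩
          exact this
        have h2 : θM x' = w := by
          show q (ιM x') = w
          rw [hx', hw, ← hy]
          rfl
        have h3 := hρM ⟨a, ha⟩ w x' h2
        have h4 := hρ g v y hy
        refine h3.trans (Eq.trans ?_ h4.symm)
        show q (ιM (a x')) = q (ιE ((g : MulAut XE) y))
        rw [h1 x' y hx']
    · intro t ht
      obtain ⟨s, rfl⟩ := hqs t
      have h1 : s ∈ ιE.range := hs.star e fun x => by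
        rw [← hq1, map_mul, map_mul, map_mul, map_inv, map_inv, (ht (q (ιE x)) ⟨ιE x, ⟨x, rfl⟩, rfl⟩).eq,
          mul_inv_cancel_right, mul_inv_cancel]
      exact ⟨s, h1, rfl⟩
  -- back to `P`
  obtain ⟨i, hi1, hij, hiV, hiW, hiA, hiΓ⟩ := hcl
  have hji : W j ≤ W i := e.mc.antitone hij.le
  have hiE : W i ≤ ιE.range := by
    intro x hx
    rw [← mem_map_mk hjle]
    exact (hiV ⟨x, hx, rfl⟩).1
  refine ⟨i, hi1, hij, hs.step e hij.le hiE ?_ ?_ ?_⟩
  · intro g x hx
    have h1 : θE x ∈ om p E' := hiV ⟨ιE x, hx, rfl⟩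
    have h2 := hiΓ (QuotientGroup.mk g) ⟨θE x, h1⟩ ⟨ιE x, hx, rfl⟩
    rw [hρ g ⟨θE x, h1⟩ x rfl] at h2
    exact (mem_map_mk hji).1 h2
  · intro a ha x hx
    have h1 : θM x ∈ W' 1 := by rw [← hrM]; exact ⟨_, rfl⟩
    have h2 := hiA _ ⟨⟨a, ha⟩, rfl⟩ ⟨θM x, h1⟩ ⟨ιM x, hx, rfl⟩
    rw [hρM ⟨a, ha⟩ ⟨θM x, h1⟩ x rfl] at h2
    exact (mem_map_mk hji).1 h2
  · have h1 : ⁅W i, W 1⁆.map q = ⊥ := by rw [map_commutator]; exact hiW
    rw [Subgroup.map_eq_bot_iff, QuotientGroup.ker_mk'] at h1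
    exact h1

/-- **Block III, group theoretic form.** -/
theorem Ess.false (hCL : CL.{u} p) (e : Ess p n W ιM ιE GM GE H) {j₀ : ℕ} (h3 : 3 ≤ j₀) (hn : j₀ ≤ n)
    (hdeg : ∀ i k, 1 ≤ i → 1 ≤ k → ⁅W i, W k⁆ ≤ W (i + k + 1) ⊔ W j₀) (hle : W j₀ ≤ ιE.range)
    (invE : ∀ g : GE, ∀ x, ιE x ∈ W j₀ → ιE ((g : MulAut XE) x) ∈ W j₀)
    (invM : ∀ a ∈ GM, ∀ x, ιM x ∈ W j₀ → ιM (a x) ∈ W j₀) (hc : ⁅W j₀, W 1⁆ = ⊥) : False := by
  have key : ∀ j, j ≤ j₀ → Stage W ιM ιE GM GE H j → False := by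
    intro j
    induction j using Nat.strong_induction_on with
    | _ j ih =>
      intro hj hs
      have hjj : W j₀ ≤ W j := e.mc.antitone hj
      rcases Nat.lt_or_ge j 4 with h4 | h4
      · refine hs.not_abelian e ((hdeg 1 1 le_rfl le_rfl).trans (sup_le (e.mc.antitone (by omega)) hjj))
      · obtain ⟨i, -, hij, hi⟩ := hs.descend hCL e h4 (hj.trans hn)
          (fun i k hi hk => (hdeg i k hi hk).trans (sup_le_sup_left hjj _))
        exact ih i hij (by omega) hi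
  refine key j₀ le_rfl ((Stage.top e).step e hn hle invE invM ?_)
  rw [hc]
  exact bot_le

end Cfsg.Agent.H42.MaxEss
end
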